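import Cfsg.Agent.Lib.OrthOuter.Involution
import Cfsg.Agent.Lib.FieldAut.OrthBasic

/-!
# Semisimilarities acting on `PΩ`

* `semi_induced` : the automorphism of a semisimilarity; `gammaPOmega_mem` : every element of `gammaPOmega` is one
* `semi_eq_one` : only scalars act trivially
* `exists_sim_of_involution` : for a non-square discriminant an involution in `gammaPOmega` is induced by a similarity
-/

set_option autoImplicit false
set_option linter.unusedSectionVars false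

namespace Cfsg.Agent.OrthOuter

open Cfsg Matrix Module Cfsg.Agent.Orth Cfsg.Agent.FieldAut
open QuadraticMap (polar)

variable {ι : Type} [Fintype ι] [DecidableEq ι] {F : Type*} [Field F] [Fintype F]
variable {Q : QuadraticForm F (ι → F)} {k : ℕ}

/-- The automorphism `x ↦ g σ(x) g⁻¹` of the general linear group. -/
def psi (g : GL ι F) (σ : F ≃+* F) : MulAut (GL ι F) := MulAut.conj g * galGL σ

theorem semi_iso_mem {g : GL ι F} {σ : F ≃+* F} (hs : IsSemisimilarityPair ⇑Q g σ) {x : GL ι F}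
    (hx : x ∈ isometryGroup F ⇑Q) : psi g σ x ∈ isometryGroup F ⇑Q := by
  obtain ⟨c, hc⟩ := hs
  refine FieldAut.mem_iso_iff.2 fun v => ?_
  set w : ι → F := σ.symm ∘ (((g⁻¹ : GL ι F) : Matrix ι ι F) *ᵥ v) with hw
  have hσw : σ ∘ w = ((g⁻¹ : GL ι F) : Matrix ι ι F) *ᵥ v := funext fun i => σ.apply_symm_apply _
  have hv : v = (g : Matrix ι ι F) *ᵥ (σ ∘ w) := by
    rw [hσw, Matrix.mulVec_mulVec, ← Units.val_mul, mul_inv_cancel, Units.val_one, Matrix.one_mulVec]
  have h1 : ((psi g σ x : GL ι F) : Matrix ι ι F) *ᵥ v =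
      (g : Matrix ι ι F) *ᵥ (σ ∘ ((x : Matrix ι ι F) *ᵥ w)) := by
    show ((g * galGL σ x * g⁻¹ : GL ι F) : Matrix ι ι F) *ᵥ v = _
    rw [Units.val_mul, Units.val_mul, ← Matrix.mulVec_mulVec, ← hσw, ← Matrix.mulVec_mulVec,
      galGL_mulVec]
  rw [h1]
  conv_rhs => rw [hv]
  exact ((hc _).trans (by rw [FieldAut.mem_iso_iff.1 hx])).trans (hc w).symm

theorem semi_keep {g : GL ι F} {σ : F ≃+* F} (hs : IsSemisimilarityPair ⇑Q g σ) :
    psi g σ ∈ keep (omMat ⇑Q) := by
  refine mem_keep_om fun x => ⟨semi_iso_mem hs, fun hx => ?_⟩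
  have hsub : (isometryGroup F ⇑Q).map (psi g σ).toMonoidHom ≤ isometryGroup F ⇑Q := by
    rintro _ ⟨y, hy, rfl⟩
    exact semi_iso_mem hs hy
  have heq := Subgroup.eq_of_le_of_card_ge hsub
    (le_of_eq (Nat.card_congr ((isometryGroup F ⇑Q).equivMapOfInjective _ (psi g σ).injective).toEquiv))
  rw [← heq] at hx
  obtain ⟨y, hy, hyx⟩ := hx
  exact (psi g σ).injective hyx ▸ hy

theorem semisim_mul {g h : GL ι F} {σ τ : F ≃+* F} (hg : IsSemisimilarityPair ⇑Q g σ)
    (hh : IsSemisimilarityPair ⇑Q h τ) : IsSemisimilarityPair ⇑Q (g * galGL σ h) (σ * τ) := by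
  obtain ⟨c, hc⟩ := hg
  obtain ⟨d, hd⟩ := hh
  refine ⟨c * Units.map σ.toMonoidHom d, fun v => ?_⟩
  have h1 : (fun i => (σ * τ) (v i)) = σ ∘ (fun i => τ (v i)) := rfl
  rw [h1, Units.val_mul, ← Matrix.mulVec_mulVec, galGL_mulVec]
  refine (hc _).trans ?_
  rw [hd, map_mul, Units.val_mul, mul_assoc]
  rfl

theorem psi_mul (g h : GL ι F) (σ τ : F ≃+* F) :
    psi g σ * psi h τ = psi (g * galGL σ h) (σ * τ) := by
  ext1 x
  simp [psi, MulAut.mul_apply, MulAut.conj_apply, map_mul, mul_assoc]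

variable (Q) in
/-- The automorphisms of the general linear group coming from semisimilarities. -/
def semiSet : Submonoid (MulAut (GL ι F)) where
  carrier := {ψ | ∃ g σ, IsSemisimilarityPair ⇑Q g σ ∧ ψ = psi g σ}
  one_mem' := ⟨1, RingEquiv.refl F, ⟨1, fun v => by simp⟩, by
    rw [psi, map_one, one_mul]; exact (map_one galGL).symm⟩
  mul_mem' := by
    rintro _ _ ⟨g, σ, hg, rfl⟩ ⟨h, τ, hh, rfl⟩
    exact ⟨_, _, semisim_mul hg hh, psi_mul g h σ τ⟩

theorem semiSet_le_keep : semiSet Q ≤ (keep (omMat ⇑Q)).toSubmonoid := by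
  rintro _ ⟨g, σ, hg, rfl⟩
  exact semi_keep hg

theorem semi_induced (hinj : Function.Injective (omMat ⇑Q)) {g : GL ι F} {σ : F ≃+* F}
    (hs : IsSemisimilarityPair ⇑Q g σ) (β : POmega F ⇑Q ≃* POmega F ⇑Q) :
    IsInducedBySemilinearPOmega ⇑Q g σ β ↔ β = indAut hinj ⟨psi g σ, semi_keep hs⟩ :=
  (isInd_semilinear_om g σ β).trans (isInd_iff hinj (semi_keep hs))

theorem gammaPOmega_mem (hinj : Function.Injective (omMat ⇑Q)) {β : MulAut (POmega F ⇑Q)}
    (hβ : β ∈ gammaPOmega F ⇑Q) : ∃ (g : GL ι F) (σ : F ≃+* F) (hs : IsSemisimilarityPair ⇑Q g σ),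
      β = indAut hinj ⟨psi g σ, semi_keep hs⟩ := by
  let Γ : Submonoid (keep (omMat ⇑Q)) := (semiSet Q).comap (keep (omMat ⇑Q)).subtype
  haveI : Finite (GL ι F) := inferInstance
  haveI : Finite (MulAut (GL ι F)) :=
    Finite.of_injective (fun e => (e : GL ι F → GL ι F)) DFunLike.coe_injective
  let G : Subgroup (keep (omMat ⇑Q)) :=
    { Γ with
      inv_mem' := fun {x} hx => by
        have h1 : x⁻¹ = x ^ (orderOf x - 1) := by
          refine inv_eq_of_mul_eq_one_right ?_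
          rw [← pow_succ', Nat.sub_add_cancel (orderOf_pos x), pow_orderOf_eq_one]
        rw [h1]
        exact Γ.pow_mem hx _ }
  have hle : gammaPOmega F ⇑Q ≤ G.map (indAut hinj) := by
    refine (Subgroup.closure_le _).2 ?_
    rintro β ⟨g, σ, hs, hi⟩
    exact ⟨⟨psi g σ, semi_keep hs⟩, ⟨g, σ, hs, rfl⟩, ((semi_induced hinj hs β).1 hi).symm⟩
  obtain ⟨⟨_, hψ⟩, ⟨g, σ, hs, rfl⟩, rfl⟩ := hle hβ
  exact ⟨g, σ, hs, rfl⟩

theorem semi_eq_one (h : Ctx Q k) {g : GL ι F} {σ : F ≃+* F}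
    (hψ : psi g σ ∈ keep (omMat ⇑Q))
    (h1 : indAut (omMat_injective (Qf := ⇑Q)) ⟨psi g σ, hψ⟩ = 1) :
    σ = 1 ∧ g ∈ Geo.scalars ι F := by
  have hr := omRigid h.nd h.five
  have hn : 3 ≤ Fintype.card ι := by have := h.five; omega
  haveI : Nonempty ι := Fintype.card_pos_iff.1 (by omega)
  set R : Matrix ι ι F ≃+* Matrix ι ι F := σ.mapMatrix.trans (conjRing g)
  have hR : ∀ x : GL ι F, ((psi g σ x : GL ι F) : Matrix ι ι F) = R x := fun x => rfl
  have hfix : ∀ u : ↥(Omega F ⇑Q), IsNilpotent ((omMat ⇑Q u : Matrix ι ι F) - 1) →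
      R (omMat ⇑Q u : Matrix ι ι F) = (omMat ⇑Q u : Matrix ι ι F) := by
    intro u hu
    rw [← hR, indAut_fixes_unipotent (ψ := ⟨psi g σ, hψ⟩) hr hR h1 hu]
  have hσ : σ = 1 := by
    obtain ⟨e, f, hp⟩ := exists_hpair h.nd hn
    obtain ⟨w, hw, hQw⟩ := hp.exists_nonsing_perp h.nd hn
    obtain ⟨hew, hfw⟩ := mem_perp.1 hw
    have hewt : ∀ t : F, polar ⇑Q e (t • w) = 0 := fun t => by rw [pl_smul_right, hew, mul_zero]
    let E : F → Matrix ι ι F := fun t =>
      ((eich Q e (t • w) : IsoGrp Q) : GL ι F).1 - ((eich Q e ((-t) • w) : IsoGrp Q) : GL ι F).1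
    have hE : ∀ t, R (E t) = E t := fun t => by
      show R (_ - _) = _
      rw [map_sub]
      congr 1
      · exact hfix ⟨eich Q e (t • w), h.hE (eich_mem_eichGen _ _)⟩
          (eich_unipotent hp.qe (hewt t))
      · exact hfix ⟨eich Q e ((-t) • w), h.hE (eich_mem_eichGen _ _)⟩
          (eich_unipotent hp.qe (hewt (-t)))
    have happ : ∀ t x, E t *ᵥ x =
        (2 * t) • (polar ⇑Q e x • w - polar ⇑Q w x • e) := fun t x => by
      show (_ - _) *ᵥ x = _
      rw [Matrix.sub_mulVec, ← ap_apply, ← ap_apply, eich_ap hp.qe (hewt t),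
        eich_ap hp.qe (hewt (-t))]
      simp only [pl_smul_left, Q_smul]
      module
    have hlin : ∀ t, E t = t • E 1 := fun t => Matrix.ext_of_mulVec_single fun i => by
      rw [Matrix.smul_mulVec, happ, happ, smul_smul]
      congr 1
      ring
    have hE1 : E 1 ≠ 0 := fun h0 => by
      have h2 := happ 1 f
      rw [h0, Matrix.zero_mulVec, hp.pf] at h2
      have h3 := congrArg (polar ⇑Q w) h2.symm
      simp only [pl_smul_right, pl_sub_right, pl_zero_right, pl_self, mul_one, one_smul] at h3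
      rw [pl_comm Q w f, hfw, zero_mul, sub_zero] at h3
      exact mul_ne_zero h.two (mul_ne_zero h.two hQw) h3
    refine RingEquiv.ext fun t => ?_
    have h2 := hE t
    rw [hlin t] at h2
    have hRs : R (t • E 1) = σ t • R (E 1) := by
      show (g : Matrix ι ι F) * (t • E 1).map σ * _ = σ t • ((g : Matrix ι ι F) * (E 1).map σ * _)
      rw [show (t • E 1).map σ = σ t • (E 1).map σ by ext; simp, Matrix.mul_smul, Matrix.smul_mul]
    rw [hRs, hE 1] at h2
    have := sub_smul (σ t) t (E 1)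
    rw [h2, sub_self] at this
    exact sub_eq_zero.1 ((smul_eq_zero.1 this).resolve_right hE1)
  subst hσ
  refine ⟨rfl, ?_⟩
  have e : psi g (1 : F ≃+* F) = MulAut.conj g := by rw [psi, map_one, mul_one]
  simp only [e] at hψ h1
  exact (FieldAut.conjAut_eq_one_iff hr hψ).1 h1

theorem hilbert90 {σ : F ≃+* F} (hσ : σ ≠ 1) (hσ2 : ∀ x, σ (σ x) = x) {u : F}
    (hu : u * σ u = 1) : ∃ w : F, w ≠ 0 ∧ w = u * σ w := by
  by_cases h1 : u = -1
  · obtain ⟨x, hx⟩ : ∃ x, σ x ≠ x := by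
      by_contra! hall
      exact hσ (RingEquiv.ext hall)
    exact ⟨x - σ x, sub_ne_zero.2 (Ne.symm hx), by rw [h1, map_sub, hσ2]; ring⟩
  · refine ⟨1 + u, fun e => h1 (eq_neg_of_add_eq_zero_right e), ?_⟩
    rw [map_add, map_one, mul_add, hu, mul_one, add_comm]

open Classical in
theorem quadraticChar_map (σ : F ≃+* F) {x : F} (hx : x ≠ 0) :
    quadraticChar F (σ x) = quadraticChar F x := by
  rcases quadraticChar_dichotomy hx with h | h <;> rw [h]
  · rw [quadraticChar_one_iff_isSquare hx] at h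
    rw [quadraticChar_one_iff_isSquare (by simpa using hx)]
    exact h.map σ
  · rw [quadraticChar_neg_one_iff_not_isSquare] at h ⊢
    exact fun h' => h (by simpa using h'.map σ.symm)

open Classical in
theorem fixed_isSquare {σ : F ≃+* F} (hσ : σ ≠ 1) (hσ2 : ∀ x, σ (σ x) = x) {f : F} (hf : f ≠ 0)
    (hff : σ f = f) : quadraticChar F f = 1 := by
  let s : Fˣ →* Fˣ := Units.map σ.toMonoidHom
  let M : Fˣ →* Fˣ := MonoidHom.id Fˣ * s⁻¹
  let N : Fˣ →* Fˣ := MonoidHom.id Fˣ * s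
  have hMN : M.range = N.ker := by
    apply le_antisymm
    · rintro _ ⟨x, rfl⟩
      refine Units.ext ?_
      simp [M, N, s, hσ2]

    · intro u hu
      have h1 : (u : F) * σ u = 1 := congrArg Units.val hu
      obtain ⟨w, hw0, hw⟩ := hilbert90 hσ hσ2 h1
      refine ⟨Units.mk0 w hw0, Units.ext ?_⟩
      simp only [M, s, MonoidHom.mul_apply, MonoidHom.id_apply, MonoidHom.inv_apply, Units.val_mul,
        Units.val_inv_eq_inv_val, Units.val_mk0]
      show w * (σ w)⁻¹ = u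
      rw [mul_inv_eq_iff_eq_mul₀ (by simpa using hw0)]
      exact hw
  have hle : N.range ≤ M.ker := by
    rintro _ ⟨x, rfl⟩
    refine Units.ext ?_
    simp [M, N, s, hσ2, mul_comm]
  have h1 := Subgroup.card_mul_index M.ker
  have h2 := Subgroup.card_mul_index N.ker
  rw [Subgroup.index_ker, hMN] at h1
  rw [Subgroup.index_ker] at h2
  have heq : N.range = M.ker := Subgroup.eq_of_le_of_card_ge hle (by
    have hpos : 0 < Nat.card N.ker := Nat.card_pos
    exact le_of_eq (Nat.eq_of_mul_eq_mul_right hpos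
      (h1.trans (h2.symm.trans (mul_comm _ _)))))
  have hfm : Units.mk0 f hf ∈ M.ker := by
    refine Units.ext ?_
    simp [M, s, hff, hf]
  rw [← heq] at hfm
  obtain ⟨x, hx⟩ := hfm
  have h3 := congrArg Units.val hx
  simp only [N, s, MonoidHom.mul_apply, MonoidHom.id_apply, Units.val_mul, Units.val_mk0] at h3
  rw [← h3, map_mul, show ((Units.map σ.toMonoidHom x : Fˣ) : F) = σ x from rfl,
    quadraticChar_map σ x.ne_zero, ← sq, quadraticChar_sq_one x.ne_zero]

open Classical in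
theorem exists_sim_of_involution (h : Ctx Q k)
    (hdisc : quadraticChar F ((-1) ^ k * (Orth.gram ⇑Q).det) = -1)
    {β : MulAut (POmega F ⇑Q)} (hβ : β ∈ gammaPOmega F ⇑Q) (hβ2 : β ^ 2 = 1) :
    ∃ g : Sim Q, β = conjAut Q g := by
  obtain ⟨g, σ, hs, hβe⟩ := gammaPOmega_mem (omMat_injective (Qf := ⇑Q)) hβ
  by_cases hσ : σ = 1
  · subst hσ
    refine ⟨⟨g, ?_⟩, ?_⟩
    · obtain ⟨c, hc⟩ := hs
      exact ⟨c, fun v => hc v⟩
    · exact (induced_iff _ β).1 ((semi_induced (omMat_injective (Qf := ⇑Q)) hs β).2 hβe)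
  exfalso
  rw [sq, hβe, ← map_mul] at hβ2
  have hψ2 : psi g σ * psi g σ = psi (g * galGL σ g) (σ * σ) := psi_mul g g σ σ
  have hk2 : psi (g * galGL σ g) (σ * σ) ∈ keep (omMat ⇑Q) :=
    hψ2 ▸ mul_mem (semi_keep hs) (semi_keep hs)
  have h1 : indAut (omMat_injective (Qf := ⇑Q)) ⟨_, hk2⟩ = 1 := by
    rw [← hβ2]
    exact congrArg _ (Subtype.ext hψ2.symm)
  obtain ⟨hσσ, hsc⟩ := semi_eq_one h hk2 h1
  have hσ2 : ∀ x, σ (σ x) = x := fun x => RingEquiv.congr_fun hσσ x
  obtain ⟨l, hl⟩ := (Geo.mem_scalars_iff _).1 hsc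
  obtain ⟨c, hc⟩ := hs
  set M := (g : Matrix ι ι F) with hM
  -- the multiplier norm
  obtain ⟨v, hv⟩ := h.exists_ne
  have hcc : (c : F) * σ c = (l : F) * l := by
    have e1 := hc (fun i => ((M *ᵥ (σ ∘ v))) i)
    have e2 : (fun i => σ ((M *ᵥ (σ ∘ v)) i)) = (galGL σ g : GL ι F).1 *ᵥ v := by
      have := galGL_mulVec σ g (σ ∘ v)
      rw [show σ ∘ σ ∘ v = v from funext fun i => hσ2 (v i)] at this
      exact this.symm
    rw [e2, Matrix.mulVec_mulVec, hM, ← Units.val_mul, hl, Matrix.smul_mulVec, Matrix.one_mulVec,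
      Q_smul] at e1
    have e3 : Q ((g : Matrix ι ι F) *ᵥ (σ ∘ v)) = (c : F) * σ (Q v) := hc v
    rw [e3, map_mul, hσ2, ← mul_assoc] at e1
    exact (mul_right_cancel₀ hv e1).symm
  -- the discriminant
  set G := Orth.gram ⇑Q with hG
  have hd0 : G.det ≠ 0 := det_gram_ne_zero h.nd
  have hGg : Mᵀ * G * M = (c : F) • G.map σ := by
    have hpol : ∀ x y : ι → F, polar ⇑Q (M *ᵥ (σ ∘ x)) (M *ᵥ (σ ∘ y)) = (c : F) * σ (polar ⇑Q x y) := by
      intro x y
      have e : σ ∘ (x + y) = σ ∘ x + σ ∘ y := funext fun i => map_add σ _ _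
      have e1 : Q (M *ᵥ (σ ∘ (x + y))) = (c : F) * σ (Q (x + y)) := hc (x + y)
      rw [e, Matrix.mulVec_add] at e1
      simp only [polar, map_sub, mul_sub]
      rw [e1, show Q (M *ᵥ (σ ∘ x)) = (c : F) * σ (Q x) from hc x,
        show Q (M *ᵥ (σ ∘ y)) = (c : F) * σ (Q y) from hc y]
    ext i j
    have hij := hpol (Pi.single i 1) (Pi.single j 1)
    rw [show σ ∘ (Pi.single i 1 : ι → F) = Pi.single i 1 by funext l; simp [Pi.single_apply, apply_ite σ],
      show σ ∘ (Pi.single j 1 : ι → F) = Pi.single j 1 by funext l; simp [Pi.single_apply, apply_ite σ],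
      Matrix.mulVec_single_one, Matrix.mulVec_single_one, polar_sum_left] at hij
    simp only [Matrix.smul_apply, Matrix.map_apply, smul_eq_mul, hG, Orth.gram, Matrix.of_apply]
    rw [← hij, Matrix.mul_assoc, Matrix.mul_apply]
    refine Finset.sum_congr rfl fun a _ => ?_
    rw [Matrix.transpose_apply, Matrix.mul_apply, Matrix.col_apply, pl_comm Q (Pi.single a 1),
      polar_sum_left]
    congr 1
    refine Finset.sum_congr rfl fun b _ => ?_
    rw [Matrix.col_apply, Matrix.of_apply, pl_comm]; ring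
  have hdet := congrArg Matrix.det hGg
  rw [Matrix.det_mul, Matrix.det_mul, Matrix.det_transpose, Matrix.det_smul, h.card,
    show (G.map σ).det = σ G.det from (RingEquiv.map_det σ G).symm] at hdet
  have hNg : M.det * σ M.det = (l : F) ^ (2 * k) := by
    have h2 := congrArg Matrix.det hl
    rw [Units.val_mul, Matrix.det_mul, Matrix.det_smul, Matrix.det_one, mul_one, h.card] at h2
    rw [← h2]
    congr 1
    exact RingEquiv.map_det σ M
  have hMd : M.det ≠ 0 := (g.isUnit.map Matrix.detMonoidHom).ne_zero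
  set u := (c : F) ^ k / M.det with hu
  have hσM : σ M.det ≠ 0 := by simpa using hMd
  have huu : u * σ u = 1 := by
    rw [hu, map_div₀, map_pow, div_mul_div_comm, ← mul_pow, hcc, hNg, ← sq, ← pow_mul, div_self]
    exact pow_ne_zero _ l.ne_zero
  have hud : G.det = u ^ 2 * σ G.det := by
    have : u ^ 2 * M.det ^ 2 = (c : F) ^ (2 * k) := by
      rw [hu, div_pow, div_mul_cancel₀ _ (pow_ne_zero 2 hMd), ← pow_mul, mul_comm k]
    refine mul_left_cancel₀ (pow_ne_zero 2 hMd) ?_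
    linear_combination hdet - σ G.det * this
  obtain ⟨w, hw0, hw⟩ := hilbert90 hσ hσ2 huu
  have hσw : σ w ≠ 0 := by simpa using hw0
  have hfix : σ (G.det / w ^ 2) = G.det / w ^ 2 := by
    rw [map_div₀, map_pow]
    field_simp
    linear_combination (σ G.det * (w + u * σ w)) * hw - (σ w) ^ 2 * hud
  have hsq := fixed_isSquare hσ hσ2 (div_ne_zero hd0 (pow_ne_zero 2 hw0)) hfix
  have hneg := fixed_isSquare (f := (-1 : F)) hσ hσ2 (neg_ne_zero.2 one_ne_zero) (by simp)
  have hG1 : quadraticChar F G.det = 1 := by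
    rw [← div_mul_cancel₀ G.det (pow_ne_zero 2 hw0), map_mul, hsq, quadraticChar_sq_one' hw0, one_mul]
  rw [map_mul, map_pow, hneg, hG1, one_pow, one_mul] at hdisc
  norm_num at hdisc

end Cfsg.Agent.OrthOuter
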