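import Cfsg.Agent.Lib.OrthOuter.Structure
import Cfsg.Agent.Lib.Forms.Count

/-!
# The plus and minus models

* `spin_eq_det` : `spin g = χ(det gram · det (g - 1))` without fixed vectors
* `ctxPlus`, `diagPlus`, `negOne_plus_iff`; `ctxMinus`, `diagMinus`, `negOne_minus_iff`
-/

set_option autoImplicit false
set_option linter.unusedSectionVars false

namespace Cfsg.Agent.OrthOuter

open Cfsg Matrix Module Cfsg.Agent.Orth
open QuadraticMap (polar)

variable {ι : Type} [Fintype ι] [DecidableEq ι] {F : Type*} [Field F] [Fintype F]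
variable {Q : QuadraticForm F (ι → F)} {k : ℕ}

theorem two_ne_zero_of_odd (hodd : Odd (Fintype.card F)) : (2 : F) ≠ 0 := by
  apply Ring.two_ne_zero
  intro h
  exact (Nat.not_even_iff_odd.2 hodd) (Nat.even_iff.2 (FiniteField.even_card_of_char_two h))

open Classical in
theorem spin_eq_det (hev : Even (Fintype.card ι)) (g : IsoGrp Q)
    (hdet : (((g : GL ι F) : Matrix ι ι F) - 1).det ≠ 0) :
    spin g = quadraticChar F ((gram ⇑Q).det * (((g : GL ι F) : Matrix ι ι F) - 1).det) := by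
  set M := ((g : GL ι F) : Matrix ι ι F) - 1 with hM
  set e := (Fintype.equivFin ι).symm
  have hw : ∀ i, ap g (Pi.single (e i) 1) - Pi.single (e i) 1 = M.col (e i) := fun i => by
    rw [hM, ap_apply, Matrix.mulVec_single_one]
    ext j
    simp [Matrix.one_apply, Pi.single_apply]
  have hu : IsUnit M := (Matrix.isUnit_iff_isUnit_det M).2 (isUnit_iff_ne_zero.2 hdet)
  have hind : LinearIndependent F fun i => M.col (e i) :=
    (Matrix.linearIndependent_cols_iff_isUnit.2 hu).comp e e.injective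
  have hspan : Submodule.span F (Set.range fun i => M.col (e i)) = resSpace g := by
    rw [show (fun i => M.col (e i)) = M.col ∘ e from rfl, EquivLike.range_comp,
      ← Matrix.range_mulVecLin]
    ext x
    rw [mem_resSpace, LinearMap.mem_range]
    simp [hM, ap_apply, Matrix.sub_mulVec]
  rw [spin_eq _ (fun i => (Pi.single (e i) 1 : ι → F)) hind hspan hw]
  have hWM : wallMat Q (fun i => M.col (e i)) (fun i => (Pi.single (e i) 1 : ι → F)) =
      (Mᵀ * gram ⇑Q).submatrix e e := by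
    ext i j
    simp only [wallMat, Matrix.of_apply, Matrix.submatrix_apply, Matrix.mul_apply, Matrix.transpose_apply,
      Orth.gram]
    show (Q.polarBilin (M.col (e i))) (Pi.single (e j) 1) = _
    conv_lhs => rw [pi_eq_sum_univ' (M.col (e i))]
    simp [map_sum]
  rw [hWM, Matrix.det_submatrix_equiv_self, Matrix.det_mul, Matrix.det_transpose, hev.neg_one_pow,
    one_mul, mul_comm M.det]

open Classical in
theorem diag_of (h : Ctx Q k) (M : GL ι F) (ν : Fˣ) (hν : chi F ν = -1)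
    (hm : ∀ v, Q ((M : Matrix ι ι F) *ᵥ v) = (ν : F) * Q v)
    (hdet : (M : Matrix ι ι F).det = (ν : F) ^ k) (r : F) (hr : r ≠ 0)
    (hsq : (gram ⇑Q).det * ((M : Matrix ι ι F) * (M : Matrix ι ι F) - (ν : F) • 1).det =
      (ν : F) ^ k * (r * r)) : Diag Q k := by
  set g : Sim Q := ⟨M, ν, hm⟩ with hg
  obtain ⟨o, ho⟩ := exists_of_mult_one h ((scal Q ν)⁻¹ * (g * g)) (by
    rw [map_mul, map_inv, mult_scal, map_mul, mult_eq h.exists_ne (g := g) hm, inv_mul_cancel])
  have hgg : g * g = scal Q ν * toSim Q o := by rw [ho, mul_inv_cancel_left]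
  refine ⟨g, ν, o, hν, hm, Units.ext ?_, hgg, ?_⟩
  · rw [sdet_coe, Units.val_pow_eq_pow_val]; exact hdet
  have hmat : (ν : F) • ((o : GL ι F) : Matrix ι ι F) = (M : Matrix ι ι F) * (M : Matrix ι ι F) := by
    have h1 := congrArg (fun z : Sim Q => ((z : GL ι F) : Matrix ι ι F)) hgg
    simp only [Subgroup.coe_mul, Units.val_mul, hg, toSim_coe] at h1
    rw [h1]
    show _ = Matrix.scalar ι (ν : F) * _
    simp [← Matrix.smul_one_eq_diagonal]
  have hd : ((M : Matrix ι ι F) * (M : Matrix ι ι F) - (ν : F) • 1).det =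
      (ν : F) ^ (2 * k) * (((o : GL ι F) : Matrix ι ι F) - 1).det := by
    rw [← hmat, ← smul_sub, Matrix.det_smul, h.card]
  rw [hd, ← mul_assoc, mul_comm (gram ⇑Q).det, mul_assoc] at hsq
  have hne : ((o : GL ι F) : Matrix ι ι F).det ≠ 0 := ((o : GL ι F).isUnit.map Matrix.detMonoidHom).ne_zero
  have hd0 : (((o : GL ι F) : Matrix ι ι F) - 1).det ≠ 0 := fun h0 => by
    rw [h0, mul_zero, mul_zero] at hsq
    exact mul_ne_zero (pow_ne_zero k ν.ne_zero) (mul_ne_zero hr hr) hsq.symm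
  rw [spin_eq_det (by rw [h.card]; exact even_two_mul k) o hd0]
  have := congrArg (quadraticChar F) hsq
  rw [map_mul, map_pow, pow_mul, quadraticChar_sq_one ν.ne_zero, one_pow, one_mul, map_mul,
    map_mul (quadraticChar F) _ (r * r), ← sq, quadraticChar_sq_one' hr, mul_one, map_pow,
    ← chi_coe, hν] at this
  rw [map_mul, this]
  simp

/-! ### plus -/

theorem ctxPlus (hodd : Odd (Fintype.card F)) {m : ℕ} (hm : 3 ≤ m) : Ctx (quadPlus m F) m :=
  ⟨quadPlus_nondeg m, two_ne_zero_of_odd hodd, by simp [two_mul], hm⟩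

theorem fromBlocks_sub' {n₁ n₂ : Type} (A A' : Matrix n₁ n₁ F) (B B' : Matrix n₁ n₂ F)
    (C C' : Matrix n₂ n₁ F) (D D' : Matrix n₂ n₂ F) :
    Matrix.fromBlocks A B C D - Matrix.fromBlocks A' B' C' D' =
      Matrix.fromBlocks (A - A') (B - B') (C - C') (D - D') := by
  ext (i | i) (j | j) <;> rfl

/-- The block-diagonal matrix `(ν·1, 1)`. -/
def dPlus (m : ℕ) (ν : F) : Matrix (Fin m ⊕ Fin m) (Fin m ⊕ Fin m) F :=
  Matrix.fromBlocks (ν • 1) 0 0 1

theorem quadFormPlus_dPlus (m : ℕ) (ν : F) (v : Fin m ⊕ Fin m → F) :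
    quadFormPlus m F (dPlus m ν *ᵥ v) = ν * quadFormPlus m F v := by
  simp only [quadFormPlus, dPlus, Matrix.fromBlocks_mulVec, Sum.elim_inl, Sum.elim_inr,
    Matrix.smul_mulVec, Matrix.one_mulVec, Matrix.zero_mulVec, add_zero, zero_add, Pi.smul_apply,
    Function.comp_apply, smul_eq_mul, Finset.mul_sum, mul_assoc]

theorem det_dPlus (m : ℕ) (ν : F) : (dPlus m ν).det = ν ^ m := by
  rw [dPlus, Matrix.det_fromBlocks_zero₂₁]; simp

theorem det_dPlus_sq (m : ℕ) (ν : F) :
    (dPlus m ν * dPlus m ν - ν • 1).det = (ν ^ 2 - ν) ^ m * (1 - ν) ^ m := by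
  rw [dPlus, Matrix.fromBlocks_multiply, ← Matrix.fromBlocks_one, Matrix.fromBlocks_smul,
    fromBlocks_sub']
  simp only [Matrix.mul_zero, Matrix.zero_mul, add_zero, zero_add, smul_zero, sub_zero]
  rw [Matrix.det_fromBlocks_zero₂₁,
    Matrix.one_mul (1 : Matrix (Fin m) (Fin m) F),
    show (1 : Matrix (Fin m) (Fin m) F) - ν • 1 = (1 - ν) • 1 by module]
  simp [smul_smul, ← sub_smul, pow_two]

theorem exists_nonsq (hodd : Odd (Fintype.card F)) : ∃ ν : Fˣ, chi F ν = -1 := by
  classical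
  obtain ⟨a, ha⟩ := FiniteField.exists_nonsquare (F := F) (fun h => two_ne_zero_of_odd hodd (by
    have := ringChar.charP F
    have := CharP.cast_eq_zero F (ringChar F)
    rw [h] at this; exact_mod_cast this))
  have ha0 : a ≠ 0 := fun h => ha (h ▸ ⟨0, by simp⟩)
  refine ⟨Units.mk0 a ha0, Units.ext ?_⟩
  rw [chi_coe, Units.val_neg, Units.val_one, quadraticChar_neg_one_iff_not_isSquare]
  exact ha

theorem ne_one_of_chi {ν : Fˣ} (hν : chi F ν = -1) : (ν : F) ≠ 1 := fun h => by
  rw [Units.val_eq_one.1 h, map_one] at hν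
  exact absurd hν (by decide)

theorem diagPlus (hodd : Odd (Fintype.card F)) {m : ℕ} (hm : 3 ≤ m) : Diag (quadPlus m F) m := by
  obtain ⟨ν, hν⟩ := exists_nonsq hodd
  refine diag_of (ctxPlus hodd hm)
    (Matrix.GeneralLinearGroup.mkOfDetNeZero (dPlus m (ν : F))
      (by rw [det_dPlus]; exact pow_ne_zero _ ν.ne_zero)) ν hν (fun v => ?_) ?_
    ((1 - (ν : F)) ^ m) (pow_ne_zero _ (sub_ne_zero.2 (ne_one_of_chi hν).symm)) ?_
  · exact quadFormPlus_dPlus m (ν : F) v
  · exact det_dPlus m (ν : F)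
  · show (gram (quadFormPlus m F)).det * (dPlus m (ν : F) * dPlus m (ν : F) - (ν : F) • 1).det = _
    rw [det_gram_quadPlus, det_dPlus_sq, ← mul_pow, ← mul_pow, ← mul_pow, ← mul_pow]
    congr 1
    ring

open Classical in
theorem chi_neg_one (hodd : Odd (Fintype.card F)) :
    quadraticChar F (-1) = if Fintype.card F % 4 = 3 then -1 else 1 := by
  have h := two_ne_zero_of_odd hodd
  split_ifs with h3
  · rw [quadraticChar_neg_one_iff_not_isSquare, FiniteField.isSquare_neg_one_iff]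
    omega
  · rw [quadraticChar_one_iff_isSquare (neg_ne_zero.2 one_ne_zero),
      FiniteField.isSquare_neg_one_iff]
    exact h3

theorem negOne_plus_iff (hodd : Odd (Fintype.card F)) {m : ℕ} (hm : 3 ≤ m) :
    negOne (quadPlus m F) ∈ Omega F ⇑(quadPlus m F) ↔ ¬ (Odd m ∧ Fintype.card F % 4 = 3) := by
  classical
  have h := ctxPlus hodd hm
  rw [negOne_mem_omega_iff _ h.nd h.two (by rw [h.card]; exact even_two_mul m), coe_quadPlus,
    det_gram_quadPlus, map_pow, chi_neg_one hodd]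
  split_ifs with h3
  · simp only [h3, and_true, Nat.not_odd_iff_even]
    exact neg_one_pow_eq_one_iff_even (by norm_num)
  · simp [h3]

/-! ### minus -/

theorem ctxMinus (hodd : Odd (Fintype.card F)) {m : ℕ} (hm : 2 ≤ m) {a b : F} (hab : Aniso a b) :
    Ctx (quadMinus m F a b) (m + 1) :=
  ⟨quadMinus_nondeg m hab, two_ne_zero_of_odd hodd, by simp; omega, by omega⟩

open Classical in
theorem chi_disc (hodd : Odd (Fintype.card F)) {a b : F} (hab : Aniso a b) :
    quadraticChar F (a * a - 4 * b) = -1 := by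
  rw [quadraticChar_neg_one_iff_not_isSquare]
  rintro ⟨s, hs⟩
  have h2 := two_ne_zero_of_odd hodd
  have := (hab ((s - a) / 2) 1 (by field_simp; linear_combination -hs)).2
  exact one_ne_zero this

theorem diagMinus (hodd : Odd (Fintype.card F)) {m : ℕ} (hm : 2 ≤ m) {a b : F} (hab : Aniso a b) :
    Diag (quadMinus m F a b) (m + 1) := by
  obtain ⟨ν, hν⟩ := exists_nonsq hodd
  have hd : 4 * b - a ^ 2 ≠ 0 := fun h => hab.disc_ne_zero (by linear_combination -h)
  obtain ⟨⟨z₁, z₂⟩, hz⟩ := Forms.qfBin_surjective (a := a) (b := b) hd (ν : F)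
  have hz' : z₁ ^ 2 + a * z₁ * z₂ + b * z₂ ^ 2 = (ν : F) := by
    rw [← hz]; simp [Forms.qfBin]; ring
  have hz2 : z₂ ≠ 0 := by
    intro h0
    rw [h0] at hz'
    have : chi F ν = 1 := (chi_eq_one_iff ν).2 ⟨Units.mk0 z₁ (fun h1 => ν.ne_zero (by
      rw [← hz', h1]; ring)), Units.ext (by simp only [Units.val_mul, Units.val_mk0]; linear_combination -hz')⟩
    rw [this] at hν
    exact absurd hν (by decide)
  set B : Matrix (Fin 2) (Fin 2) F := !![z₁, -b * z₂; z₂, z₁ + a * z₂] with hB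
  set M := Matrix.fromBlocks (dPlus m (ν : F)) 0 0 B with hM
  have hdet : M.det = (ν : F) ^ (m + 1) := by
    rw [hM, Matrix.det_fromBlocks_zero₂₁, det_dPlus, hB, Matrix.det_fin_two_of, pow_succ, ← hz']
    ring
  refine diag_of (ctxMinus hodd hm hab)
    (Matrix.GeneralLinearGroup.mkOfDetNeZero M (by rw [hdet]; exact pow_ne_zero _ ν.ne_zero))
    ν hν (fun v => ?_) hdet ((1 - (ν : F)) ^ m * ((4 * b - a ^ 2) * z₂))
    (mul_ne_zero (pow_ne_zero _ (sub_ne_zero.2 (ne_one_of_chi hν).symm)) (mul_ne_zero hd hz2)) ?_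
  · show quadFormMinus m F a b (M *ᵥ v) = (ν : F) * quadFormMinus m F a b v
    have h1 : quadFormPlus m F (dPlus m (ν : F) *ᵥ (v ∘ Sum.inl)) =
        (ν : F) * quadFormPlus m F (v ∘ Sum.inl) := quadFormPlus_dPlus m _ _
    simp only [quadFormPlus, Function.comp_apply] at h1
    simp only [quadFormMinus, hM]
    rw [Matrix.fromBlocks_mulVec]
    simp only [Matrix.zero_mulVec, add_zero, zero_add, Sum.elim_inl, Sum.elim_inr]
    rw [h1, mul_add, ← hz']
    simp only [hB, Matrix.mulVec, dotProduct, Fin.sum_univ_two, Function.comp_apply, Matrix.of_apply,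
      Matrix.cons_val', Matrix.cons_val_zero, Matrix.cons_val_one, Matrix.cons_val_fin_one]
    ring
  · show (gram (quadFormMinus m F a b)).det * (M * M - (ν : F) • 1).det = _
    have hBB : (B * B - (ν : F) • 1).det = (ν : F) * (z₂ * z₂) * (4 * b - a ^ 2) := by
      rw [hB, Matrix.det_fin_two, ← hz']
      simp [Matrix.mul_apply, Fin.sum_univ_two]
      ring
    rw [det_gram_quadMinus, hM, Matrix.fromBlocks_multiply, ← Matrix.fromBlocks_one,
      Matrix.fromBlocks_smul, fromBlocks_sub']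
    simp only [Matrix.mul_zero, Matrix.zero_mul, add_zero, zero_add, smul_zero, sub_zero]
    rw [Matrix.det_fromBlocks_zero₂₁, det_dPlus_sq, hBB, pow_succ, pow_succ]
    have e : (-1 : F) ^ m * ((ν : F) ^ 2 - (ν : F)) ^ m * (1 - (ν : F)) ^ m =
        (ν : F) ^ m * ((1 - (ν : F)) ^ m * (1 - (ν : F)) ^ m) := by
      rw [← mul_pow, ← mul_pow, ← mul_pow, ← mul_pow]
      congr 1
      ring
    linear_combination (-1 : F) * (a * a - 4 * b) * ((ν : F) * (z₂ * z₂) * (4 * b - a ^ 2)) * e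

theorem negOne_minus_iff (hodd : Odd (Fintype.card F)) {m : ℕ} (hm : 2 ≤ m) {a b : F}
    (hab : Aniso a b) :
    negOne (quadMinus m F a b) ∈ Omega F ⇑(quadMinus m F a b) ↔
      (Even m ∧ Fintype.card F % 4 = 3) := by
  classical
  have h := ctxMinus hodd hm hab
  rw [negOne_mem_omega_iff _ h.nd h.two (by rw [h.card]; exact even_two_mul _), coe_quadMinus,
    det_gram_quadMinus, map_mul, map_pow, chi_neg_one hodd, chi_disc hodd hab]
  split_ifs with h3
  · simp only [h3, and_true]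
    rw [pow_succ]
    rcases Nat.even_or_odd m with he | ho
    · simp [he, he.neg_one_pow]
    · simp [ho.neg_one_pow, Nat.not_even_iff_odd.2 ho]
  · simp [h3]

end Cfsg.Agent.OrthOuter
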