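import Cfsg.Agent.EqLemmas
import Cfsg.Agent.Lib.FormClasses.Basic
import Cfsg.Agent.Lib.QuadClass.Odd

/-!
# Norms in `F[X]/(h)` for the involution `X ↦ X⁻¹`

* `exists_sq_add_eq` : `x² + b y² = c` is solvable in a finite reduced ring of odd characteristic
* `exists_bar_norm` : fixed units of `F[X]/(h)`, `h ∣ (X^r-1)/(X-1)` stable under `bar`, are norms
-/

set_option autoImplicit false
set_option linter.style.haveILetI false

namespace Cfsg.Agent.OrthOuter

open Polynomial Cfsg.Agent.FormClasses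

theorem exists_sq_add_eq {R : Type*} [CommRing R] [Finite R] [IsReduced R] (h2 : IsUnit (2 : R))
    {b c : R} (hb : IsUnit b) (hc : IsUnit c) : ∃ x y : R, x ^ 2 + b * y ^ 2 = c := by
  classical
  have key : ∀ I : MaximalSpectrum R, ∃ x y : R ⧸ I.asIdeal,
      x ^ 2 + Ideal.Quotient.mk _ b * y ^ 2 = Ideal.Quotient.mk _ c := by
    intro I
    haveI := I.isMaximal
    haveI : Finite (R ⧸ I.asIdeal) := Finite.of_surjective _ Ideal.Quotient.mk_surjective
    letI : Field (R ⧸ I.asIdeal) := Ideal.Quotient.field _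
    letI : Fintype (R ⧸ I.asIdeal) := Fintype.ofFinite _
    have hu : ∀ u : R, IsUnit u → Ideal.Quotient.mk I.asIdeal u ≠ 0 := fun u h =>
      (h.map (Ideal.Quotient.mk I.asIdeal)).ne_zero
    have h2' : (2 : R ⧸ I.asIdeal) ≠ 0 := fun h => hu 2 h2 ((map_ofNat _ 2).trans h)
    have hc0 := hu c hc
    obtain ⟨x, y, hxy⟩ := QuadClass.exists_one_eq h2' (inv_ne_zero hc0)
      (mul_ne_zero (inv_ne_zero hc0) (hu b hb))
    refine ⟨x, y, ?_⟩
    field_simp at hxy
    linear_combination hxy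
  choose x y hxy using key
  let e := (IsArtinianRing.equivPi R).toRingEquiv
  refine ⟨e.symm x, e.symm y, e.injective ?_⟩
  rw [map_add, map_mul, map_pow, map_pow, RingEquiv.apply_symm_apply, RingEquiv.apply_symm_apply]
  funext I
  exact hxy I

variable {F : Type*} [Field F]

theorem bar_id_X (r : ℕ) : bar (RingHom.id F) r X = X ^ (r - 1) := bar_X _ _

theorem bar_id_C (r : ℕ) (a : F) : bar (RingHom.id F) r (C a) = C a := bar_C _ _ _

theorem exists_bar_norm [Finite F] (h2 : (2 : F) ≠ 0) {r : ℕ} (hr : Odd r) (hrF : (r : F) ≠ 0)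
    {h : F[X]} (hm : h.Monic) (hd : h ∣ X ^ r - 1) (h1 : IsCoprime h (X - 1))
    (hb : h ∣ bar (RingHom.id F) r h) {c : F[X]} (hc : IsCoprime c h)
    (hcf : h ∣ c - bar (RingHom.id F) r c) :
    ∃ p : F[X], h ∣ p * bar (RingHom.id F) r p - c := by
  classical
  haveI : Module.Finite F (AdjoinRoot h) := hm.finite_adjoinRoot
  haveI : Finite (AdjoinRoot h) := Module.finite_of_finite F
  have hsq : Squarefree h := by
    refine Squarefree.squarefree_of_dvd hd ?_
    rw [← map_one (C : F →+* F[X])]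
    exact (separable_X_pow_sub_C 1 hrF one_ne_zero).squarefree
  haveI : IsReduced (AdjoinRoot h) :=
    (Ideal.isRadical_iff_quotient_reduced _).1 (isRadical_iff_span_singleton.1 hsq.isRadical)
  set mk := AdjoinRoot.mk h
  let σ : AdjoinRoot h →+* AdjoinRoot h :=
    Ideal.Quotient.lift (Ideal.span {h}) (mk.comp (bar (RingHom.id F) r)) fun a ha => by
      obtain ⟨t, rfl⟩ := Ideal.mem_span_singleton.1 ha
      rw [RingHom.comp_apply, map_mul, AdjoinRoot.mk_eq_zero]
      exact hb.mul_right _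
  have hσ : ∀ p, σ (mk p) = mk (bar (RingHom.id F) r p) := fun p => rfl
  have hunit : ∀ p, IsCoprime p h → IsUnit (mk p) := fun p hp => by
    obtain ⟨s, t, hst⟩ := hp
    refine IsUnit.of_mul_eq_one (mk s) ?_
    rw [← map_mul, ← map_one mk, AdjoinRoot.mk_eq_mk]
    exact ⟨-t, by linear_combination hst⟩
  set z : AdjoinRoot h := mk X with hz
  have hzr : z ^ r = 1 := by
    rw [hz, ← map_pow, ← map_one mk, AdjoinRoot.mk_eq_mk]
    exact hd
  have hσσ : ∀ x, σ (σ x) = x := by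
    intro x
    obtain ⟨p, rfl⟩ := AdjoinRoot.mk_surjective x
    rw [hσ, hσ]
    have := aeval_bar_bar (σ := RingHom.id F) (fun _ => rfl) hr.pos hzr p
    rwa [hz, AdjoinRoot.mk_X, AdjoinRoot.aeval_eq, AdjoinRoot.aeval_eq] at this
  set δ : AdjoinRoot h := z - σ z with hδ
  have hσδ : σ δ = -δ := by rw [hδ, map_sub, hσσ, neg_sub]
  have hδu : IsUnit δ := by
    have h1' : IsUnit (z - 1) := by
      have := hunit _ h1.symm
      rwa [map_sub, map_one, ← hz] at this
    have hz2 : IsUnit (z ^ 2 - 1) := by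
      refine isUnit_of_dvd_unit ?_ h1'
      obtain ⟨j, hj⟩ := hr
      have e : (z ^ 2) ^ (j + 1) = z := by
        rw [← pow_mul, show 2 * (j + 1) = r + 1 by omega, pow_succ, hzr, one_mul]
      have h3 := sub_one_dvd_pow_sub_one (z ^ 2) (j + 1)
      rwa [e] at h3
    have hzu : IsUnit z := IsUnit.of_mul_eq_one (z ^ (r - 1)) (by
      rw [← pow_succ', Nat.sub_add_cancel hr.pos, hzr])
    refine (IsUnit.mul_iff.1 (?_ : IsUnit (z * δ))).2
    rw [hδ, hz, hσ, bar_id_X, map_pow, ← hz, mul_sub, ← pow_succ', Nat.sub_add_cancel hr.pos, hzr,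
      ← pow_two]
    exact hz2
  let A₀ : Subring (AdjoinRoot h) := σ.eqLocus (RingHom.id _)
  have hA : ∀ x, x ∈ A₀ ↔ σ x = x := fun x => Iff.rfl
  haveI : IsReduced A₀ := isReduced_of_injective A₀.subtype Subtype.val_injective
  have hfu : ∀ x, (hx : σ x = x) → IsUnit x → IsUnit (⟨x, (hA x).2 hx⟩ : A₀) := by
    intro x hx hu
    obtain ⟨u, rfl⟩ := hu
    have hinv : σ (↑u⁻¹ : AdjoinRoot h) = ↑u⁻¹ := by
      have : Units.map σ.toMonoidHom u = u := Units.ext hx
      conv_rhs => rw [← this, ← map_inv]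
      rfl
    exact IsUnit.of_mul_eq_one ⟨_, (hA _).2 hinv⟩ (Subtype.ext u.mul_inv)
  have hc' : σ (mk c) = mk c := by
    rw [hσ, eq_comm, AdjoinRoot.mk_eq_mk]
    exact hcf
  have h22 : IsUnit (2 : A₀) := by
    have := hunit (C 2) (isCoprime_one_left.of_isCoprime_of_dvd_left
      (isUnit_C.2 (isUnit_iff_ne_zero.2 h2)).dvd)
    rw [map_ofNat C, map_ofNat] at this
    exact hfu 2 (map_ofNat σ 2) this
  have hbu : σ (-(δ * δ)) = -(δ * δ) := by rw [map_neg, map_mul, hσδ, neg_mul_neg]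
  obtain ⟨⟨x, hx⟩, ⟨y, hy⟩, hxy⟩ := exists_sq_add_eq h22 (hfu _ hbu (hδu.mul hδu).neg)
    (hfu _ hc' (hunit c hc))
  have hxy' := congrArg Subtype.val hxy
  simp only [Subring.coe_add, Subring.coe_mul, SubmonoidClass.coe_pow] at hxy'
  obtain ⟨p, hp⟩ := AdjoinRoot.mk_surjective (x + y * δ)
  refine ⟨p, ?_⟩
  rw [← AdjoinRoot.mk_eq_zero, map_sub, map_mul, ← hσ, hp, map_add, map_mul, (hA x).1 hx,
    (hA y).1 hy, hσδ]
  linear_combination hxy'

end Cfsg.Agent.OrthOuter
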