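import Cfsg.Agent.Lib.OrthOuter.Involution
import Cfsg.Agent.Lib.OrthOuter.BarNorm

/-!
# Isometries of odd order prime to the characteristic

* `polar_aeval` : the adjoint of `p(o)` is `p̄(o)`
* `fixSp`, `isCompl_fix` : fixed vectors and `[V, o]` are complementary
* `exists_similitude_res` : `p(o)` of any multiplier on `[V, o]`
* `exists_sim_of_lin`, `mat_adjoint` : linear maps as similarities
* `exists_sim_sub` : even-dimensional non-degenerate subspaces have similitudes of every multiplier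
-/

set_option autoImplicit false
set_option linter.unusedSectionVars false
set_option linter.style.haveILetI false

namespace Cfsg.Agent.OrthOuter

open Cfsg Matrix Module Cfsg.Agent.Orth Polynomial Cfsg.Agent.FormClasses
open QuadraticMap (polar)

variable {ι : Type} [Fintype ι] [DecidableEq ι] {F : Type*} [Field F]
variable {Q : QuadraticForm F (ι → F)} {k : ℕ} [Fintype F]

/-- The linear map of an isometry, as an endomorphism. -/
abbrev apE (o : IsoGrp Q) : Module.End F (ι → F) := ap o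

theorem apE_pow (o : IsoGrp Q) (n : ℕ) : apE o ^ n = ap (o ^ n) := by
  induction n with
  | zero => exact LinearMap.ext fun x => by simp
  | succ n ih =>
    refine LinearMap.ext fun x => ?_
    rw [pow_succ, pow_succ, Module.End.mul_apply, ih, ap_mul]

theorem apE_pow_eq_one {o : IsoGrp Q} {r : ℕ} (ho : o ^ r = 1) : apE o ^ r = 1 := by
  rw [apE_pow, ho]
  exact LinearMap.ext fun x => by simp

/-- `p̄` for the identity of the ground field. -/
noncomputable abbrev barI (r : ℕ) : F[X] →+* F[X] := bar (RingHom.id F) r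

theorem polar_aeval {o : IsoGrp Q} {r : ℕ} (ho : o ^ r = 1) (hr : 0 < r) (p : F[X]) (x y : ι → F) :
    polar ⇑Q (aeval (apE o) p x) y = polar ⇑Q x (aeval (apE o) (barI r p) y) := by
  induction p using Polynomial.induction_on generalizing x y with
  | C c =>
    simp only [bar_id_C, aeval_C, Module.algebraMap_end_apply, pl_smul_left, pl_smul_right]
  | add p q hp hq =>
    simp only [map_add, LinearMap.add_apply, pl_add_left, pl_add_right, hp, hq]
  | monomial n c ih =>
    simp only [pow_succ, ← mul_assoc]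
    rw [map_mul (aeval (apE o)) (Polynomial.C c * Polynomial.X ^ n), aeval_X, Module.End.mul_apply, ih,
      map_mul (barI r) (Polynomial.C c * Polynomial.X ^ n), bar_id_X,
      mul_comm (barI r (Polynomial.C c * Polynomial.X ^ n)), map_mul (aeval (apE o)),
      map_pow, aeval_X, Module.End.mul_apply]
    generalize aeval (apE o) (barI r (Polynomial.C c * Polynomial.X ^ n)) y = z
    conv_lhs => rw [show z = apE o ((apE o ^ (r - 1)) z) by
      rw [← Module.End.mul_apply, ← pow_succ', Nat.sub_add_cancel hr, apE_pow_eq_one ho]; rfl]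
    exact polar_ap o x _

theorem aeval_bar_bar' {o : IsoGrp Q} {r : ℕ} (ho : o ^ r = 1) (hr : 0 < r) (p : F[X]) :
    aeval (apE o) (barI r (barI r p)) = aeval (apE o) p :=
  aeval_bar_bar (σ := RingHom.id F) (fun _ => rfl) hr (apE_pow_eq_one ho) p

theorem aeval_mem {V : Type*} [AddCommGroup V] [Module F V] {g : Module.End F V} {R : Submodule F V}
    (hR : ∀ x ∈ R, g x ∈ R) (p : F[X]) : ∀ x ∈ R, aeval g p x ∈ R := by
  induction p using Polynomial.induction_on with
  | C c => intro x hx; rw [aeval_C, Module.algebraMap_end_apply]; exact R.smul_mem c hx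
  | add p q hp hq => intro x hx; rw [map_add]; exact R.add_mem (hp x hx) (hq x hx)
  | monomial n c ih =>
    intro x hx
    rw [pow_succ, ← mul_assoc, map_mul, aeval_X, Module.End.mul_apply]
    exact ih _ (hR x hx)

theorem aeval_comm_apply {V : Type*} [AddCommGroup V] [Module F V] (g : Module.End F V) (p q : F[X])
    (x : V) : aeval g p (aeval g q x) = aeval g q (aeval g p x) := by
  rw [← Module.End.mul_apply, ← map_mul, mul_comm, map_mul, Module.End.mul_apply]

theorem aeval_comm_self {V : Type*} [AddCommGroup V] [Module F V] (g : Module.End F V) (p : F[X])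
    (x : V) : aeval g p (g x) = g (aeval g p x) := by
  simpa using aeval_comm_apply g p Polynomial.X x

/-- The fixed space. -/
def fixSp (o : IsoGrp Q) : Submodule F (ι → F) := LinearMap.ker (ap o - LinearMap.id)

theorem mem_fixSp {o : IsoGrp Q} {x : ι → F} : x ∈ fixSp o ↔ ap o x = x := by
  simp [fixSp, sub_eq_zero]

theorem isCompl_fix {o : IsoGrp Q} {r : ℕ} (ho : o ^ r = 1) (hrF : (r : F) ≠ 0) :
    IsCompl (fixSp o) (resSpace o) := by
  have hd : Disjoint (fixSp o) (resSpace o) := by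
    refine Submodule.disjoint_def.2 fun x hx hx' => ?_
    obtain ⟨y, hy⟩ := mem_resSpace.1 hx'
    have hx1 := mem_fixSp.1 hx
    have hy' : ap o y = y + x := by rw [← hy]; abel
    have key : ∀ n : ℕ, (apE o ^ n) y = y + (n : F) • x := by
      intro n
      induction n with
      | zero => simp
      | succ n ih =>
        rw [pow_succ', Module.End.mul_apply, ih]
        show ap o (y + (n : F) • x) = _
        rw [map_add, map_smul, hx1, hy', Nat.cast_succ, add_smul, one_smul]
        abel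
    have h := key r
    rw [apE_pow_eq_one ho, Module.End.one_apply, left_eq_add, smul_eq_zero] at h
    exact h.resolve_left hrF
  refine ⟨hd, codisjoint_iff.2 (Submodule.eq_top_of_finrank_eq ?_)⟩
  have h1 := Submodule.finrank_sup_add_finrank_inf_eq (fixSp o) (resSpace o)
  rw [hd.eq_bot, finrank_bot, add_zero] at h1
  rw [h1, add_comm, finrank_space]
  exact finrank_resSpace_add_fix o

theorem polar_fix_res {o : IsoGrp Q} {z w : ι → F} (hz : z ∈ fixSp o) (hw : w ∈ resSpace o) :
    polar ⇑Q z w = 0 := polar_fix_resSpace (mem_fixSp.1 hz) hw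

theorem exists_fix_polar_ne' (hQ : Q.polarBilin.Nondegenerate) {o : IsoGrp Q} {r : ℕ} (ho : o ^ r = 1)
    (hrF : (r : F) ≠ 0) {x : ι → F} (hx : x ∈ fixSp o) (hx0 : x ≠ 0) :
    ∃ y ∈ fixSp o, polar ⇑Q x y ≠ 0 := by
  obtain ⟨y, hy1, hy2⟩ := exists_fix_polar_ne hQ (g := o) (v := x)
    fun hr => hx0 (Submodule.disjoint_def.1 (isCompl_fix ho hrF).disjoint x hx hr)
  exact ⟨y, mem_fixSp.2 hy1, by rwa [pl_comm]⟩

theorem exists_fix_nonsingular (hQ : Q.polarBilin.Nondegenerate) {o : IsoGrp Q} {r : ℕ}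
    (ho : o ^ r = 1) (hrF : (r : F) ≠ 0) (hne : fixSp o ≠ ⊥) : ∃ v ∈ fixSp o, Q v ≠ 0 := by
  by_contra! hall
  obtain ⟨x, hx, hx0⟩ := Submodule.exists_mem_ne_zero_of_ne_bot hne
  obtain ⟨y, hy, hxy⟩ := exists_fix_polar_ne' hQ ho hrF hx hx0
  exact hxy (by simp [polar, hall _ hx, hall _ hy, hall _ ((fixSp o).add_mem hx hy)])

theorem refl_fix_comm {o : IsoGrp Q} {v : ι → F} (hv : ap o v = v) : Commute (refl Q v) o := by
  have h := conj_refl o v
  rw [hv, mul_inv_eq_iff_eq_mul] at h
  exact h.symm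

theorem dick_eq_one_of_pow (hG : Good Q) {o : IsoGrp Q} {r : ℕ} (ho : o ^ r = 1) (hr : Odd r) :
    dick o = 1 := by
  rcases dick_eq_or o with h | h
  · exact h
  · have h1 := map_pow (dickHom hG) o r
    rw [ho, map_one, dickHom_apply, h, hr.neg_one_pow] at h1
    exact absurd h1 (by norm_num)

theorem even_finrank_fix (hG : Good Q) (hcard : Fintype.card ι = 2 * k) {o : IsoGrp Q} {r : ℕ}
    (ho : o ^ r = 1) (hr : Odd r) : Even (finrank F (fixSp o)) := by
  have h : finrank F (resSpace o) + finrank F (fixSp o) = Fintype.card ι := finrank_resSpace_add_fix o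
  have h1 := dick_eq_one_of_pow hG ho hr
  rw [dick, neg_one_pow_eq_one_iff_even (by norm_num : (-1 : ℤ) ≠ 1)] at h1
  obtain ⟨j, hj⟩ := h1
  exact ⟨k - j, by rw [hj] at h; omega⟩

theorem sum_X_mul (r : ℕ) : (∑ i ∈ Finset.range r, (Polynomial.X : F[X]) ^ i) * (Polynomial.X - 1) =
    Polynomial.X ^ r - 1 := geom_sum_mul _ r

theorem exists_similitude_res (h2 : (2 : F) ≠ 0) {o : IsoGrp Q} {r : ℕ} (ho : o ^ r = 1)
    (hr : Odd r) (hrF : (r : F) ≠ 0) {ν : F} (hν : ν ≠ 0) :
    ∃ p : F[X], ∀ x ∈ resSpace o, aeval (apE o) (barI r p) (aeval (apE o) p x) = ν • x := by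
  set h : F[X] := ∑ i ∈ Finset.range r, Polynomial.X ^ i with hh
  have hm : h.Monic := monic_geom_sum_X hr.pos.ne'
  have hd : h ∣ Polynomial.X ^ r - 1 := ⟨Polynomial.X - 1, (sum_X_mul r).symm⟩
  have hev : h.eval 1 = (r : F) := by simp [hh, eval_finsetSum]
  have h1 : IsCoprime h (Polynomial.X - 1) := by
    obtain ⟨q, hq⟩ := X_sub_C_dvd_sub_C_eval (a := (1 : F)) (p := h)
    rw [map_one, hev] at hq
    refine ⟨Polynomial.C (r : F)⁻¹, -(Polynomial.C (r : F)⁻¹ * q), ?_⟩
    have hc : Polynomial.C (r : F)⁻¹ * Polynomial.C (r : F) = 1 := by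
      rw [← Polynomial.C_mul, inv_mul_cancel₀ hrF, Polynomial.C_1]
    linear_combination Polynomial.C (r : F)⁻¹ * hq + hc
  have hb : h ∣ barI r h := by
    have hbs : barI r h * (Polynomial.X ^ (r - 1) - 1) = (Polynomial.X ^ (r - 1)) ^ r - 1 := by
      have := congrArg (barI r) (sum_X_mul (F := F) r)
      rwa [← hh, map_mul, map_sub, map_sub, map_pow, map_one, bar_id_X] at this
    have h2' : h ∣ barI r h * (Polynomial.X ^ (r - 1) - 1) := by
      rw [hbs, ← pow_mul, mul_comm, pow_mul]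
      exact hd.trans (sub_one_dvd_pow_sub_one _ _)
    refine IsCoprime.dvd_of_dvd_mul_right ?_ h2'
    obtain ⟨a, b, hab⟩ := h1
    obtain ⟨t, ht⟩ := hd
    refine ⟨a + b * t, -(b * Polynomial.X), ?_⟩
    have hX : (Polynomial.X : F[X]) * Polynomial.X ^ (r - 1) = Polynomial.X ^ r := by
      rw [← pow_succ', Nat.sub_add_cancel hr.pos]
    linear_combination hab - b * hX - b * ht
  obtain ⟨p, hp⟩ := exists_bar_norm h2 hr hrF hm hd h1 hb (c := Polynomial.C ν)
    (isCoprime_one_left.of_isCoprime_of_dvd_left (isUnit_C.2 (isUnit_iff_ne_zero.2 hν)).dvd)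
    (by rw [bar_id_C, sub_self]; exact dvd_zero _)
  refine ⟨p, fun x hx => ?_⟩
  obtain ⟨t, ht⟩ := hp
  obtain ⟨y, rfl⟩ := mem_resSpace.1 hx
  have hy : ap o y - y = aeval (apE o) (Polynomial.X - 1 : F[X]) y := by simp
  rw [← Module.End.mul_apply, ← map_mul, hy, ← Module.End.mul_apply, ← map_mul,
    show barI r p * p * (Polynomial.X - 1 : F[X]) =
      Polynomial.C ν * (Polynomial.X - 1) + t * (Polynomial.X ^ r - 1 : F[X]) by
        linear_combination (Polynomial.X - 1) * ht + t * sum_X_mul (F := F) r,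
    map_add, LinearMap.add_apply, map_mul _ t, map_sub _ (Polynomial.X ^ r : F[X]), map_pow, aeval_X,
    apE_pow_eq_one ho, map_one, sub_self, mul_zero, LinearMap.zero_apply, add_zero, map_mul, aeval_C,
    Module.End.mul_apply, Module.algebraMap_end_apply]

theorem inj_of_similitude (hQ : Q.polarBilin.Nondegenerate) (A : Module.End F (ι → F)) {ν : F}
    (hν : ν ≠ 0) (hA : ∀ x, Q (A x) = ν * Q x) : Function.Injective A := by
  rw [← LinearMap.ker_eq_bot, LinearMap.ker_eq_bot']
  intro x hx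
  by_contra h0
  obtain ⟨y, hy⟩ := exists_polar_ne hQ h0
  have : ν * polar ⇑Q x y = 0 := by
    simp only [polar, mul_sub, ← hA, map_add, hx, zero_add, QuadraticMap.map_zero]
    ring
  exact hy ((mul_eq_zero.1 this).resolve_left hν)

theorem exists_sim_of_lin (h : Ctx Q k) (A : Module.End F (ι → F)) (ν : Fˣ)
    (hA : ∀ x, Q (A x) = (ν : F) * Q x) :
    ∃ c : Sim Q, sap c = A ∧ mult h.exists_ne c = ν ∧
      ((c : GL ι F) : Matrix ι ι F) = LinearMap.toMatrix' A := by
  have hinj := inj_of_similitude h.nd A ν.ne_zero hA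
  have hdet : (LinearMap.toMatrix' A).det ≠ 0 := by
    rw [LinearMap.det_toMatrix']
    exact fun h0 => (LinearMap.bot_lt_ker_of_det_eq_zero h0).ne' (LinearMap.ker_eq_bot.2 hinj)
  let M : GL ι F := GeneralLinearGroup.mkOfDetNeZero _ hdet
  have hM : ∀ x, (M : Matrix ι ι F) *ᵥ x = A x := fun x => LinearMap.toMatrix'_mulVec A x
  let c : Sim Q := ⟨M, ν, fun x => by rw [hM]; exact hA x⟩
  have hc : ∀ x, sap c x = A x := hM
  exact ⟨c, LinearMap.ext hc, mult_eq h.exists_ne (fun x => by rw [hc]; exact hA x), rfl⟩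

theorem polar_eq_dot (x y : ι → F) : polar ⇑Q x y = x ⬝ᵥ (Orth.gram ⇑Q *ᵥ y) := by
  rw [polar_sum_left]
  refine Finset.sum_congr rfl fun i _ => ?_
  congr 1
  rw [pl_comm, polar_sum_left]
  refine Finset.sum_congr rfl fun j _ => ?_
  show y j * _ = polar ⇑Q (Pi.single i 1) (Pi.single j 1) * y j
  rw [pl_comm, mul_comm]

theorem mat_eq_of_dot {A B : Matrix ι ι F} (h : ∀ x y : ι → F, x ⬝ᵥ (A *ᵥ y) = x ⬝ᵥ (B *ᵥ y)) :
    A = B := by
  ext i j
  simpa [Matrix.mulVec_single_one] using h (Pi.single i 1) (Pi.single j 1)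

theorem dot_mulVec_gram (A : Module.End F (ι → F)) (x y : ι → F) :
    x ⬝ᵥ (((LinearMap.toMatrix' A)ᵀ * Orth.gram ⇑Q) *ᵥ y) = polar ⇑Q (A x) y := by
  rw [← Matrix.mulVec_mulVec, Matrix.dotProduct_mulVec, Matrix.vecMul_transpose,
    LinearMap.toMatrix'_mulVec, polar_eq_dot]

theorem mat_adjoint (A A' : Module.End F (ι → F))
    (h : ∀ x y, polar ⇑Q (A x) y = polar ⇑Q x (A' y)) :
    (LinearMap.toMatrix' A)ᵀ * Orth.gram ⇑Q = Orth.gram ⇑Q * LinearMap.toMatrix' A' := by
  refine mat_eq_of_dot fun x y => ?_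
  rw [dot_mulVec_gram, h, ← Matrix.mulVec_mulVec, LinearMap.toMatrix'_mulVec, polar_eq_dot]

theorem det_adjoint_eq (hQ : Q.polarBilin.Nondegenerate) (A A' : Module.End F (ι → F))
    (h : ∀ x y, polar ⇑Q (A x) y = polar ⇑Q x (A' y)) :
    LinearMap.det A = LinearMap.det A' := by
  have := congrArg Matrix.det (mat_adjoint A A' h)
  rw [Matrix.det_mul, Matrix.det_mul, Matrix.det_transpose, LinearMap.det_toMatrix',
    LinearMap.det_toMatrix', mul_comm] at this
  exact mul_left_cancel₀ (det_gram_ne_zero hQ) this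

theorem exists_sim_sub (h2 : (2 : F) ≠ 0) (W : Submodule F (ι → F))
    (hW : ∀ x ∈ W, x ≠ 0 → ∃ y ∈ W, polar ⇑Q x y ≠ 0) (hev : Even (finrank F W)) {ν : F} (hν : ν ≠ 0) :
    ∃ T : W →ₗ[F] W, ∀ w : W, Q (T w : ι → F) = ν * Q w := by
  let e : W ≃ₗ[F] (Fin (finrank F W) → F) := (Module.finBasis F W).equivFun
  let Q₁ : QuadraticForm F (Fin (finrank F W) → F) := Q.comp (W.subtype.comp e.symm.toLinearMap)
  have hQ₁ : ∀ x, Q₁ x = Q (e.symm x : ι → F) := fun x => rfl
  have hp : ∀ x y, polar ⇑Q₁ x y = polar ⇑Q (e.symm x : ι → F) (e.symm y) := fun x y => by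
    simp only [polar, hQ₁, map_add, Submodule.coe_add]
  have hsep : ∀ x, (∀ y, polar ⇑Q₁ x y = 0) → x = 0 := by
    intro x hx
    by_contra h0
    obtain ⟨y, hy, hxy⟩ := hW _ (e.symm x).2 (by simpa using h0)
    have := hx (e ⟨y, hy⟩)
    rw [hp, LinearEquiv.symm_apply_apply] at this
    exact hxy this
  have hnd₁ : Q₁.polarBilin.Nondegenerate :=
    ⟨hsep, fun y hy => hsep y fun x => by rw [QuadraticMap.polar_comm]; exact hy x⟩
  have hp2 : ∀ x y, polar ⇑(ν • Q₁) x y = ν * polar ⇑Q₁ x y := fun x y => by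
    simp only [polar, QuadraticMap.smul_apply, smul_eq_mul]; ring
  have hnd₂ : (ν • Q₁).polarBilin.Nondegenerate := by
    have hsep2 : ∀ x, (∀ y, polar ⇑(ν • Q₁) x y = 0) → x = 0 := fun x hx => hsep x fun y => by
      have := hx y
      rw [hp2] at this
      exact (mul_eq_zero.1 this).resolve_left hν
    exact ⟨hsep2, fun y hy => hsep2 y fun x => by rw [QuadraticMap.polar_comm]; exact hy x⟩
  have hdisc : QuadClass.disc (ν • Q₁) = ν ^ finrank F W * QuadClass.disc Q₁ := by
    rw [QuadClass.disc_eq, QuadClass.disc_eq]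
    conv_lhs => rw [show (Matrix.of fun i j : Fin (finrank F W) =>
      polar ⇑(ν • Q₁) (Pi.single i 1) (Pi.single j 1)) = ν • Matrix.of fun i j : Fin (finrank F W) =>
      polar ⇑Q₁ (Pi.single i 1) (Pi.single j 1) from Matrix.ext fun i j => hp2 _ _]
    rw [Matrix.det_smul, Fintype.card_fin]
  obtain ⟨f⟩ := (QuadClass.equivalent_iff_disc h2 Q₁ (ν • Q₁) hnd₁ hnd₂).2 (by
    rw [hdisc]
    obtain ⟨j, hj⟩ := hev
    exact ⟨ν ^ j * QuadClass.disc Q₁, by
      rw [show ν ^ finrank F W = ν ^ j * ν ^ j by rw [← pow_add, ← hj]]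
      ring⟩)
  refine ⟨e.symm.toLinearMap.comp (f.toLinearEquiv.symm.toLinearMap.comp e.toLinearMap), fun w => ?_⟩
  have h := f.map_app (f.toLinearEquiv.symm (e w))
  rw [show f (f.toLinearEquiv.symm (e w)) = e w from f.toLinearEquiv.apply_symm_apply _,
    QuadraticMap.smul_apply, smul_eq_mul, hQ₁, hQ₁, LinearEquiv.symm_apply_apply] at h
  exact h.symm

end Cfsg.Agent.OrthOuter
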