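import Cfsg.Agent.EqLemmas
import Cfsg.Agent.Lib.SympGeom.Iso

/-!
# Determinants and alternating matrices

* `alt_det_square` : an invertible alternating matrix has square determinant
* `alt_similitude_det` : a similitude of multiplier `c` has determinant `c^k`
-/

set_option autoImplicit false
set_option linter.style.haveILetI false

namespace Cfsg.Agent.OrthOuter

open Matrix Cfsg.Agent

variable {ι : Type} [Fintype ι] [DecidableEq ι] {F : Type*} [Field F]

/-- A hyperbolic basis, as a matrix. -/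
theorem exists_sympl_matrix (W : Matrix ι ι F) (halt : ∀ x : ι → F, x ⬝ᵥ (W *ᵥ x) = 0)
    (hW : W.det ≠ 0) {k : ℕ} (hcard : Fintype.card ι = 2 * k) :
    ∃ (e : Fin k ⊕ Fin k ≃ ι) (P : Matrix (Fin k ⊕ Fin k) (Fin k ⊕ Fin k) F), P.det ≠ 0 ∧
      Pᵀ * W.submatrix e e * P = -(Matrix.J (Fin k) F) := by
  let e : Fin k ⊕ Fin k ≃ ι :=
    Fintype.equivOfCardEq (by simp only [Fintype.card_sum, Fintype.card_fin]; omega)
  set W' := W.submatrix e e with hW'
  let β : LinearMap.BilinForm F (Fin k ⊕ Fin k → F) := Matrix.toLinearMap₂' F W'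
  have halt' : ∀ x, β x x = 0 := by
    intro x
    rw [Matrix.toLinearMap₂'_apply', hW', Matrix.submatrix_mulVec_equiv]
    have := halt (x ∘ e.symm)
    rw [dotProduct, ← e.sum_comp] at this
    simpa [dotProduct] using this
  have hnd : β.Nondegenerate :=
    (LinearMap.BilinForm.nondegenerate_toBilin'_iff_det_ne_zero).2 (by
      rw [hW', Matrix.det_submatrix_equiv_self]; exact hW)
  obtain ⟨Φ, hΦ⟩ := SympGeom.exists_sympEquiv β halt' hnd.1
    (GLOrder.finrank_sympSpace (F := F) (m := k))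
  refine ⟨e, LinearMap.toMatrix' Φ.toLinearMap, ?_, ?_⟩
  · rw [LinearMap.det_toMatrix']
    exact Φ.isUnit_det'.ne_zero
  · refine (Matrix.toLinearMap₂' F : Matrix _ _ F ≃ₗ[F]
      LinearMap.BilinForm F (Fin k ⊕ Fin k → F)).injective (LinearMap.ext fun u => LinearMap.ext fun v => ?_)
    rw [← GLOrder.sympB, ← hΦ u v, Matrix.toLinearMap₂'_apply', Matrix.toLinearMap₂'_apply', ← hW',
      ← Matrix.mulVec_mulVec, ← Matrix.mulVec_mulVec, Matrix.dotProduct_mulVec, Matrix.vecMul_transpose,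
      LinearMap.toMatrix'_mulVec, LinearMap.toMatrix'_mulVec]
    rfl

theorem det_J_eq_one (k : ℕ) : (-(Matrix.J (Fin k) F)).det = 1 := by
  rw [Matrix.det_neg, Fintype.card_sum, (Even.add_self _).neg_one_pow, one_mul]
  exact SymplecticGroup.det_eq_one (SymplecticGroup.J_mem _ _)

theorem alt_det_square (W : Matrix ι ι F) (halt : ∀ x : ι → F, x ⬝ᵥ (W *ᵥ x) = 0)
    (hW : W.det ≠ 0) {k : ℕ} (hcard : Fintype.card ι = 2 * k) :
    ∃ s : F, s ≠ 0 ∧ W.det = s * s := by
  obtain ⟨e, P, hP, h⟩ := exists_sympl_matrix W halt hW hcard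
  have hd := congrArg Matrix.det h
  rw [det_J_eq_one, Matrix.det_mul, Matrix.det_mul, Matrix.det_transpose,
    Matrix.det_submatrix_equiv_self] at hd
  refine ⟨P.det⁻¹, inv_ne_zero hP, ?_⟩
  field_simp
  linear_combination hd

theorem alt_similitude_det (W : Matrix ι ι F) (halt : ∀ x : ι → F, x ⬝ᵥ (W *ᵥ x) = 0)
    (hW : W.det ≠ 0) {k : ℕ} (hcard : Fintype.card ι = 2 * k) {M : Matrix ι ι F} {c : F} (hc : c ≠ 0)
    (hM : Mᵀ * W * M = c • W) : M.det = c ^ k := by
  obtain ⟨e, P, hP, hPW⟩ := exists_sympl_matrix W halt hW hcard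
  set W' := W.submatrix e e
  set M' := M.submatrix e e
  have hPu : IsUnit P.det := isUnit_iff_ne_zero.2 hP
  have hM' : M'ᵀ * W' * M' = c • W' := by
    rw [Matrix.transpose_submatrix, Matrix.submatrix_mul_equiv, Matrix.submatrix_mul_equiv, hM]
    rfl
  set S := P⁻¹ * M' * P with hS
  have hPS : P * S = M' * P := by rw [hS, ← mul_assoc, ← mul_assoc, Matrix.mul_nonsing_inv _ hPu, one_mul]
  have hJ : Sᵀ * Matrix.J (Fin k) F * S = c • Matrix.J (Fin k) F := by
    refine neg_injective ?_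
    rw [← Matrix.neg_mul, ← Matrix.mul_neg, ← smul_neg, ← hPW]
    calc Sᵀ * (Pᵀ * W' * P) * S = (P * S)ᵀ * W' * (P * S) := by
          conv_rhs => rw [Matrix.transpose_mul]
          simp only [mul_assoc]
      _ = Pᵀ * (M'ᵀ * W' * M') * P := by
          rw [hPS, Matrix.transpose_mul]; simp only [mul_assoc]
      _ = c • (Pᵀ * W' * P) := by rw [hM', Matrix.mul_smul, Matrix.smul_mul]
  let E : Matrix (Fin k ⊕ Fin k) (Fin k ⊕ Fin k) F := Matrix.fromBlocks (c⁻¹ • 1) 0 0 1
  have hE : Eᵀ * Matrix.J (Fin k) F * E = c⁻¹ • Matrix.J (Fin k) F := by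
    simp [E, Matrix.J, Matrix.fromBlocks_transpose, Matrix.fromBlocks_multiply, Matrix.fromBlocks_smul]
  have hmem : (E * S)ᵀ ∈ Matrix.symplecticGroup (Fin k) F := by
    refine SymplecticGroup.mem_iff.2 ?_
    rw [Matrix.transpose_transpose, Matrix.transpose_mul,
      show Sᵀ * Eᵀ * Matrix.J (Fin k) F * (E * S) = Sᵀ * (Eᵀ * Matrix.J (Fin k) F * E) * S by
        simp only [mul_assoc],
      hE, Matrix.mul_smul, Matrix.smul_mul, hJ, smul_smul, inv_mul_cancel₀ hc, one_smul]
  have hd := SymplecticGroup.det_eq_one hmem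
  rw [Matrix.det_transpose, Matrix.det_mul, Matrix.det_fromBlocks_zero₂₁, Matrix.det_smul,
    Matrix.det_one, mul_one, mul_one, Fintype.card_fin, inv_pow, hS, Matrix.det_conj' ((Matrix.isUnit_iff_isUnit_det _).2 hPu),
    Matrix.det_submatrix_equiv_self, inv_mul_eq_one₀ (pow_ne_zero _ hc)] at hd
  exact hd.symm

end Cfsg.Agent.OrthOuter
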