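import Cfsg.Agent.Lib.OrthOuter.Parity
import Cfsg.Agent.Lib.FieldAut.Classes

/-!
# Involutory similarities with `det = -mult^k`

* `sgn_eq_one_of_skew` : `g² = -μ` forces `det g = μ^k`
* `exists_commuting_spin` : an element of `SO` of spinor value `-1` commuting with such an involution
* `splitCount_even` : always two classes for even `k`
* `splitCount` : the class of such an involution splits into one or two classes, two if `-1 ∈ Ω`
-/

set_option autoImplicit false
set_option linter.unusedSectionVars false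

namespace Cfsg.Agent.OrthOuter

open Cfsg Matrix Module Cfsg.Agent.Orth
open QuadraticMap (polar)

variable {ι : Type} [Fintype ι] [DecidableEq ι] {F : Type*} [Field F] [Fintype F]
variable {Q : QuadraticForm F (ι → F)} {k : ℕ}

theorem polar_sum_left (x y : ι → F) :
    polar ⇑Q x y = ∑ i, x i * polar ⇑Q (Pi.single i 1) y := by
  show Q.polarBilin x y = _
  conv_lhs => rw [pi_eq_sum_univ' x]
  simp [map_sum]

theorem det_gram_ne_zero (hQ : Q.polarBilin.Nondegenerate) : (Orth.gram ⇑Q).det ≠ 0 := by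
  intro h0
  obtain ⟨c, hc0, hc⟩ := Matrix.exists_vecMul_eq_zero_iff.2 h0
  obtain ⟨y, hy⟩ := exists_polar_ne hQ hc0
  apply hy
  have h1 : ∀ j, polar ⇑Q c (Pi.single j 1) = 0 := fun j => by
    rw [polar_sum_left]
    exact congrFun hc j
  rw [pl_comm, polar_sum_left]
  exact Finset.sum_eq_zero fun j _ => by rw [pl_comm, h1 j, mul_zero]

theorem sq_of_scal {g : Sim Q} {l : Fˣ} (hgg : g * g = scal Q l) (x : ι → F) :
    sap g (sap g x) = (l : F) • x := by rw [← sap_mul, hgg, sap_scal]

theorem mult_sq_eq (h : Ctx Q k) {g : Sim Q} {l : Fˣ} (hgg : g * g = scal Q l) :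
    l = mult h.exists_ne g ∨ l = -mult h.exists_ne g := by
  have h1 := congrArg (mult h.exists_ne) hgg
  rw [map_mul, mult_scal] at h1
  have h2 : (l : F) * l = (mult h.exists_ne g : F) * mult h.exists_ne g := by
    rw [← Units.val_mul, ← Units.val_mul, h1]
  rcases mul_self_eq_mul_self_iff.1 h2 with e | e
  · exact .inl (Units.ext e)
  · exact .inr (Units.ext (by rw [e, Units.val_neg]))

open Polynomial in
theorem charpoly_mul_charpoly_neg {M : Matrix ι ι F} {l : F} (hMM : M * M = l • 1) :
    M.charpoly * (-M).charpoly = ((X : F[X]) ^ 2 - C l) ^ Fintype.card ι := by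
  rw [Matrix.charpoly, Matrix.charpoly, ← Matrix.det_mul]
  have e : Matrix.charmatrix M * Matrix.charmatrix (-M) = ((X : F[X]) ^ 2 - C l) • 1 := by
    simp only [Matrix.charmatrix, RingHom.mapMatrix_apply]
    rw [show (-M).map C = -(M.map C) by ext; simp]
    have hc : Matrix.scalar ι (X : F[X]) * M.map C = M.map C * Matrix.scalar ι (X : F[X]) :=
      (Matrix.scalar_commute _ (Commute.all _) _).eq
    have hmap : M.map C * M.map C = (M * M).map C := (Matrix.map_mul).symm
    rw [sub_neg_eq_add, sub_mul, mul_add, mul_add, hc, hmap, hMM]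
    ext i j
    by_cases hij : i = j <;> simp [hij, pow_two] <;> ring
  rw [e, Matrix.det_smul, Matrix.det_one, mul_one]

open Polynomial in
theorem det_eq_of_neg_charpoly (h2 : (2 : F) ≠ 0) (hcard : Fintype.card ι = 2 * k)
    {M : Matrix ι ι F} {l : F} (hMM : M * M = l • 1) (hcp : (-M).charpoly = M.charpoly) :
    M.det = (-l) ^ k := by
  have hprod := charpoly_mul_charpoly_neg hMM
  rw [hcp, hcard] at hprod
  have hmon : ((X : F[X]) ^ 2 - C l).Monic := monic_X_pow_sub_C _ two_ne_zero
  have hP : M.charpoly = ((X : F[X]) ^ 2 - C l) ^ k := by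
    have h1 : M.charpoly ^ 2 = (((X : F[X]) ^ 2 - C l) ^ k) ^ 2 := by
      rw [← pow_mul, mul_comm k, ← hprod, sq]
    rcases sq_eq_sq_iff_eq_or_eq_neg.1 h1 with e | e
    · exact e
    · exfalso
      have h3 := congrArg Polynomial.leadingCoeff e
      rw [leadingCoeff_neg, (Matrix.charpoly_monic M).leadingCoeff, (hmon.pow k).leadingCoeff] at h3
      exact h2 (by linear_combination h3)
  rw [Matrix.det_eq_sign_charpoly_coeff, hP, hcard, pow_mul, neg_one_sq, one_pow, one_mul,
    Polynomial.coeff_zero_eq_eval_zero]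
  simp

open Polynomial in
theorem det_eq_of_nonsquare (hcard : Fintype.card ι = 2 * k) {M : Matrix ι ι F} {l : F}
    (hMM : M * M = l • 1) (hl : ¬ IsSquare l) : M.det = (-l) ^ k := by
  have hq : Irreducible ((X : F[X]) ^ 2 - C l) :=
    X_pow_sub_C_irreducible_of_prime Nat.prime_two fun b hb => hl ⟨b, by rw [← hb, sq]⟩
  obtain ⟨j, -, hj⟩ := (dvd_prime_pow hq.prime _).1
    (Dvd.intro _ (charpoly_mul_charpoly_neg hMM))
  have hP : M.charpoly = ((X : F[X]) ^ 2 - C l) ^ j :=
    eq_of_monic_of_associated (Matrix.charpoly_monic M)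
      ((monic_X_pow_sub_C _ two_ne_zero).pow j) hj
  have hjk : j = k := by
    have h1 := Matrix.charpoly_natDegree_eq_dim M
    rw [hP, natDegree_pow, natDegree_X_pow_sub_C, hcard] at h1
    omega
  rw [Matrix.det_eq_sign_charpoly_coeff, hP, hjk, hcard, pow_mul, neg_one_sq, one_pow, one_mul,
    Polynomial.coeff_zero_eq_eval_zero]
  simp

theorem mat_sq {g : Sim Q} {l : Fˣ} (hgg : g * g = scal Q l) :
    ((g : GL ι F) : Matrix ι ι F) * ((g : GL ι F) : Matrix ι ι F) = (l : F) • 1 := by
  have h1 := congrArg (fun z : Sim Q => ((z : GL ι F) : Matrix ι ι F)) hgg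
  simp only [Subgroup.coe_mul, Units.val_mul] at h1
  rw [h1]
  show Matrix.scalar ι (l : F) = _
  simp [Matrix.smul_one_eq_diagonal]

open Polynomial in
theorem sgn_eq_one_of_skew (h : Ctx Q k) {g : Sim Q} {l : Fˣ} (hgg : g * g = scal Q l)
    (hl : l = -mult h.exists_ne g) : sgn h.exists_ne k g = 1 := by
  have hskew : ∀ x y, polar ⇑Q (sap g x) y = -polar ⇑Q x (sap g y) := by
    intro x y
    have h1 := polar_sap h.exists_ne g x (sap g y)
    rw [sq_of_scal hgg, pl_smul_right, hl, Units.val_neg] at h1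
    exact mul_left_cancel₀ (neg_ne_zero.2 (mult h.exists_ne g).ne_zero)
      (by linear_combination h1)
  set M := ((g : GL ι F) : Matrix ι ι F) with hM
  set G := Orth.gram ⇑Q with hG
  obtain ⟨GU, hGU⟩ := (Matrix.isUnit_iff_isUnit_det G).2 (isUnit_iff_ne_zero.2 (det_gram_ne_zero h.nd))
  have hconj : Mᵀ * G = G * (-M) := by
    ext i j
    simp only [Matrix.mul_apply, Matrix.transpose_apply, hG, Orth.gram, Matrix.of_apply, Matrix.neg_apply]
    have h1 := hskew (Pi.single i 1) (Pi.single j 1)
    rw [polar_sum_left, pl_comm Q (Pi.single i 1), polar_sum_left (sap g (Pi.single j 1))] at h1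
    simp only [sap_apply, Matrix.mulVec_single_one, Matrix.col_apply, ← hM] at h1
    rw [h1, ← Finset.sum_neg_distrib]
    refine Finset.sum_congr rfl fun x _ => ?_
    rw [pl_comm]; ring
  have hcp : (-M).charpoly = M.charpoly := by
    have e : -M = (↑GU⁻¹ : Matrix ι ι F) * Mᵀ * (GU : Matrix ι ι F) := by
      rw [mul_assoc, hGU, hconj, ← hGU, Units.inv_mul_cancel_left]
    rw [e, Matrix.coe_units_inv, Matrix.charpoly_units_conj', Matrix.charpoly_transpose]
  have hdet : M.det = (-(l : F)) ^ k := det_eq_of_neg_charpoly h.two h.card (mat_sq hgg) hcp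
  rw [sgn_apply, show sdet Q g = mult h.exists_ne g ^ k from Units.ext ?_, mul_inv_cancel]
  rw [sdet_coe, Units.val_pow_eq_pow_val, ← hM, hdet, hl, Units.val_neg, neg_neg]

open Classical in
theorem exists_commuting_spin (h : Ctx Q k) {g : Sim Q} {l : Fˣ} (hgg : g * g = scal Q l)
    (hsgn : sgn h.exists_ne k g ≠ 1) :
    ∃ z : IsoGrp Q, dick z = 1 ∧ spin z = -1 ∧ toSim Q z * g = g * toSim Q z := by
  have hl : l = mult h.exists_ne g :=
    (mult_sq_eq h hgg).resolve_right fun e => hsgn (sgn_eq_one_of_skew h hgg e)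
  set μ := mult h.exists_ne g with hμ
  subst hl
  have hcard := h.card
  have hk := h.three
  obtain ⟨ν, hν⟩ := exists_nonsq (F := F) (by
    rcases Nat.even_or_odd (Fintype.card F) with he | ho
    · exact absurd ((ringChar.eq_iff).1 (FiniteField.even_card_iff_char_two.2 (Nat.even_iff.1 he)))
        (fun hc => h.two (by
          haveI := hc
          exact_mod_cast CharP.cast_eq_zero F 2))
    · exact ho)
  have hνs : quadraticChar F (ν : F) = -1 := by rw [← chi_coe, hν]; rfl
  rcases Int.units_eq_one_or (chi F μ) with hsq | hns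
  · -- square multiplier
    obtain ⟨t, ht⟩ := (chi_eq_one_iff _).1 hsq
    obtain ⟨o, ho⟩ := exists_of_mult_one h ((scal Q t)⁻¹ * g)
      (by rw [map_mul, map_inv, mult_scal, ← hμ, ht, inv_mul_cancel])
    have hg : g = scal Q t * toSim Q o := by rw [ho, mul_inv_cancel_left]
    have hoo : ∀ x, ap o (ap o x) = x := by
      intro x
      have h1 := sq_of_scal hgg x
      rw [hg, sap_mul, sap_mul, sap_scal, sap_toSim, sap_toSim, sap_scal, map_smul, smul_smul, ht,
        Units.val_mul] at h1
      exact smul_right_injective _ (mul_ne_zero t.ne_zero t.ne_zero) h1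
    let P : Submodule F (ι → F) := LinearMap.ker (ap o - LinearMap.id)
    let N : Submodule F (ι → F) := LinearMap.ker (ap o + LinearMap.id)
    have hP : ∀ x, x ∈ P ↔ ap o x = x := fun x => by simp [P, sub_eq_zero]
    have hN : ∀ x, x ∈ N ↔ ap o x = -x := fun x => by simp [N, add_eq_zero_iff_eq_neg]
    have h22 : (2 : F)⁻¹ + (2 : F)⁻¹ = 1 := by field_simp [h.two]; norm_num
    have htop : P ⊔ N = ⊤ := by
      rw [eq_top_iff]
      intro x _
      refine Submodule.mem_sup.2 ⟨(2 : F)⁻¹ • (x + ap o x), (hP _).2 (by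
        rw [map_smul, map_add, hoo, add_comm]), (2 : F)⁻¹ • (x - ap o x), (hN _).2 (by
        rw [map_smul, map_sub, hoo, ← smul_neg, neg_sub]), ?_⟩
      rw [← smul_add, show x + ap o x + (x - ap o x) = x + x by abel, smul_add, ← add_smul, h22,
        one_smul]
    have hW : ∃ (W : Submodule F (ι → F)) (s : F), (s = 1 ∨ s = -1) ∧ 2 ≤ finrank F W ∧
        (∀ x ∈ W, ap o x = s • x) ∧ ∀ x ∈ W, x ≠ 0 → ∃ y ∈ W, polar ⇑Q x y ≠ 0 := by
      have hdim := Submodule.finrank_add_le_finrank_add_finrank P N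
      rw [htop, finrank_top, finrank_space, hcard] at hdim
      rcases le_or_gt 2 (finrank F P) with h1 | h1
      · refine ⟨P, 1, .inl rfl, h1, fun x hx => by rw [one_smul]; exact (hP x).1 hx, fun x hx hx0 => ?_⟩
        obtain ⟨y, hy⟩ := exists_polar_ne h.nd hx0
        refine ⟨y + ap o y, (hP _).2 (by rw [map_add, hoo, add_comm]), ?_⟩
        have : polar ⇑Q x (ap o y) = polar ⇑Q x y := by
          conv_lhs => rw [← (hP x).1 hx, polar_ap]
        rw [pl_add_right, this, ← two_mul]
        exact mul_ne_zero h.two hy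
      · refine ⟨N, -1, .inr rfl, by omega,
          fun x hx => by rw [neg_one_smul]; exact (hN x).1 hx, fun x hx hx0 => ?_⟩
        obtain ⟨y, hy⟩ := exists_polar_ne h.nd hx0
        refine ⟨y - ap o y, (hN _).2 (by rw [map_sub, hoo, neg_sub]), ?_⟩
        have : polar ⇑Q x (ap o y) = -polar ⇑Q x y := by
          rw [← polar_ap o x y, (hN x).1 hx, pl_neg_left, neg_neg]
        rw [pl_sub_right, this, sub_neg_eq_add, ← two_mul]
        exact mul_ne_zero h.two hy
    obtain ⟨W, s, hs, hWd, hWo, hWn⟩ := hW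
    obtain ⟨v, hv, hQv⟩ := exists_Q_eq_in W hWn hWd 1
    obtain ⟨w, hw, hQw⟩ := exists_Q_eq_in W hWn hWd (ν : F)
    have hv0 : Q v ≠ 0 := by rw [hQv]; exact one_ne_zero
    have hw0 : Q w ≠ 0 := by rw [hQw]; exact ν.ne_zero
    have hcomm : ∀ u ∈ W, o * refl Q u = refl Q u * o := fun u hu => by
      rw [mul_refl, hWo u hu, refl_smul Q (by rcases hs with e | e <;> simp [e]) u]
    refine ⟨refl Q v * refl Q w, ?_, ?_, ?_⟩
    · rw [dick_mul h.good, dick_refl h.nd hv0, dick_refl h.nd hw0]; norm_num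
    · rw [spin_mul h.good, spin_refl h.nd hv0, spin_refl h.nd hw0, hQv, hQw, map_one, one_mul, hνs]
    · have e : o * (refl Q v * refl Q w) = refl Q v * refl Q w * o := by
        rw [← mul_assoc, hcomm v hv, mul_assoc, hcomm w hw, ← mul_assoc]
      rw [hg, ← mul_assoc, scal_comm, mul_assoc, mul_assoc, ← map_mul, ← map_mul, e]
  · -- non-square multiplier
    have hadj : ∀ x y, polar ⇑Q (sap g x) y = polar ⇑Q x (sap g y) := by
      intro x y
      have h1 := polar_sap h.exists_ne g x (sap g y)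
      rw [sq_of_scal hgg, pl_smul_right, ← hμ] at h1
      exact mul_left_cancel₀ μ.ne_zero h1
    obtain ⟨v₀, hv₀⟩ := h.exists_ne
    let W : Submodule F (ι → F) := orthFam Q ![v₀, sap g v₀]
    obtain ⟨w, hw, hQw⟩ : ∃ w ∈ W, Q w ≠ 0 := by
      by_contra! hall
      have h1 := two_mul_finrank_le_of_isotropic h.nd W fun x hx y hy => by
        simp [polar, hall x hx, hall y hy, hall _ (W.add_mem hx hy)]
      have h2 : Fintype.card ι ≤ finrank F W + 2 := card_le_finrank_orthFam (Q := Q) ![v₀, sap g v₀]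
      omega
    have hw2 : polar ⇑Q v₀ w = 0 ∧ polar ⇑Q (sap g v₀) w = 0 := by
      have := mem_orthFam.1 hw
      exact ⟨this 0, this 1⟩
    haveI : Fact (∀ r : F, r ^ 2 ≠ (μ : F) + 0 * r) := ⟨fun r hr => by
      rw [zero_mul, add_zero, sq] at hr
      have : chi F μ = 1 := (chi_eq_one_iff μ).2 ⟨Units.mk0 r (fun e => μ.ne_zero (by rw [← hr, e, mul_zero])),
        Units.ext (by simpa using hr.symm)⟩
      rw [this] at hns
      exact absurd hns (by decide)⟩
    let K := QuadraticAlgebra F (μ : F) 0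
    letI : Fintype K := Fintype.ofEquiv (F × F) (QuadraticAlgebra.equivProd _ _).symm
    let H₀ : K := ⟨polar ⇑Q v₀ (sap g v₀), polar ⇑Q v₀ v₀⟩
    let H₁ : K := ⟨polar ⇑Q w (sap g w), polar ⇑Q w w⟩
    have hH₀ : H₀ ≠ 0 := fun e => by
      have := congrArg QuadraticAlgebra.im e
      simp only [H₀, QuadraticAlgebra.im_zero, pl_self] at this
      exact mul_ne_zero h.two hv₀ this
    have hH₁ : H₁ ≠ 0 := fun e => by
      have := congrArg QuadraticAlgebra.im e
      simp only [H₁, QuadraticAlgebra.im_zero, pl_self] at this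
      exact mul_ne_zero h.two hQw this
    obtain ⟨z₁, z₂, hz⟩ := FiniteField.exists_root_sum_quadratic
      (f := Polynomial.C H₀ * Polynomial.X ^ 2)
      (g := Polynomial.C H₁ * Polynomial.X ^ 2 - Polynomial.C (⟨0, 1⟩ : K))
      (Polynomial.degree_C_mul_X_pow 2 hH₀)
      (by
        rw [Polynomial.degree_sub_eq_left_of_degree_lt] <;>
          rw [Polynomial.degree_C_mul_X_pow 2 hH₁]
        · rfl
        · refine lt_of_le_of_lt (Polynomial.degree_C_le (R := K) (a := ⟨0, 1⟩)) ?_
          exact WithBot.coe_lt_coe.2 (by norm_num : (0 : ℕ) < 2))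
      (by
        have hodd : Odd (Fintype.card F) := by
          rcases Nat.even_or_odd (Fintype.card F) with he | ho
          · exact absurd ((ringChar.eq_iff).1 (FiniteField.even_card_iff_char_two.2 (Nat.even_iff.1 he)))
              (fun hc => h.two (by
                haveI := hc
                exact_mod_cast CharP.cast_eq_zero F 2))
          · exact ho
        rw [Fintype.card_congr (QuadraticAlgebra.equivProd (μ : F) 0), Fintype.card_prod]
        exact Nat.odd_iff.1 (hodd.mul hodd))
    set v := z₁.re • v₀ + z₁.im • sap g v₀ + (z₂.re • w + z₂.im • sap g w) with hv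
    have hgv : sap g v = z₁.re • sap g v₀ + z₁.im • ((μ : F) • v₀) +
        (z₂.re • sap g w + z₂.im • ((μ : F) • w)) := by
      simp only [hv, map_add, map_smul, sq_of_scal hgg]
    have hcross : polar ⇑Q v₀ (sap g w) = 0 ∧ polar ⇑Q (sap g v₀) (sap g w) = 0 :=
      ⟨by rw [← hadj]; exact hw2.2, by rw [polar_sap h.exists_ne, hw2.1, mul_zero]⟩
    have hsym : ∀ x, polar ⇑Q (sap g x) x = polar ⇑Q x (sap g x) := fun x => hadj x x
    have hgg' : ∀ x, polar ⇑Q (sap g x) (sap g x) = (μ : F) * polar ⇑Q x x := fun x => by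
      rw [polar_sap h.exists_ne]
    simp only [Polynomial.eval_sub, Polynomial.eval_mul, Polynomial.eval_C, Polynomial.eval_pow,
      Polynomial.eval_X, pow_two] at hz
    have hre := congrArg QuadraticAlgebra.re hz
    have him := congrArg QuadraticAlgebra.im hz
    simp [K, H₀, H₁] at hre him
    have c1 : polar ⇑Q w v₀ = 0 := by rw [pl_comm]; exact hw2.1
    have c2 : polar ⇑Q w (sap g v₀) = 0 := by rw [pl_comm]; exact hw2.2
    have c3 : polar ⇑Q (sap g w) v₀ = 0 := by rw [pl_comm]; exact hcross.1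
    have c4 : polar ⇑Q (sap g w) (sap g v₀) = 0 := by rw [pl_comm]; exact hcross.2
    have hB : polar ⇑Q v (sap g v) = 0 := by
      rw [hgv, hv]
      simp only [pl_add_left, pl_add_right, pl_smul_left, pl_smul_right, hw2.1, hw2.2, hcross.1,
        hcross.2, c1, c2, c3, c4, hsym, hgg']
      simp only [pl_self]
      linear_combination hre
    have hA : polar ⇑Q v v = 1 := by
      rw [hv]
      simp only [pl_add_left, pl_add_right, pl_smul_left, pl_smul_right, hw2.1, hw2.2, hcross.1,
        hcross.2, c1, c2, c3, c4, hsym, hgg']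
      simp only [pl_self]
      linear_combination him
    have hv0 : Q v ≠ 0 := fun e => by rw [pl_self, e, mul_zero] at hA; exact zero_ne_one hA
    have hgv0 : Q (sap g v) ≠ 0 := by rw [Q_sap h.exists_ne]; exact mul_ne_zero μ.ne_zero hv0
    refine ⟨refl Q v * refl Q (sap g v), ?_, ?_, ?_⟩
    · rw [dick_mul h.good, dick_refl h.nd hv0, dick_refl h.nd hgv0]; norm_num
    · rw [spin_mul h.good, spin_refl h.nd hv0, spin_refl h.nd hgv0, Q_sap h.exists_ne, map_mul,
        ← mul_assoc, mul_comm (quadraticChar F (Q v)), mul_assoc, ← sq, quadraticChar_sq_one hv0,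
        mul_one, ← hμ, ← chi_coe, hns]
      rfl
    · have hcm : refl Q (sap g v) * refl Q v = refl Q v * refl Q (sap g v) := by
        rw [mul_refl, refl_ap_of_orth]
        rw [pl_comm]; exact hB
      have e1 : isoConj Q g (refl Q v * refl Q (sap g v)) = refl Q v * refl Q (sap g v) := by
        rw [map_mul, isoConj_refl h.exists_ne, isoConj_refl h.exists_ne, sq_of_scal hgg,
          refl_smul Q μ.ne_zero, hcm]
      have e2 := toSim_isoConj g (refl Q v * refl Q (sap g v))
      rw [e1] at e2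
      exact eq_mul_inv_iff_mul_eq.1 e2

/-- The class of an involution `conjAut g` with `det g ≠ μ^k` under the image of `plusS`. -/
theorem splitCount (h : Ctx Q k) (hD : Diag Q k) {g : Sim Q}
    (hsgn : sgn h.exists_ne k g ≠ 1) (hg2 : conjAut Q g ^ 2 = 1) :
    (splitClassCount ((plusS h.exists_ne k).map (conjAut Q)) (Inn (POmega F ⇑Q)) (conjAut Q g) = 1 ∨
      splitClassCount ((plusS h.exists_ne k).map (conjAut Q)) (Inn (POmega F ⇑Q)) (conjAut Q g) = 2) ∧
    (negOne Q ∈ Omega F ⇑Q →
      splitClassCount ((plusS h.exists_ne k).map (conjAut Q)) (Inn (POmega F ⇑Q)) (conjAut Q g) = 2) := by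
  obtain ⟨l, hl⟩ : ∃ l, g * g = scal Q l := by
    rw [← conjAut_eq_one_iff h, map_mul, ← sq]; exact hg2
  haveI : (Inn (POmega F ⇑Q)).Normal := by
    refine ⟨?_⟩
    rintro _ ⟨x, rfl⟩ e
    exact ⟨e x, by ext y; simp [MulAut.conj_apply]⟩
  have hle : Inn (POmega F ⇑Q) ≤ (plusS h.exists_ne k).map (conjAut Q) := by
    rw [← map_omZ h]; exact Subgroup.map_mono ((omZ_le_soZ h).trans (soZ_le_plusS h))
  rw [FieldAut.splitClassCount_eq_index _ _ hle, ← Subgroup.relIndex]
  set M := Inn (POmega F ⇑Q) ⊔ (plusS h.exists_ne k).map (conjAut Q) ⊓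
    Subgroup.centralizer {conjAut Q g}
  have hsplitA : negOne Q ∈ Omega F ⇑Q → M = (soZ Q).map (conjAut Q) := by
    intro hA
    obtain ⟨z, hzd, hzs, hzc⟩ := exists_commuting_spin h hl hsgn
    refine le_antisymm (sup_le ?_ ?_) ?_
    · rw [← map_omZ h]; exact Subgroup.map_mono (omZ_le_soZ h)
    · rintro _ ⟨⟨c, hc, rfl⟩, hcc⟩
      have hc' : sgn h.exists_ne k c = 1 := hc
      refine ⟨c, (mem_soZ_iff h c).2 ⟨hc', ?_⟩, rfl⟩
      refine (Int.units_eq_one_or _).resolve_right fun hneg => ?_
      have hcom : conjAut Q c * conjAut Q g = conjAut Q g * conjAut Q c :=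
        Subgroup.mem_centralizer_singleton_iff.1 hcc
      obtain ⟨u, hu, hus, huc⟩ : ∃ u : Sim Q, chi F (mult h.exists_ne u) = 1 ∧
          sgn h.exists_ne k u ≠ 1 ∧ conjAut Q c * conjAut Q u = conjAut Q u * conjAut Q c := by
        rcases Int.units_eq_one_or (chi F (mult h.exists_ne g)) with e | e
        · exact ⟨g, e, hsgn, hcom⟩
        · refine ⟨g * c, ?_, ?_, ?_⟩
          · rw [map_mul, map_mul, e, hneg]; decide
          · rw [map_mul, hc', mul_one]; exact hsgn
          · rw [map_mul, ← mul_assoc, hcom, mul_assoc]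
      obtain ⟨t, ht⟩ := (chi_eq_one_iff _).1 hu
      obtain ⟨o, ho⟩ := exists_of_mult_one h ((scal Q t)⁻¹ * u)
        (by rw [map_mul, map_inv, mult_scal, ht, inv_mul_cancel])
      have huo : conjAut Q u = conjAut Q (toSim Q o) := by
        rw [ho, map_mul, map_inv, (conjAut_eq_one_iff h _).2 ⟨t, rfl⟩, inv_one, one_mul]
      have hod : dick o = -1 := by
        refine (dick_eq_or o).resolve_left fun e => hus ?_
        have := (dick_eq_one_iff_det h o).1 e
        rw [plusS, MonoidHom.mem_ker, ho, map_mul, map_inv, sgn_scal h, inv_one, one_mul] at this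
        exact this
      have hmem : toSim Q (isoConj Q c o * o⁻¹) ∈ omZ Q := by
        apply ker_le_omZ h
        rw [MonoidHom.mem_ker, map_mul (toSim Q), map_inv, map_mul, map_inv, toSim_isoConj, map_mul,
          map_mul, map_inv, ← huo, huc, mul_inv_cancel_right, mul_inv_cancel]
      obtain ⟨hd1, hs1⟩ := spin_isoConj h.good h.exists_ne c o
      have hd2 : dick (isoConj Q c o * o⁻¹) = 1 := by
        rw [dick_mul h.good, hd1, ← dick_mul h.good, mul_inv_cancel, dick_one]
      rw [toSim_mem_omZ_iff_spin h hA _ hd2, spin_mul h.good, hs1, hod, if_neg (by norm_num), hneg]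
        at hmem
      have h3 := spin_mul h.good o o⁻¹
      rw [mul_inv_cancel, spin_one] at h3
      simp at hmem
      rw [← h3] at hmem
      norm_num at hmem
    · rintro _ ⟨s, hs, rfl⟩
      have hzso : toSim Q z ∈ soZ Q := Subgroup.mem_sup_left ((toSim_mem_soS_iff h z).2 hzd)
      have hzM : conjAut Q (toSim Q z) ∈ M :=
        Subgroup.mem_sup_right ⟨⟨_, soZ_le_plusS h hzso, rfl⟩,
          Subgroup.mem_centralizer_singleton_iff.2 (by rw [← map_mul, hzc, map_mul])⟩
      have hzn : toSim Q z ∉ omZ Q := by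
        rw [toSim_mem_omZ_iff_spin h hA z hzd, hzs]; norm_num
      have hin : ∀ x ∈ omZ Q, conjAut Q x ∈ M := fun x hx =>
        Subgroup.mem_sup_left (by rw [← map_omZ h]; exact ⟨x, hx, rfl⟩)
      by_cases hso : s ∈ omZ Q
      · exact hin s hso
      · have h2 := Subgroup.mul_mem_iff_of_index_two (omZ_relIndex_soZ h hA)
          (a := (⟨toSim Q z, hzso⟩ : soZ Q)⁻¹) (b := (⟨s, hs⟩ : soZ Q))
        simp only [Subgroup.mem_subgroupOf, Subgroup.coe_mul, InvMemClass.coe_inv, inv_mem_iff] at h2
        have h3 := hin _ (h2.2 ⟨fun a => absurd a hzn, fun a => absurd a hso⟩)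
        rw [map_mul, map_inv, Subgroup.mul_mem_cancel_left _ (inv_mem hzM)] at h3
        exact h3
  have hA2 : negOne Q ∈ Omega F ⇑Q → M.relIndex ((plusS h.exists_ne k).map (conjAut Q)) = 2 := by
    intro hA
    rw [hsplitA hA, Subgroup.relIndex_map_map,
      sup_eq_left.2 ((ker_le_omZ h).trans (omZ_le_soZ h)),
      sup_eq_left.2 ((ker_le_omZ h).trans ((omZ_le_soZ h).trans (soZ_le_plusS h))),
      soZ_relIndex_plusS h hD]
  refine ⟨?_, hA2⟩
  by_cases hA : negOne Q ∈ Omega F ⇑Q
  · exact .inr (hA2 hA)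
  · have hdvd : M.relIndex ((plusS h.exists_ne k).map (conjAut Q)) ∣ 2 := by
      refine dvd_trans (Subgroup.relIndex_dvd_of_le_left _ le_sup_left) ?_
      rw [← map_omZ h, le_antisymm (omZ_le_soZ h) (soZ_le_omZ h hA), Subgroup.relIndex_map_map,
        sup_eq_left.2 ((ker_le_omZ h).trans (omZ_le_soZ h)),
        sup_eq_left.2 ((ker_le_omZ h).trans ((omZ_le_soZ h).trans (soZ_le_plusS h))),
        soZ_relIndex_plusS h hD]
    exact (Nat.dvd_prime Nat.prime_two).1 hdvd

/-- For even `k` the class always splits into two classes. -/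
theorem splitCount_even (h : Ctx Q k) (hD : Diag Q k) (hk : Even k) {g : Sim Q}
    (hsgn : sgn h.exists_ne k g ≠ 1) (hg2 : conjAut Q g ^ 2 = 1) :
    splitClassCount ((plusS h.exists_ne k).map (conjAut Q)) (Inn (POmega F ⇑Q)) (conjAut Q g) = 2 := by
  classical
  obtain ⟨l, hgg⟩ : ∃ l, g * g = scal Q l := by
    rw [← conjAut_eq_one_iff h, map_mul, ← sq]; exact hg2
  have hl : l = mult h.exists_ne g :=
    (mult_sq_eq h hgg).resolve_right fun e => hsgn (sgn_eq_one_of_skew h hgg e)
  -- the multiplier is a square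
  have hsq : chi F (mult h.exists_ne g) = 1 := by
    refine (Int.units_eq_one_or _).resolve_right fun hneg => hsgn ?_
    have hns : ¬ IsSquare (l : F) := by
      rw [← quadraticChar_neg_one_iff_not_isSquare, ← chi_coe, hl, hneg]; rfl
    have hdet := det_eq_of_nonsquare h.card (mat_sq hgg) hns
    rw [sgn_apply, show sdet Q g = mult h.exists_ne g ^ k from Units.ext ?_, mul_inv_cancel]
    rw [sdet_coe, hdet, Units.val_pow_eq_pow_val, hl, hk.neg_pow]
  obtain ⟨t, ht⟩ := (chi_eq_one_iff _).1 hsq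
  obtain ⟨o, ho⟩ := exists_of_mult_one h ((scal Q t)⁻¹ * g)
    (by rw [map_mul, map_inv, mult_scal, ht, inv_mul_cancel])
  have hg : g = scal Q t * toSim Q o := by rw [ho, mul_inv_cancel_left]
  have hoo : toSim Q o * toSim Q o = scal Q 1 := by
    have h1 : g * g = scal Q t * scal Q t * (toSim Q o * toSim Q o) := by
      rw [hg, mul_assoc, ← mul_assoc (toSim Q o), scal_comm, mul_assoc, ← mul_assoc (scal Q t)]
    rw [hgg, hl, ht, ← map_mul, left_eq_mul] at h1
    rw [h1, map_one]
  have hgo : conjAut Q g = conjAut Q (toSim Q o) := by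
    rw [hg, map_mul, (conjAut_eq_one_iff h _).2 ⟨t, rfl⟩, one_mul]
  have hod : dick o = -1 := by
    refine (dick_eq_or o).resolve_left fun e => hsgn ?_
    have := (dick_eq_one_iff_det h o).1 e
    rw [plusS, MonoidHom.mem_ker] at this
    rw [hg, map_mul, sgn_scal h, this, one_mul]
  obtain ⟨h1, -⟩ := splitCount h hD hsgn hg2
  refine h1.resolve_left fun hone => ?_
  haveI : (Inn (POmega F ⇑Q)).Normal := by
    refine ⟨?_⟩
    rintro _ ⟨x, rfl⟩ e
    exact ⟨e x, by ext y; simp [MulAut.conj_apply]⟩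
  have hle : Inn (POmega F ⇑Q) ≤ (plusS h.exists_ne k).map (conjAut Q) := by
    rw [← map_omZ h]; exact Subgroup.map_mono ((omZ_le_soZ h).trans (soZ_le_plusS h))
  rw [FieldAut.splitClassCount_eq_index _ _ hle, ← Subgroup.relIndex] at hone
  have hMle : Inn (POmega F ⇑Q) ⊔ (plusS h.exists_ne k).map (conjAut Q) ⊓
      Subgroup.centralizer {conjAut Q g} ≤ (soZ Q).map (conjAut Q) := by
    refine sup_le (by rw [← map_omZ h]; exact Subgroup.map_mono (omZ_le_soZ h)) ?_
    rintro _ ⟨⟨c, hc, rfl⟩, hcc⟩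
    have hc' : sgn h.exists_ne k c = 1 := hc
    refine ⟨c, (mem_soZ_iff h c).2 ⟨hc', ?_⟩, rfl⟩
    refine (Int.units_eq_one_or _).resolve_right fun hneg => ?_
    have hcom : conjAut Q c * conjAut Q g = conjAut Q g * conjAut Q c :=
      Subgroup.mem_centralizer_singleton_iff.1 hcc
    have hker : conjAut Q (toSim Q (isoConj Q c o * o⁻¹)) = 1 := by
      rw [map_mul (toSim Q), map_inv, map_mul, map_inv, toSim_isoConj, map_mul,
        map_mul, map_inv, ← hgo, hcom, mul_inv_cancel_right, mul_inv_cancel]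
    obtain ⟨s, hs⟩ := (conjAut_eq_one_iff h _).1 hker
    have hs2 : (s : F) * s = 1 := by
      have h2 := congrArg (mult h.exists_ne) hs
      rw [mult_toSim, mult_scal] at h2
      rw [← Units.val_mul, ← h2, Units.val_one]
    have hconj : toSim Q (isoConj Q c o) = scal Q s * toSim Q o := by
      rw [← hs, map_mul, map_inv, inv_mul_cancel_right]
    obtain ⟨-, hs1⟩ := spin_isoConj h.good h.exists_ne c o
    rcases mul_self_eq_one_iff.1 hs2 with e | e
    · rw [show s = 1 from Units.ext (by rw [e, Units.val_one]), map_one, one_mul] at hconj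
      rw [toSim_injective hconj, hod, if_neg (by norm_num), hneg] at hs1
      rcases spin_eq_or h.good o with h' | h' <;> rw [h'] at hs1 <;> norm_num at hs1
    · set M := ((o : GL ι F) : Matrix ι ι F) with hM
      have hmat := congrArg (fun z : Sim Q => ((z : GL ι F) : Matrix ι ι F)) hconj
      simp only [toSim_coe, isoConj_coe, Units.val_mul, Subgroup.coe_mul, ← hM] at hmat
      have hsc : (((scal Q s : Sim Q) : GL ι F) : Matrix ι ι F) = -1 := by
        show Matrix.scalar ι (s : F) = _
        rw [e, map_neg, map_one]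
      rw [hsc, neg_mul, one_mul] at hmat
      have hcp : (-M).charpoly = M.charpoly := by
        rw [← hmat, Matrix.coe_units_inv, Matrix.charpoly_units_conj]
      have hMM : M * M = (1 : F) • 1 := by
        have := mat_sq (g := toSim Q o) hoo
        rwa [toSim_coe, Units.val_one] at this
      have hdet := det_eq_of_neg_charpoly h.two h.card hMM hcp
      rw [hk.neg_one_pow] at hdet
      have hds : sgn h.exists_ne k (toSim Q o) = 1 := Units.ext (by rw [sgn_toSim h, ← hM, hdet, Units.val_one])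
      rw [(dick_eq_one_iff_det h o).2 hds] at hod
      norm_num at hod
  have hdvd := Subgroup.relIndex_dvd_of_le_left ((plusS h.exists_ne k).map (conjAut Q)) hMle
  rw [hone, Subgroup.relIndex_map_map, sup_eq_left.2 ((ker_le_omZ h).trans (omZ_le_soZ h)),
    sup_eq_left.2 ((ker_le_omZ h).trans ((omZ_le_soZ h).trans (soZ_le_plusS h))),
    soZ_relIndex_plusS h hD] at hdvd
  norm_num at hdvd

end Cfsg.Agent.OrthOuter
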