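import Cfsg.Agent.Lib.OrthOuter.Models
import Cfsg.Agent.Lib.OrthAct.MaxClass
import Cfsg.Agent.Lib.OrthAct.Stab

/-!
# Class-preserving similarities

* `preserves_iff` : for a split form, `PreservesSingularClasses ↔ det = mult^k`
* `preserves_plus_iff`, `preservesMinus_iff`
* `inndiagPlus_eq`, `inndiagMinus_eq` : `Inndiag` is the image of `plusS`
-/

set_option autoImplicit false
set_option linter.unusedSectionVars false

namespace Cfsg.Agent.OrthOuter

open Cfsg Matrix Module Cfsg.Agent.Orth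
open QuadraticMap (polar)

variable {ι : Type} [Fintype ι] [DecidableEq ι] {F : Type*} [Field F] [Fintype F]
variable {Q : QuadraticForm F (ι → F)} {k : ℕ}

/-- A split structure: a totally singular half with a similarity of each multiplier stabilising it. -/
def Split (hne : ∃ v, Q v ≠ 0) (k : ℕ) (U₀ : Submodule F (ι → F)) : Prop :=
  finrank F U₀ = k ∧ (∀ u ∈ U₀, Q u = 0) ∧
    ∀ ν : Fˣ, ∃ d : Sim Q, mult hne d = ν ∧ sgn hne k d = 1 ∧ U₀.map (sap d) = U₀

theorem exists_iso_of_max (h : Ctx Q k) {U₀ : Submodule F (ι → F)} (hk : finrank F U₀ = k)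
    (h0 : ∀ u ∈ U₀, Q u = 0) {U : Submodule F (ι → F)} (hU : IsMaxTotallySingular ⇑Q U) :
    ∃ o : IsoGrp Q, U₀.map (ap o) = U := by
  have hU0 : ∀ u ∈ U, Q u = 0 := hU.1
  have hle : finrank F U ≤ k := by
    have := two_mul_finrank_le_of_isotropic h.nd U fun x hx y hy =>
      OrthAct.polar_eq_zero_of_singular hU0 hx hy
    rw [h.card] at this
    omega
  set b := Module.finBasis F U₀
  set c := Module.finBasis F U
  let v : Fin (finrank F U) → (ι → F) := fun i => (b (Fin.castLE (hle.trans hk.ge) i) : ι → F)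
  have hli : LinearIndependent F v :=
    (b.linearIndependent.map' U₀.subtype (Submodule.ker_subtype _)).comp _
      (Fin.castLE_injective _)
  let φ : ↥(Submodule.span F (Set.range v)) ≃ₗ[F] U := (Basis.span hli).equiv c (Equiv.refl _)
  have hX : Submodule.span F (Set.range v) ≤ U₀ := by
    rw [Submodule.span_le]
    rintro _ ⟨i, rfl⟩
    exact (b _).2
  obtain ⟨o, -, ho⟩ := OrthAct.exists_iso_map h.nd φ fun x => by
    rw [hU0 _ (φ x).2, h0 _ (hX x.2)]
  refine ⟨o, hU.2 _ ?_ (ho ▸ Submodule.map_mono hX)⟩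
  rintro _ ⟨x, hx, rfl⟩
  rw [Q_ap, h0 x hx]

theorem isMax_of_finrank (h : Ctx Q k) {U : Submodule F (ι → F)} (hk : finrank F U = k)
    (h0 : ∀ u ∈ U, Q u = 0) : IsMaxTotallySingular ⇑Q U := by
  refine ⟨h0, fun W hW hle => (Submodule.eq_of_le_of_finrank_le hle ?_).symm⟩
  have := two_mul_finrank_le_of_isotropic h.nd W fun x hx y hy =>
    OrthAct.polar_eq_zero_of_singular hW hx hy
  rw [h.card] at this
  omega

theorem map_sap_mul (g h' : Sim Q) (U : Submodule F (ι → F)) :
    U.map (sap (g * h')) = (U.map (sap h')).map (sap g) := by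
  rw [← Submodule.map_comp]
  congr 1
  exact LinearMap.ext fun x => sap_mul g h' x

theorem sap_toSim' (o : IsoGrp Q) : sap (toSim Q o) = ap o := LinearMap.ext fun x => sap_toSim o x

theorem preserves_iff (h : Ctx Q k) {U₀ : Submodule F (ι → F)} (hS : Split h.exists_ne k U₀)
    (g : Sim Q) :
    PreservesSingularClasses ⇑Q ((g : GL ι F) : Matrix ι ι F) ↔ sgn h.exists_ne k g = 1 := by
  obtain ⟨hk, h0, hd⟩ := hS
  obtain ⟨d, hdm, hds, hdU⟩ := hd (mult h.exists_ne g)
  obtain ⟨o₁, ho₁⟩ := exists_of_mult_one h (d⁻¹ * g) (by rw [map_mul, map_inv, hdm, inv_mul_cancel])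
  have hg : g = d * toSim Q o₁ := by rw [ho₁, mul_inv_cancel_left]
  have hiff : sgn h.exists_ne k g = 1 ↔ dick o₁ = 1 := by
    rw [dick_eq_one_iff_det h, plusS, MonoidHom.mem_ker, hg, map_mul, hds, one_mul]
  have key : ∀ U : Submodule F (ι → F), IsMaxTotallySingular ⇑Q U →
      (SameParityClass U (imageSubmodule ((g : GL ι F) : Matrix ι ι F) U) ↔ dick o₁ = 1) := by
    intro U hU
    obtain ⟨o, ho⟩ := exists_iso_of_max h hk h0 hU
    have hUk : finrank F U = k := by
      rw [← ho, ← hk]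
      exact (Submodule.equivMapOfInjective (ap o) (fun a b hab => ap_inj o hab) U₀).finrank_eq.symm
    have himg : imageSubmodule ((g : GL ι F) : Matrix ι ι F) U = U.map (sap g) := rfl
    have hmap : U.map (sap g) = U.map (ap (isoConj Q d (o₁ * o) * o⁻¹)) := by
      conv_lhs => rw [← ho]
      conv_rhs => rw [← ho]
      rw [← sap_toSim', ← sap_toSim', ← map_sap_mul, ← map_sap_mul, ← map_mul, inv_mul_cancel_right]
      rw [toSim_isoConj, hg, map_mul, map_sap_mul (d * (toSim Q o₁ * toSim Q o)) d⁻¹]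
      have hinv : U₀.map (sap d⁻¹) = U₀ := by
        conv_lhs => rw [← hdU, ← map_sap_mul, inv_mul_cancel]
        conv_rhs => rw [← Submodule.map_id U₀]
        congr 1
        exact LinearMap.ext sap_one
      rw [hinv]
      simp only [mul_assoc]
    have hU0 : ∀ u ∈ U, Q u = 0 := hU.1
    set o₂ := isoConj Q d (o₁ * o) * o⁻¹
    have hd2 : dick o₂ = dick o₁ := by
      have h1 := dick_mul h.good o o⁻¹
      rw [mul_inv_cancel, dick_one] at h1
      rw [dick_mul h.good, (spin_isoConj h.good h.exists_ne d _).1, dick_mul h.good, mul_assoc,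
        ← h1, mul_one]
    rw [himg, hmap, SameParityClass, hUk, ← hd2,
      OrthAct.dick_eq_parity h.good h.card hUk hU0 o₂, neg_one_pow_eq_one_iff_even (by norm_num)]
  rw [hiff]
  constructor
  · intro hp
    exact (key U₀ (isMax_of_finrank h hk h0)).1 (hp U₀ (isMax_of_finrank h hk h0))
  · exact fun hd1 U hU => (key U hU).2 hd1

theorem split_plus (hodd : Odd (Fintype.card F)) {m : ℕ} (hm : 3 ≤ m) :
    Split (ctxPlus hodd hm).exists_ne m
      (LinearMap.ker (LinearMap.funLeft F F (Sum.inr : Fin m → Fin m ⊕ Fin m))) := by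
  obtain ⟨hk, h0⟩ := OrthAct.base_subspace_facts (F := F) m
  have hne := (ctxPlus hodd hm).exists_ne
  refine ⟨hk, fun u hu => ?_, fun ν => ?_⟩
  · have := h0 u hu
    rw [OrthAct.quadPlus_coe] at this
    exact this
  set d : Sim (Orth.quadPlus m F) :=
    ⟨Matrix.GeneralLinearGroup.mkOfDetNeZero (dPlus m (ν : F))
      (by rw [det_dPlus]; exact pow_ne_zero _ ν.ne_zero), ν,
      fun v => quadFormPlus_dPlus m (ν : F) v⟩ with hd
  have hmu : mult hne d = ν := mult_eq _ fun v => quadFormPlus_dPlus m (ν : F) v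
  refine ⟨d, hmu, ?_, ?_⟩
  · rw [sgn_apply, hmu, show sdet _ d = ν ^ m from Units.ext ?_, mul_inv_cancel]
    rw [sdet_coe, Units.val_pow_eq_pow_val]
    exact det_dPlus m (ν : F)
  · refine Submodule.eq_of_le_of_finrank_eq ?_
      (Submodule.equivMapOfInjective (sap d) (fun a b hab => by
        simpa using congrArg (sap d⁻¹) hab) _).finrank_eq.symm
    rintro _ ⟨x, hx, rfl⟩
    refine LinearMap.mem_ker.2 (funext fun i => ?_)
    have hxi : x (Sum.inr i) = 0 := congrFun (LinearMap.mem_ker.1 hx) i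
    show (dPlus m (ν : F) *ᵥ x) (Sum.inr i) = 0
    simp [dPlus, Matrix.fromBlocks_mulVec, hxi]

theorem preserves_plus_iff (hodd : Odd (Fintype.card F)) {m : ℕ} (hm : 3 ≤ m)
    (g : Sim (Orth.quadPlus m F)) :
    PreservesSingularClasses (quadFormPlus m F) ((g : GL (Fin m ⊕ Fin m) F) : Matrix _ _ F) ↔
      sgn (ctxPlus hodd hm).exists_ne m g = 1 :=
  preserves_iff (ctxPlus hodd hm) (split_plus hodd hm) g

theorem inndiagPlus_eq (hodd : Odd (Fintype.card F)) {m : ℕ} (hm : 3 ≤ m) :
    inndiagPOmegaPlus m F =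
      (plusS (ctxPlus hodd hm).exists_ne m).map (conjAut (Orth.quadPlus m F)) := by
  rw [inndiagPOmegaPlus, autSubgroupOf,
    show {β : MulAut (POmega F (quadFormPlus m F)) | IsInnerDiagonalAutPOmegaPlus m β} =
      SetLike.coe (Subgroup.map (conjAut (Orth.quadPlus m F)) (plusS (ctxPlus hodd hm).exists_ne m))
      from ?_]
  · exact Subgroup.closure_eq _
  ext β
  constructor
  · rintro ⟨g, hg, hp, hi⟩
    exact ⟨⟨g, hg⟩, (preserves_plus_iff hodd hm ⟨g, hg⟩).1 hp,
      ((induced_iff (Q := Orth.quadPlus m F) ⟨g, hg⟩ β).1 hi).symm⟩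
  · rintro ⟨g, hg, rfl⟩
    exact ⟨g.1, g.2, (preserves_plus_iff hodd hm g).2 hg, (induced_iff g _).2 rfl⟩

/-! ### minus -/

section Minus

universe u

variable {E : Type u} [Field E] [Fintype E] {m : ℕ} {a b : E}

theorem exists_quadratic_ext (hab : Aniso a b) :
    ∃ (K : Type u) (_ : Field K) (_ : Algebra E K), Module.finrank E K = 2 := by
  open Polynomial in
  let f : E[X] := X ^ 2 + C a * X + C b
  have hdeg : f.natDegree = 2 := by simp only [f]; compute_degree!
  have hf : Irreducible f := by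
    refine Polynomial.irreducible_of_degree_le_three_of_not_isRoot (by simp [hdeg]) fun x hx => ?_
    have := (hab x 1 (by simpa [f, Polynomial.IsRoot] using hx)).2
    exact one_ne_zero this
  haveI : Fact (Irreducible f) := ⟨hf⟩
  exact ⟨AdjoinRoot f, inferInstance, inferInstance, by
    rw [(AdjoinRoot.powerBasis hf.ne_zero).finrank, AdjoinRoot.powerBasis_dim, hdeg]⟩

theorem isSquare_algebraMap {K : Type*} [Field K] [Algebra E K] (h2 : Module.finrank E K = 2)
    (hodd : Odd (Fintype.card E)) (d : E) : IsSquare (algebraMap E K d) := by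
  haveI : FiniteDimensional E K := FiniteDimensional.of_finrank_eq_succ h2
  haveI : Finite K := Module.finite_of_finite E
  letI : Fintype K := Fintype.ofFinite K
  have hK : Fintype.card K = Fintype.card E ^ 2 := by rw [Module.card_eq_pow_finrank (K := E), h2]
  by_cases hd : d = 0
  · exact ⟨0, by simp [hd]⟩
  have hd' : algebraMap E K d ≠ 0 := by simpa using hd
  rw [FiniteField.isSquare_iff ?_ hd']
  · obtain ⟨r, hr⟩ := hodd
    have h4 : Fintype.card K / 2 = (Fintype.card E - 1) * (r + 1) := by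
      rw [hK, hr, show 2 * r + 1 - 1 = 2 * r by omega]
      rw [show (2 * r + 1) ^ 2 = 2 * (2 * r * (r + 1)) + 1 by ring]
      omega
    rw [h4, pow_mul, ← map_pow, FiniteField.pow_card_sub_one_eq_one d hd, map_one, one_pow]
  · intro hc
    have hev := FiniteField.even_card_of_char_two (F := K) hc
    rw [hK] at hev
    exact (Nat.not_even_iff_odd.2 hodd.pow) (Nat.even_iff.2 hev)

variable {K : Type*} [Field K] [Fintype K] [Algebra E K]

theorem map_mulVec_single (M : Matrix ((Fin m ⊕ Fin m) ⊕ Fin 2) ((Fin m ⊕ Fin m) ⊕ Fin 2) E) (i) :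
    M.map (algebraMap E K) *ᵥ Pi.single i 1 = algebraMap E K ∘ (M *ᵥ Pi.single i 1) := by
  rw [Matrix.mulVec_single_one, Matrix.mulVec_single_one]; rfl

theorem preservesMinus_iff_aux (hodd : Odd (Fintype.card E)) (hm : 2 ≤ m) (hab : Aniso a b)
    (h2 : Module.finrank E K = 2) (g : Sim (quadMinus m E a b)) :
    PreservesSingularClasses (quadFormMinus m K (algebraMap E K a) (algebraMap E K b))
      (((g : GL ((Fin m ⊕ Fin m) ⊕ Fin 2) E) : Matrix ((Fin m ⊕ Fin m) ⊕ Fin 2) ((Fin m ⊕ Fin m) ⊕ Fin 2) E).map (algebraMap E K)) ↔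
      sgn (ctxMinus hodd hm hab).exists_ne (m + 1) g = 1 := by
  set φ := algebraMap E K with hφ
  have hne := (ctxMinus hodd hm hab).exists_ne
  set A := φ a with hA
  set B := φ b with hB
  have hoddK : Odd (Fintype.card K) := by
    rw [Module.card_eq_pow_finrank (K := E), h2]; exact hodd.pow
  have htwo : (2 : K) ≠ 0 := two_ne_zero_of_odd hoddK
  have hD : A * A - 4 * B ≠ 0 := by
    rw [hA, hB, show φ a * φ a - 4 * φ b = φ (a * a - 4 * b) by simp [map_ofNat]]
    exact (map_ne_zero φ).2 hab.disc_ne_zero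
  -- the form over `K`
  set QK := quadMinus m K A B with hQK
  have hnd : QK.polarBilin.Nondegenerate := by
    refine nondeg_of_left _ fun x hx => ?_
    have h := fun y => hx y
    simp only [hQK, coe_quadMinus, polar_quadMinus] at h
    have h0 := h (Pi.single (.inr 0) 1)
    have h1 := h (Pi.single (.inr 1) 1)
    simp [Pi.single_apply] at h0 h1
    have e0 : x (.inr 0) = 0 :=
      (mul_eq_zero.1 (by linear_combination (2 * B) * h0 - A * h1 :
        (4 * B - A * A) * x (.inr 0) = 0)).resolve_left (fun e => hD (by linear_combination -e))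
    have e1 : x (.inr 1) = 0 :=
      (mul_eq_zero.1 (by linear_combination 2 * h1 - A * h0 :
        (4 * B - A * A) * x (.inr 1) = 0)).resolve_left (fun e => hD (by linear_combination -e))
    funext s
    rcases s with (i | i) | i
    · have := h (Pi.single (.inl (.inr i)) 1)
      simpa [Pi.single_apply] using this
    · have := h (Pi.single (.inl (.inl i)) 1)
      simpa [Pi.single_apply] using this
    · fin_cases i
      · exact e0
      · exact e1
  have hK : Ctx QK (m + 1) := ⟨hnd, htwo, by simp; omega, by omega⟩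
  -- a root
  obtain ⟨θ, hθ⟩ : ∃ θ : K, θ * θ - A * θ + B = 0 := by
    obtain ⟨s, hs⟩ := isSquare_algebraMap (K := K) h2 hodd (a * a - 4 * b)
    refine ⟨(A + s) / 2, ?_⟩
    have hs' : A * A - 4 * B = s * s := by rw [← hs, hA, hB]; simp [hφ, map_ofNat]
    field_simp
    linear_combination -hs'
  let U₀ : Submodule K ((Fin m ⊕ Fin m) ⊕ Fin 2 → K) := LinearMap.ker
    ((LinearMap.funLeft K K (fun i : Fin m => (Sum.inl (Sum.inr i) : (Fin m ⊕ Fin m) ⊕ Fin 2))).prod
      (LinearMap.proj (Sum.inr 0) + θ • LinearMap.proj (Sum.inr 1)))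
  have hmem : ∀ x, x ∈ U₀ ↔ (∀ i, x (.inl (.inr i)) = 0) ∧ x (.inr 0) + θ * x (.inr 1) = 0 := by
    intro x
    simp [U₀, LinearMap.mem_ker, funext_iff]
  have hU0 : finrank K U₀ = m + 1 := by
    have h := LinearMap.finrank_range_add_finrank_ker
      ((LinearMap.funLeft K K (fun i : Fin m => (Sum.inl (Sum.inr i) : (Fin m ⊕ Fin m) ⊕ Fin 2))).prod
        (LinearMap.proj (R := K) (φ := fun _ => K) (Sum.inr 0) + θ • LinearMap.proj (Sum.inr 1)))
    rw [LinearMap.range_eq_top.2 ?_, finrank_top] at h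
    · simp at h
      simp only [U₀]
      omega
    · rintro ⟨y, z⟩
      refine ⟨Sum.elim (Sum.elim 0 y) ![z, 0], ?_⟩
      ext <;> simp [LinearMap.funLeft_apply]
  have hsing : ∀ u ∈ U₀, QK u = 0 := by
    intro u hu
    obtain ⟨h0, h1⟩ := (hmem u).1 hu
    show quadFormMinus m K A B u = 0
    have hz : u (.inr 0) = -(θ * u (.inr 1)) := eq_neg_of_add_eq_zero_left h1
    rw [quadFormMinus, Finset.sum_eq_zero (fun i _ => by rw [h0 i, mul_zero]), hz]
    linear_combination u (.inr 1) ^ 2 * hθ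
  have hsplit : Split hK.exists_ne (m + 1) U₀ := by
    refine ⟨hU0, hsing, fun ν => ?_⟩
    obtain ⟨⟨z₁, z₂⟩, hz⟩ := Forms.qfBin_surjective (a := A) (b := B)
      (fun e => hD (by linear_combination -e)) (ν : K)
    have hz' : z₁ ^ 2 + A * z₁ * z₂ + B * z₂ ^ 2 = (ν : K) := by
      rw [← hz]; simp [Forms.qfBin]; ring
    set M := Matrix.fromBlocks (dPlus m (ν : K)) 0 0 !![z₁, -B * z₂; z₂, z₁ + A * z₂] with hM
    have hMq : ∀ v, quadFormMinus m K A B (M *ᵥ v) = (ν : K) * quadFormMinus m K A B v := by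
      intro v
      have h1 : quadFormPlus m K (dPlus m (ν : K) *ᵥ (v ∘ Sum.inl)) =
          (ν : K) * quadFormPlus m K (v ∘ Sum.inl) := quadFormPlus_dPlus m _ _
      simp only [quadFormPlus, Function.comp_apply] at h1
      simp only [quadFormMinus, hM]
      rw [Matrix.fromBlocks_mulVec]
      simp only [Matrix.zero_mulVec, add_zero, zero_add, Sum.elim_inl, Sum.elim_inr]
      rw [h1, mul_add, ← hz']
      simp only [Matrix.mulVec, dotProduct, Fin.sum_univ_two, Function.comp_apply, Matrix.of_apply,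
        Matrix.cons_val', Matrix.cons_val_zero, Matrix.cons_val_one, Matrix.cons_val_fin_one]
      ring
    have hMd : M.det = (ν : K) ^ (m + 1) := by
      rw [hM, Matrix.det_fromBlocks_zero₂₁, det_dPlus, Matrix.det_fin_two_of, pow_succ, ← hz']
      ring
    let d : Sim QK := ⟨Matrix.GeneralLinearGroup.mkOfDetNeZero M
      (by rw [hMd]; exact pow_ne_zero _ ν.ne_zero), ν, hMq⟩
    have hmu : mult hK.exists_ne d = ν := mult_eq _ hMq
    refine ⟨d, hmu, ?_, ?_⟩
    · rw [sgn_apply, hmu, show sdet _ d = ν ^ (m + 1) from Units.ext ?_, mul_inv_cancel]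
      rw [sdet_coe, Units.val_pow_eq_pow_val]
      exact hMd
    · refine Submodule.eq_of_le_of_finrank_eq ?_
        (Submodule.equivMapOfInjective (sap d) (fun x y hxy => by
          simpa using congrArg (sap d⁻¹) hxy) _).finrank_eq.symm
      rintro _ ⟨x, hx, rfl⟩
      obtain ⟨h0, h1⟩ := (hmem x).1 hx
      refine (hmem _).2 ?_
      show (∀ i, (M *ᵥ x) (.inl (.inr i)) = 0) ∧ (M *ᵥ x) (.inr 0) + θ * (M *ᵥ x) (.inr 1) = 0
      rw [hM, Matrix.fromBlocks_mulVec]
      refine ⟨fun i => by simp [dPlus, Matrix.fromBlocks_mulVec, h0 i], ?_⟩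
      simp [Matrix.vecHead, Matrix.vecTail]
      linear_combination (z₁ + θ * z₂) * h1 - (z₂ * x (.inr 1)) * hθ
  -- `g` over `K`
  obtain ⟨c, hc⟩ := mult_exists g
  have hgm : mult hne g = c := mult_eq _ hc
  set gK := ((g : GL ((Fin m ⊕ Fin m) ⊕ Fin 2) E) : Matrix ((Fin m ⊕ Fin m) ⊕ Fin 2) ((Fin m ⊕ Fin m) ⊕ Fin 2) E).map φ with hgK
  have hbase : ∀ i j, polar ⇑QK (gK *ᵥ Pi.single i 1) (gK *ᵥ Pi.single j 1) =
      φ (c : E) * polar ⇑QK (Pi.single i 1) (Pi.single j 1) := by
    intro i j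
    have e : polar ⇑(quadMinus m E a b) (sap g (Pi.single i 1)) (sap g (Pi.single j 1)) =
        (c : E) * polar ⇑(quadMinus m E a b) (Pi.single i 1) (Pi.single j 1) := by
      rw [← hgm]; exact polar_sap hne g _ _
    have hs : ∀ l, (Pi.single l 1 : (Fin m ⊕ Fin m) ⊕ Fin 2 → K) =
        φ ∘ (Pi.single l 1 : (Fin m ⊕ Fin m) ⊕ Fin 2 → E) := fun l => by
      funext s; simp [Pi.single_apply, apply_ite φ]
    have e' := congrArg φ e
    rw [map_mul, coe_quadMinus, polar_quadMinus, polar_quadMinus] at e'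
    rw [hgK, hφ, map_mulVec_single, map_mulVec_single, hs i, hs j, hQK, coe_quadMinus,
      polar_quadMinus, polar_quadMinus, hA, hB]
    simp only [map_add, map_sum, map_mul, map_ofNat] at e'
    exact e'
  have hgKq : ∀ v, QK (gK *ᵥ v) = φ (c : E) * QK v := by
    have hpol : ∀ x y, polar ⇑QK (gK *ᵥ x) (gK *ᵥ y) = φ (c : E) * polar ⇑QK x y := by
      have : QK.polarBilin.compl₁₂ gK.mulVecLin gK.mulVecLin = φ (c : E) • QK.polarBilin := by
        apply LinearMap.BilinForm.ext_basis (Pi.basisFun K _)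
        intro i j
        simpa using hbase i j
      intro x y
      exact LinearMap.congr_fun₂ this x y
    intro v
    have h := hpol v v
    rw [pl_self, pl_self] at h
    exact mul_left_cancel₀ htwo (by linear_combination h)
  have hdet : gK.det = φ ((g : GL ((Fin m ⊕ Fin m) ⊕ Fin 2) E) : Matrix ((Fin m ⊕ Fin m) ⊕ Fin 2) ((Fin m ⊕ Fin m) ⊕ Fin 2) E).det := by
    rw [hgK, RingHom.map_det]; rfl
  let gS : Sim QK := ⟨Matrix.GeneralLinearGroup.mkOfDetNeZero gK (by
      rw [hdet]
      simpa using ((g : GL ((Fin m ⊕ Fin m) ⊕ Fin 2) E).isUnit.map Matrix.detMonoidHom).ne_zero),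
    Units.map φ.toMonoidHom c, hgKq⟩
  have hmS : mult hK.exists_ne gS = Units.map φ.toMonoidHom c := mult_eq _ hgKq
  have hdS : sdet QK gS = Units.map φ.toMonoidHom (sdet _ g) := Units.ext (by
    rw [sdet_coe, Units.coe_map]
    exact hdet)
  have hsgn : sgn hK.exists_ne (m + 1) gS = Units.map φ.toMonoidHom (sgn hne (m + 1) g) := by
    rw [sgn_apply, sgn_apply, hmS, hdS, hgm, map_mul, map_inv, map_pow]
  have hinj : Function.Injective (Units.map φ.toMonoidHom) :=
    Units.map_injective φ.injective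
  refine (preserves_iff hK hsplit gS).trans ?_
  rw [hsgn, ← map_one (Units.map φ.toMonoidHom), hinj.eq_iff]

theorem preservesMinus_iff (hodd : Odd (Fintype.card E)) (hm : 2 ≤ m) (hab : Aniso a b)
    (g : Sim (quadMinus m E a b)) :
    PreservesSingularClassesMinus m a b ((g : GL ((Fin m ⊕ Fin m) ⊕ Fin 2) E) : Matrix ((Fin m ⊕ Fin m) ⊕ Fin 2) ((Fin m ⊕ Fin m) ⊕ Fin 2) E) ↔
      sgn (ctxMinus hodd hm hab).exists_ne (m + 1) g = 1 := by
  constructor
  · rintro ⟨K, iK, iA, h2, hp⟩
    haveI : FiniteDimensional E K := FiniteDimensional.of_finrank_eq_succ h2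
    haveI : Finite K := Module.finite_of_finite E
    letI : Fintype K := Fintype.ofFinite K
    exact (preservesMinus_iff_aux hodd hm hab h2 g).1 hp
  · intro hs
    obtain ⟨K, iK, iA, h2⟩ := exists_quadratic_ext hab
    haveI : FiniteDimensional E K := FiniteDimensional.of_finrank_eq_succ h2
    haveI : Finite K := Module.finite_of_finite E
    letI : Fintype K := Fintype.ofFinite K
    exact ⟨K, iK, iA, h2, (preservesMinus_iff_aux hodd hm hab h2 g).2 hs⟩

theorem inndiagMinus_eq (hodd : Odd (Fintype.card E)) (hm : 2 ≤ m) (hab : Aniso a b) :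
    inndiagPOmegaMinus m E a b =
      (plusS (ctxMinus hodd hm hab).exists_ne (m + 1)).map (conjAut (quadMinus m E a b)) := by
  rw [inndiagPOmegaMinus, autSubgroupOf,
    show {β : MulAut (POmega E (quadFormMinus m E a b)) | IsInnerDiagonalAutPOmegaMinus m a b β} =
      SetLike.coe (Subgroup.map (conjAut (quadMinus m E a b))
        (plusS (ctxMinus hodd hm hab).exists_ne (m + 1))) from ?_]
  · exact Subgroup.closure_eq _
  ext β
  constructor
  · rintro ⟨g, hg, hp, hi⟩
    exact ⟨⟨g, hg⟩, (preservesMinus_iff hodd hm hab ⟨g, hg⟩).1 hp,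
      ((induced_iff (Q := quadMinus m E a b) ⟨g, hg⟩ β).1 hi).symm⟩
  · rintro ⟨g, hg, rfl⟩
    exact ⟨g.1, g.2, (preservesMinus_iff hodd hm hab g).2 hg, (induced_iff g _).2 rfl⟩

end Minus

end Cfsg.Agent.OrthOuter
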