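import Cfsg.Agent.EqLemmas

/-!
# Recognising small quotients

* `exists_hom_klein`, `exists_hom_cyclic_four`, `exists_hom_two`, `exists_hom_dihedral`
* `exists_hom_map` : transport of such a homomorphism to the image under a homomorphism with small kernel
* `charRestrict`, `quotAut` : automorphisms restricted to a characteristic subgroup, resp. quotient
-/

set_option autoImplicit false

namespace Cfsg.Agent.OrthOuter

section Recognise

variable {G : Type*} [Group G]

theorem exists_hom_of_equiv {N : Subgroup G} [N.Normal] {A : Type*} [Group A] (e : (G ⧸ N) ≃* A) :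
    ∃ φ : G →* A, Function.Surjective φ ∧ φ.ker = N := by
  refine ⟨e.toMonoidHom.comp (QuotientGroup.mk' N),
    e.surjective.comp (QuotientGroup.mk'_surjective N), ?_⟩
  ext x
  rw [MonoidHom.mem_ker, MonoidHom.comp_apply, MulEquiv.coe_toMonoidHom, EmbeddingLike.map_eq_one_iff,
    QuotientGroup.mk'_apply, QuotientGroup.eq_one_iff]

theorem exists_hom_two {N : Subgroup G} [N.Normal] (hi : N.index = 2) :
    ∃ φ : G →* Multiplicative (ZMod 2), Function.Surjective φ ∧ φ.ker = N := by
  haveI : Fact (Nat.Prime 2) := ⟨Nat.prime_two⟩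
  refine exists_hom_of_equiv (mulEquivOfPrimeCardEq (p := 2) ?_ (by simp))
  rwa [← Subgroup.index_eq_card]

theorem exists_hom_klein {N : Subgroup G} [N.Normal] (hi : N.index = 4)
    (hsq : ∀ g : G, g * g ∈ N) :
    ∃ φ : G →* Multiplicative (ZMod 2 × ZMod 2), Function.Surjective φ ∧ φ.ker = N := by
  have hc : Nat.card (G ⧸ N) = 4 := by rwa [← Subgroup.index_eq_card]
  haveI : Finite (G ⧸ N) := Nat.finite_of_card_ne_zero (by omega)
  haveI : Nontrivial (G ⧸ N) := Finite.one_lt_card_iff_nontrivial.1 (by omega)
  have hall : ∀ x : G ⧸ N, x ^ 2 = 1 := by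
    intro x
    obtain ⟨g, rfl⟩ := QuotientGroup.mk_surjective x
    rw [pow_two, ← QuotientGroup.mk_mul, QuotientGroup.eq_one_iff]
    exact hsq g
  haveI : IsKleinFour (G ⧸ N) :=
    ⟨hc, (Monoid.exponent_eq_prime_iff Nat.prime_two).2 fun x hx => orderOf_eq_prime (hall x) hx⟩
  obtain ⟨e⟩ := (IsKleinFour.nonempty_mulEquiv :
    Nonempty ((G ⧸ N) ≃* Multiplicative (ZMod 2 × ZMod 2)))
  exact exists_hom_of_equiv e

theorem exists_hom_cyclic_four {N : Subgroup G} [N.Normal] (hi : N.index = 4)
    (hsq : ∃ g : G, g * g ∉ N) :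
    ∃ φ : G →* Multiplicative (ZMod 4), Function.Surjective φ ∧ φ.ker = N := by
  obtain ⟨g, hg⟩ := hsq
  have hc : Nat.card (G ⧸ N) = 4 := by rwa [← Subgroup.index_eq_card]
  haveI : Finite (G ⧸ N) := Nat.finite_of_card_ne_zero (by omega)
  haveI : Fact (Nat.Prime 2) := ⟨Nat.prime_two⟩
  have ho : orderOf (QuotientGroup.mk g : G ⧸ N) = 2 ^ 2 := by
    refine orderOf_eq_prime_pow ?_ ?_
    · rw [pow_one, pow_two, ← QuotientGroup.mk_mul, QuotientGroup.eq_one_iff]
      exact hg
    · have := pow_card_eq_one' (x := (QuotientGroup.mk g : G ⧸ N))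
      rwa [hc] at this
  haveI : IsCyclic (G ⧸ N) :=
    isCyclic_of_orderOf_eq_card (QuotientGroup.mk g : G ⧸ N) (by rw [ho, hc]; norm_num)
  exact exists_hom_of_equiv (mulEquivOfCyclicCardEq (by rw [hc]; simp))

/-- A non-abelian group of order eight with two commuting distinct involutions is dihedral. -/
theorem nonempty_dihedral {Q : Type*} [Group Q] (hc : Nat.card Q = 8) {u v x y : Q}
    (hu : u * u = 1) (hv : v * v = 1) (hu1 : u ≠ 1) (hv1 : v ≠ 1) (huv : u ≠ v)
    (hxy : x * y ≠ y * x) : Nonempty (Q ≃* DihedralGroup 4) := by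
  classical
  haveI : Finite Q := Nat.finite_of_card_ne_zero (by omega)
  haveI : Fact (Nat.Prime 2) := ⟨Nat.prime_two⟩
  have hdvd : ∀ a : Q, orderOf a ∣ 2 ^ 3 := fun a => by
    have := orderOf_dvd_natCard a
    rw [hc] at this
    simpa using this
  haveI : Nontrivial Q := Finite.one_lt_card_iff_nontrivial.1 (by omega)
  obtain ⟨a, ha⟩ : ∃ a : Q, a ^ 2 ≠ 1 := by
    by_contra! h
    exact hxy (mul_comm_of_exponent_two
      ((Monoid.exponent_eq_prime_iff (G := Q) Nat.prime_two).2
        fun g hg => orderOf_eq_prime (h g) hg) x y)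
  have hord : orderOf a = 4 := by
    obtain ⟨k, hk, hk'⟩ := (Nat.dvd_prime_pow Nat.prime_two).1 (hdvd a)
    interval_cases k
    · exact absurd (by
        have h1 := pow_orderOf_eq_one a
        rw [hk', pow_zero, pow_one] at h1
        rw [h1, one_pow]) ha
    · exact absurd (by
        have := pow_orderOf_eq_one a
        rwa [hk', pow_one] at this) ha
    · simpa using hk'
    · exfalso
      haveI : IsCyclic Q := isCyclic_of_orderOf_eq_card a (by rw [hk', hc]; norm_num)
      letI := IsCyclic.commGroup (α := Q)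
      exact hxy (mul_comm x y)
  have hinv : ∀ w : Q, w * w = 1 → w ∈ Subgroup.zpowers a → w = 1 ∨ w = a ^ 2 := by
    intro w hw hwa
    obtain ⟨n, hn, hn'⟩ := (Finset.mem_image).1
      ((mem_zpowers_iff_mem_range_orderOf (x := a)).1 hwa)
    rw [Finset.mem_range, hord] at hn
    subst hn'
    rw [← pow_add, ← orderOf_dvd_iff_pow_eq_one, hord] at hw
    interval_cases n
    · exact .inl (pow_zero a)
    · norm_num at hw
    · exact .inr rfl
    · norm_num at hw
  obtain ⟨s, hs, hsa⟩ : ∃ s : Q, s * s = 1 ∧ s ∉ Subgroup.zpowers a := by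
    by_contra! h
    rcases hinv u hu (h u hu) with h1 | h1
    · exact hu1 h1
    rcases hinv v hv (h v hv) with h2 | h2
    · exact hv1 h2
    exact huv (h1.trans h2.symm)
  have hidx : (Subgroup.zpowers a).index = 2 := by
    have := Subgroup.card_mul_index (Subgroup.zpowers a)
    rw [Nat.card_zpowers, hord, hc] at this
    omega
  haveI hN : (Subgroup.zpowers a).Normal := Subgroup.normal_of_index_eq_two hidx
  have hsi : s⁻¹ = s := inv_eq_of_mul_eq_one_right hs
  have hflip1 : s * a * s = a⁻¹ := by
    have hm : s * a * s⁻¹ ∈ Subgroup.zpowers a := hN.conj_mem a (Subgroup.mem_zpowers a) s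
    obtain ⟨n, hn, hn'⟩ := (Finset.mem_image).1
      ((mem_zpowers_iff_mem_range_orderOf (x := a)).1 hm)
    rw [Finset.mem_range, hord] at hn
    have ho : orderOf (a ^ n) = 4 := by
      have h1 : a ^ n = MulAut.conj s a := hn'
      rw [h1, MulEquiv.orderOf_eq, hord]
    have hn' : a ^ n = s * a * s := by rw [hn', hsi]
    interval_cases n
    · simp at ho
    · exfalso
      rw [pow_one] at hn'
      have hcomm : a * s = s * a := by
        calc a * s = s * a * s * s := by rw [← hn']
          _ = s * a := by rw [mul_assoc, hs, mul_one]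
      have htop : Subgroup.closure {a, s} = ⊤ := by
        rw [← Subgroup.index_eq_one]
        have hle : Subgroup.zpowers a ≤ Subgroup.closure {a, s} :=
          Subgroup.zpowers_le.2 (Subgroup.subset_closure (by simp))
        have hd := Subgroup.index_dvd_of_le hle
        rw [hidx] at hd
        rcases (Nat.dvd_prime Nat.prime_two).1 hd with h | h
        · exact h
        · exact absurd ((Subgroup.eq_of_le_of_card_ge hle (by
            have h1 := Subgroup.card_mul_index (Subgroup.closure {a, s})
            have h2 := Subgroup.card_mul_index (Subgroup.zpowers a)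
            rw [h] at h1; rw [hidx] at h2; omega)) ▸
              Subgroup.subset_closure (by simp : s ∈ ({a, s} : Set Q))) hsa
      have hcen : ∀ g : Q, g ∈ Subgroup.centralizer ({a, s} : Set Q) → a * g = g * a ∧ s * g = g * s :=
        fun g hg => ⟨Subgroup.mem_centralizer_iff.1 hg a (by simp),
          Subgroup.mem_centralizer_iff.1 hg s (by simp)⟩
      have hle : Subgroup.closure {a, s} ≤ Subgroup.centralizer ({a, s} : Set Q) := by
        rw [Subgroup.closure_le]
        rintro g (rfl | rfl) <;>
          refine Subgroup.mem_centralizer_iff.2 ?_ <;> rintro h (rfl | rfl) <;>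
            first | rfl | exact hcomm | exact hcomm.symm
      have hle2 : Subgroup.closure {a, s} ≤
          Subgroup.centralizer (Subgroup.closure {a, s} : Set Q) := by
        rw [Subgroup.centralizer_closure]
        exact hle
      rw [htop] at hle2
      exact hxy ((Subgroup.mem_centralizer_iff.1 (hle2 (Subgroup.mem_top y))) x
        (Subgroup.mem_top x))
    · rw [orderOf_pow' _ (by norm_num), hord] at ho
      norm_num at ho
    · rw [← hn', eq_inv_iff_mul_eq_one, ← pow_succ, show 3 + 1 = orderOf a from hord.symm, pow_orderOf_eq_one]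
  have hval : ∀ i j : ZMod 4, a ^ (i + j).val = a ^ i.val * a ^ j.val := by
    intro i j
    rw [ZMod.val_add, ← pow_add]
    conv_lhs => arg 2; arg 2; rw [← hord]
    exact pow_mod_orderOf a _
  have hflip : ∀ n : ℕ, a ^ n * s = s * (a ^ n)⁻¹ := fun n => by
    have h1 : MulAut.conj s (a ^ n) = (a ^ n)⁻¹ := by
      rw [map_pow, MulAut.conj_apply, hsi, hflip1, inv_pow]
    rw [MulAut.conj_apply, hsi] at h1
    calc a ^ n * s = s * (s * a ^ n * s) := by
          rw [← mul_assoc, ← mul_assoc, hs, one_mul]
      _ = _ := by rw [h1]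
  let f : DihedralGroup 4 →* Q :=
    { toFun := fun g => match g with
        | .r i => a ^ i.val
        | .sr i => s * a ^ i.val
      map_one' := by show a ^ (0 : ZMod 4).val = 1; simp
      map_mul' := by
        have hsub : ∀ i j : ZMod 4, a ^ (j - i).val = (a ^ i.val)⁻¹ * a ^ j.val := fun i j => by
          rw [eq_inv_mul_iff_mul_eq, ← hval, add_sub_cancel]
        rintro (i | i) (j | j) <;>
          simp only [DihedralGroup.r_mul_r, DihedralGroup.r_mul_sr, DihedralGroup.sr_mul_r,
            DihedralGroup.sr_mul_sr]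
        · exact hval i j
        · rw [hsub, ← mul_assoc (a ^ i.val), hflip, mul_assoc]
        · rw [hval, mul_assoc]
        · rw [hsub, mul_assoc s, ← mul_assoc (a ^ i.val), hflip, ← mul_assoc, ← mul_assoc, hs,
            one_mul] }
  have hinj : Function.Injective f := by
    rw [injective_iff_map_eq_one]
    rintro (i | i) h
    · have h' : a ^ i.val = 1 := h
      rw [← orderOf_dvd_iff_pow_eq_one, hord] at h'
      have := ZMod.val_lt i
      have hi : i.val = 0 := by omega
      rw [(ZMod.val_eq_zero i).1 hi]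
      rfl
    · exfalso
      have h' : s * a ^ i.val = 1 := h
      apply hsa
      rw [eq_inv_of_mul_eq_one_left h']
      exact inv_mem (pow_mem (Subgroup.mem_zpowers a) _)
  exact ⟨(MulEquiv.ofBijective f ((Nat.bijective_iff_injective_and_card f).2
    ⟨hinj, by rw [DihedralGroup.nat_card, hc]⟩)).symm⟩

theorem exists_hom_dihedral {N : Subgroup G} [N.Normal] (hi : N.index = 8) {u v x y : G}
    (hu : u * u ∈ N) (hv : v * v ∈ N) (hu1 : u ∉ N) (hv1 : v ∉ N) (huv : u⁻¹ * v ∉ N)
    (hxy : (y * x)⁻¹ * (x * y) ∉ N) :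
    ∃ φ : G →* DihedralGroup 4, Function.Surjective φ ∧ φ.ker = N := by
  obtain ⟨e⟩ := nonempty_dihedral (Q := G ⧸ N) (u := QuotientGroup.mk u) (v := QuotientGroup.mk v)
    (x := QuotientGroup.mk x) (y := QuotientGroup.mk y) (by rwa [← Subgroup.index_eq_card])
    (by rwa [← QuotientGroup.mk_mul, QuotientGroup.eq_one_iff])
    (by rwa [← QuotientGroup.mk_mul, QuotientGroup.eq_one_iff])
    (by rwa [Ne, QuotientGroup.eq_one_iff]) (by rwa [Ne, QuotientGroup.eq_one_iff])
    (by rwa [Ne, QuotientGroup.eq])
    (by rw [← QuotientGroup.mk_mul, ← QuotientGroup.mk_mul, Ne, eq_comm, QuotientGroup.eq]; exact hxy)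
  exact exists_hom_of_equiv e

/-- Transport of a recognised quotient `P / N` to images under a homomorphism with kernel in `N`. -/
theorem exists_hom_map {A X : Type*} [Group A] [Group X] (c : G →* A) {P N : Subgroup G}
    (hNP : N ≤ P) (hker : c.ker ≤ N)
    (h : ∃ φ : P →* X, Function.Surjective φ ∧ φ.ker = N.subgroupOf P) :
    ∃ ψ : ↥(P.map c) →* X, Function.Surjective ψ ∧ ψ.ker = (N.map c).subgroupOf (P.map c) := by
  obtain ⟨φ, hφ, hk⟩ := h
  set π : ↥P →* ↥(P.map c) := c.subgroupMap P
  have hπ : Function.Surjective π := c.subgroupMap_surjective P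
  have hle : π.ker ≤ φ.ker := by
    rw [hk]
    intro x hx
    have : (x : G) ∈ c.ker := congrArg Subtype.val hx
    exact hker this
  refine ⟨π.liftOfSurjective hπ ⟨φ, hle⟩, ?_, ?_⟩
  · intro y
    obtain ⟨x, rfl⟩ := hφ y
    exact ⟨π x, π.liftOfRightInverse_comp_apply _ _ _ x⟩
  · ext z
    obtain ⟨x, rfl⟩ := hπ z
    rw [MonoidHom.mem_ker]
    erw [π.liftOfRightInverse_comp_apply]
    rw [← MonoidHom.mem_ker, hk, Subgroup.mem_subgroupOf, Subgroup.mem_subgroupOf]
    show _ ↔ c (x : G) ∈ N.map c
    constructor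
    · exact fun hx => Subgroup.mem_map_of_mem c hx
    · rintro ⟨n, hn, hnx⟩
      have : n⁻¹ * (x : G) ∈ c.ker := by rw [MonoidHom.mem_ker, map_mul, map_inv, hnx, inv_mul_cancel]
      have := mul_mem hn (hker this)
      rwa [mul_inv_cancel_left] at this

end Recognise

section Aut

variable {G : Type*} [Group G]

/-- Restriction of automorphisms to a characteristic subgroup. -/
def charRestrict (H : Subgroup G) [hH : H.Characteristic] : MulAut G →* MulAut H where
  toFun e :=
    { toFun := fun x => ⟨e x, by
        have := (Subgroup.characteristic_iff_comap_le.1 hH) e.symm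
        exact this (by simp)⟩
      invFun := fun x => ⟨e.symm x, by
        have := (Subgroup.characteristic_iff_comap_le.1 hH) e
        exact this (by simp)⟩
      left_inv := fun x => by ext; simp
      right_inv := fun x => by ext; simp
      map_mul' := fun x y => by ext; simp }
  map_one' := by ext; rfl
  map_mul' e f := by ext; rfl

@[simp] theorem charRestrict_coe (H : Subgroup G) [H.Characteristic] (e : MulAut G) (x : H) :
    ((charRestrict H e x : H) : G) = e x := rfl

/-- The action of automorphisms on the quotient by a characteristic subgroup. -/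
noncomputable def quotAut (N : Subgroup G) [N.Normal] [hN : N.Characteristic] :
    MulAut G →* MulAut (G ⧸ N) where
  toFun e := QuotientGroup.congr N N e ((Subgroup.characteristic_iff_map_eq.1 hN) e)
  map_one' := by
    ext x
    obtain ⟨g, rfl⟩ := QuotientGroup.mk_surjective x
    rfl
  map_mul' e f := by
    ext x
    obtain ⟨g, rfl⟩ := QuotientGroup.mk_surjective x
    rfl

@[simp] theorem quotAut_mk (N : Subgroup G) [N.Normal] [N.Characteristic] (e : MulAut G) (x : G) :
    quotAut N e (QuotientGroup.mk x) = QuotientGroup.mk (e x) := rfl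

end Aut

end Cfsg.Agent.OrthOuter
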