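import Cfsg.Agent.Lib.OrthOuter.Recognise
import Cfsg.Agent.Lib.Orth.Order
import Cfsg.Agent.Lib.Orth.Models

/-!
# The action of the similarity group on `PΩ`

* `Ctx Q k` : odd characteristic, non-degenerate, dimension `2k ≥ 6`
* `Sim Q`, `toSim`, `scal`, `mult`, `sgn = det / mult^k`
* `conjAut : Sim Q →* MulAut (POmega)`, `conjAut_ker` (scalars)
* `pgoAut_eq`, `poAut_eq`, `psoAut_eq`, `inn_eq` : the named subgroups as images
-/

set_option autoImplicit false
set_option linter.unusedSectionVars false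

namespace Cfsg.Agent.OrthOuter

open Cfsg Matrix Module Cfsg.Agent.Orth
open QuadraticMap (polar)

variable {ι : Type} [Fintype ι] [DecidableEq ι] {F : Type*} [Field F]

/-- Odd characteristic, non-degenerate, dimension `2k ≥ 6`. -/
structure Ctx (Q : QuadraticForm F (ι → F)) (k : ℕ) : Prop where
  nd : Q.polarBilin.Nondegenerate
  two : (2 : F) ≠ 0
  card : Fintype.card ι = 2 * k
  three : 3 ≤ k

variable {Q : QuadraticForm F (ι → F)} {k : ℕ}

theorem Ctx.good (h : Ctx Q k) : Good Q := Good.of_two_ne_zero h.nd h.two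

theorem Ctx.five (h : Ctx Q k) : 5 ≤ Fintype.card ι := by have := h.card; have := h.three; omega

theorem Ctx.hE [Fintype F] (h : Ctx Q k) : eichGen Q ≤ Omega F ⇑Q :=
  eichGen_le_omega h.nd (by have := h.five; omega) (.inr h.five)

theorem exists_Q_ne (hQ : Q.polarBilin.Nondegenerate) (hn : 0 < Fintype.card ι) :
    ∃ v, Q v ≠ 0 := by
  by_contra! hall
  obtain ⟨i⟩ := Fintype.card_pos_iff.1 hn
  obtain ⟨y, hy⟩ := exists_polar_ne hQ (x := Pi.single i 1) (by simp)
  exact hy (by simp [polar, hall])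

theorem Ctx.exists_ne (h : Ctx Q k) : ∃ v, Q v ≠ 0 :=
  exists_Q_ne h.nd (by have := h.five; omega)

/-- The similarity group. -/
abbrev Sim (Q : QuadraticForm F (ι → F)) : Subgroup (GL ι F) :=
  Geo.quadSimilarityGroup (F := F) ⇑Q

/-- The linear map of a similarity. -/
def sap (g : Sim Q) : (ι → F) →ₗ[F] (ι → F) :=
  Matrix.mulVecLin ((g : GL ι F) : Matrix ι ι F)

theorem sap_apply (g : Sim Q) (x : ι → F) : sap g x = ((g : GL ι F) : Matrix ι ι F) *ᵥ x := rfl

@[simp] theorem sap_one (x : ι → F) : sap (1 : Sim Q) x = x := by simp [sap_apply]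

@[simp] theorem sap_mul (g h : Sim Q) (x : ι → F) : sap (g * h) x = sap g (sap h x) := by
  simp [sap_apply, Matrix.mulVec_mulVec]

@[simp] theorem sap_inv_sap (g : Sim Q) (x : ι → F) : sap g⁻¹ (sap g x) = x := by
  rw [← sap_mul, inv_mul_cancel, sap_one]

@[simp] theorem sap_sap_inv (g : Sim Q) (x : ι → F) : sap g (sap g⁻¹ x) = x := by
  rw [← sap_mul, mul_inv_cancel, sap_one]

theorem ext_sap {g h : Sim Q} (H : ∀ x, sap g x = sap h x) : g = h :=
  Subtype.ext (Units.ext (Matrix.ext_of_mulVec_single fun i => H (Pi.single i 1)))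

/-- An isometry as a similarity. -/
def toSim (Q : QuadraticForm F (ι → F)) : IsoGrp Q →* Sim Q where
  toFun g := ⟨g.1, 1, fun v => by
    rw [Units.val_one, one_mul]
    exact g.2 v v⟩
  map_one' := rfl
  map_mul' _ _ := rfl

@[simp] theorem toSim_coe (g : IsoGrp Q) : ((toSim Q g : Sim Q) : GL ι F) = (g : GL ι F) := rfl

@[simp] theorem sap_toSim (g : IsoGrp Q) (x : ι → F) : sap (toSim Q g) x = ap g x := rfl

theorem toSim_injective : Function.Injective (toSim Q) :=
  fun _ _ h => Subtype.ext (congrArg (fun z : Sim Q => (z : GL ι F)) h)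

/-! ### multiplier and determinant -/

theorem mult_exists (g : Sim Q) : ∃ c : Fˣ, ∀ v, Q (sap g v) = (c : F) * Q v := g.2

theorem mult_unique (hne : ∃ v, Q v ≠ 0) {g : Sim Q} {c d : Fˣ}
    (hc : ∀ v, Q (sap g v) = (c : F) * Q v) (hd : ∀ v, Q (sap g v) = (d : F) * Q v) : c = d := by
  obtain ⟨v, hv⟩ := hne
  exact Units.ext (mul_right_cancel₀ hv ((hc v).symm.trans (hd v)))

/-- The multiplier. -/
noncomputable def mult (hne : ∃ v, Q v ≠ 0) : Sim Q →* Fˣ where
  toFun g := (mult_exists g).choose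
  map_one' := mult_unique hne (mult_exists 1).choose_spec (fun v => by simp)
  map_mul' g h := mult_unique hne (mult_exists (g * h)).choose_spec (fun v => by
    rw [sap_mul, (mult_exists g).choose_spec, (mult_exists h).choose_spec, Units.val_mul, mul_assoc])

theorem Q_sap (hne : ∃ v, Q v ≠ 0) (g : Sim Q) (v : ι → F) :
    Q (sap g v) = (mult hne g : F) * Q v := (mult_exists g).choose_spec v

theorem mult_eq (hne : ∃ v, Q v ≠ 0) {g : Sim Q} {c : Fˣ}
    (hc : ∀ v, Q (sap g v) = (c : F) * Q v) : mult hne g = c :=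
  mult_unique hne (Q_sap hne g) hc

@[simp] theorem mult_toSim (hne : ∃ v, Q v ≠ 0) (g : IsoGrp Q) : mult hne (toSim Q g) = 1 :=
  mult_eq hne fun v => by simp

theorem mem_range_toSim_iff (hne : ∃ v, Q v ≠ 0) (g : Sim Q) :
    g ∈ (toSim Q).range ↔ mult hne g = 1 := by
  constructor
  · rintro ⟨s, rfl⟩
    exact mult_toSim hne s
  · intro h
    refine ⟨⟨g.1, fun x _ => ?_⟩, Subtype.ext rfl⟩
    show Q (sap g x) = Q x
    rw [Q_sap hne, h, Units.val_one, one_mul]

theorem polar_sap (hne : ∃ v, Q v ≠ 0) (g : Sim Q) (x y : ι → F) :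
    polar ⇑Q (sap g x) (sap g y) = (mult hne g : F) * polar ⇑Q x y := by
  simp only [polar, ← map_add, Q_sap hne]; ring

/-- A scalar matrix as a similarity. -/
def scal (Q : QuadraticForm F (ι → F)) : Fˣ →* Sim Q where
  toFun t := ⟨Units.map (Matrix.scalar ι : F →+* Matrix ι ι F).toMonoidHom t, t * t, fun v => by
    have : (Matrix.scalar ι (t : F)) *ᵥ v = (t : F) • v := by
      ext i; simp [Matrix.mulVec_diagonal]
    show Q ((Matrix.scalar ι (t : F)) *ᵥ v) = _
    rw [this, Q_smul, Units.val_mul]⟩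
  map_one' := Subtype.ext (map_one _)
  map_mul' _ _ := Subtype.ext (map_mul _ _ _)

theorem sap_scal (t : Fˣ) (x : ι → F) : sap (scal Q t) x = (t : F) • x := by
  show (Matrix.scalar ι (t : F)) *ᵥ x = _
  ext i; simp [Matrix.mulVec_diagonal]

theorem scal_mem_scalars (t : Fˣ) : ((scal Q t : Sim Q) : GL ι F) ∈ Geo.scalars ι F := ⟨t, rfl⟩

theorem scal_comm (t : Fˣ) (g : Sim Q) : g * scal Q t = scal Q t * g :=
  ext_sap fun x => by simp [sap_scal]

theorem mult_scal (hne : ∃ v, Q v ≠ 0) (t : Fˣ) : mult hne (scal Q t) = t * t :=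
  mult_eq hne fun v => by rw [sap_scal, Q_smul, Units.val_mul]

/-- The determinant. -/
noncomputable def sdet (Q : QuadraticForm F (ι → F)) : Sim Q →* Fˣ :=
  (Matrix.GeneralLinearGroup.det : GL ι F →* Fˣ).comp (Sim Q).subtype

theorem sdet_coe (g : Sim Q) :
    ((sdet Q g : Fˣ) : F) = ((g : GL ι F) : Matrix ι ι F).det := rfl

theorem sdet_scal (t : Fˣ) : sdet Q (scal Q t) = t ^ Fintype.card ι := by
  refine Units.ext ?_
  rw [sdet_coe, Units.val_pow_eq_pow_val]
  show (Matrix.scalar ι (t : F)).det = _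
  simp [Matrix.det_diagonal]

/-- `det g / μ(g)^k`. -/
noncomputable def sgn (hne : ∃ v, Q v ≠ 0) (k : ℕ) : Sim Q →* Fˣ :=
  sdet Q * ((powMonoidHom k).comp (mult hne))⁻¹

theorem sgn_apply (hne : ∃ v, Q v ≠ 0) (g : Sim Q) :
    sgn hne k g = sdet Q g * (mult hne g ^ k)⁻¹ := rfl

theorem sgn_scal (h : Ctx Q k) (t : Fˣ) : sgn h.exists_ne k (scal Q t) = 1 := by
  rw [sgn_apply, sdet_scal, mult_scal, h.card, pow_mul, pow_two, mul_inv_cancel]

theorem sgn_toSim (h : Ctx Q k) (g : IsoGrp Q) :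
    ((sgn h.exists_ne k (toSim Q g) : Fˣ) : F) = ((g : GL ι F) : Matrix ι ι F).det := by
  rw [sgn_apply, mult_toSim, one_pow, inv_one, mul_one, sdet_coe, toSim_coe]

/-! ### the action -/

theorem conj_mem (g : Sim Q) (s : IsoGrp Q) :
    (g : GL ι F) * (s : GL ι F) * (g : GL ι F)⁻¹ ∈ isometryGroup F ⇑Q := by
  intro x _
  show Q ((((g * toSim Q s * g⁻¹ : Sim Q) : GL ι F) : Matrix ι ι F) *ᵥ x) = Q x
  obtain ⟨c, hc⟩ := mult_exists g
  have h1 : Q (sap g (sap g⁻¹ x)) = (c : F) * Q (sap g⁻¹ x) := hc _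
  rw [sap_sap_inv] at h1
  show Q (sap (g * toSim Q s * g⁻¹) x) = Q x
  rw [sap_mul, sap_mul, hc, sap_toSim, Q_ap, h1]

/-- Conjugation by a similarity on the isometry group. -/
def isoConj (Q : QuadraticForm F (ι → F)) : Sim Q →* MulAut (IsoGrp Q) where
  toFun g :=
    { toFun := fun s => ⟨_, conj_mem g s⟩
      invFun := fun s => ⟨_, conj_mem g⁻¹ s⟩
      left_inv := fun s => Subtype.ext (by simp [mul_assoc])
      right_inv := fun s => Subtype.ext (by simp [mul_assoc])
      map_mul' := fun s t => Subtype.ext (by simp [mul_assoc]) }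
  map_one' := by ext s; simp
  map_mul' g h := by ext s; simp [mul_assoc]

@[simp] theorem isoConj_coe (g : Sim Q) (s : IsoGrp Q) :
    ((isoConj Q g s : IsoGrp Q) : GL ι F) = (g : GL ι F) * (s : GL ι F) * (g : GL ι F)⁻¹ := rfl

theorem toSim_isoConj (g : Sim Q) (s : IsoGrp Q) :
    toSim Q (isoConj Q g s) = g * toSim Q s * g⁻¹ := Subtype.ext rfl

/-- The action of similarities on `PΩ`. -/
noncomputable def conjAut (Q : QuadraticForm F (ι → F)) : Sim Q →* MulAut (POmega F ⇑Q) :=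
  (quotAut (Subgroup.center ↥(Omega F ⇑Q))).comp ((charRestrict (Omega F ⇑Q)).comp (isoConj Q))

theorem conjAut_mk (g : Sim Q) (s : ↥(Omega F ⇑Q)) :
    conjAut Q g (QuotientGroup.mk s) =
      QuotientGroup.mk (charRestrict (Omega F ⇑Q) (isoConj Q g) s) := rfl

theorem induced_iff (g : Sim Q) (β : POmega F ⇑Q ≃* POmega F ⇑Q) :
    IsInducedBySemilinearPOmega ⇑Q (g : GL ι F) (RingEquiv.refl F) β ↔ β = conjAut Q g := by
  have hm : ∀ M : Matrix ι ι F, M.map (RingEquiv.refl F) = M := fun M => by ext i j; rfl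
  constructor
  · intro h
    ext x
    obtain ⟨s, rfl⟩ := QuotientGroup.mk_surjective x
    rw [conjAut_mk]
    refine h s _ ?_
    rw [charRestrict_coe, isoConj_coe, hm]
    simp
  · rintro rfl s s' hs
    rw [conjAut_mk]
    congr 1
    refine Subtype.ext (Subtype.ext (Units.ext ?_))
    rw [charRestrict_coe, isoConj_coe, hs, hm]
    simp

/-- `Ω` inside the similarity group. -/
def omegaS (Q : QuadraticForm F (ι → F)) : Subgroup (Sim Q) := (Omega F ⇑Q).map (toSim Q)

/-- The isometry group inside the similarity group. -/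
def isoS (Q : QuadraticForm F (ι → F)) : Subgroup (Sim Q) := (toSim Q).range

/-- The special orthogonal group inside the similarity group. -/
def soS (Q : QuadraticForm F (ι → F)) : Subgroup (Sim Q) :=
  (specialIsometryGL F ⇑Q).subgroupOf (Sim Q)

theorem pgoAut_eq : pgoAut F ⇑Q = (conjAut Q).range := by
  rw [pgoAut, autSubgroupOf, show {β : MulAut (POmega F ⇑Q) | IsSimilarityInducedAutPOmega ⇑Q β} =
    ((conjAut Q).range : Set (MulAut (POmega F ⇑Q))) from ?_, Subgroup.closure_eq]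
  ext β
  constructor
  · rintro ⟨g, hg, h⟩
    exact ⟨⟨g, hg⟩, ((induced_iff ⟨g, hg⟩ β).1 h).symm⟩
  · rintro ⟨g, rfl⟩
    exact ⟨g.1, g.2, (induced_iff g _).2 rfl⟩

theorem poAut_eq : poAut F ⇑Q = (isoS Q).map (conjAut Q) := by
  rw [poAut, autSubgroupOf, show {β : MulAut (POmega F ⇑Q) | IsIsometryInducedAutPOmega ⇑Q β} =
    (((isoS Q).map (conjAut Q) : Subgroup _) : Set (MulAut (POmega F ⇑Q))) from ?_,
    Subgroup.closure_eq]
  ext β
  constructor
  · rintro ⟨g, hg, h⟩
    exact ⟨toSim Q ⟨g, hg⟩, ⟨_, rfl⟩, ((induced_iff (toSim Q ⟨g, hg⟩) β).1 h).symm⟩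
  · rintro ⟨_, ⟨s, rfl⟩, rfl⟩
    exact ⟨s.1, s.2, (induced_iff (toSim Q s) _).2 rfl⟩

theorem psoAut_eq : psoAut F ⇑Q = (soS Q).map (conjAut Q) := by
  rw [psoAut, autSubgroupOf,
    show {β : MulAut (POmega F ⇑Q) | IsSpecialIsometryInducedAutPOmega ⇑Q β} =
    (((soS Q).map (conjAut Q) : Subgroup _) : Set (MulAut (POmega F ⇑Q))) from ?_,
    Subgroup.closure_eq]
  ext β
  constructor
  · rintro ⟨g, hg, h⟩
    exact ⟨toSim Q ⟨g, hg.1⟩, hg, ((induced_iff (toSim Q ⟨g, hg.1⟩) β).1 h).symm⟩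
  · rintro ⟨s, hs, rfl⟩
    exact ⟨s.1, hs, (induced_iff s _).2 rfl⟩

theorem conjAut_omega (s : ↥(Omega F ⇑Q)) :
    conjAut Q (toSim Q s) = MulAut.conj (QuotientGroup.mk s : POmega F ⇑Q) := by
  ext x
  obtain ⟨t, rfl⟩ := QuotientGroup.mk_surjective x
  rw [conjAut_mk, MulAut.conj_apply, ← QuotientGroup.mk_inv, ← QuotientGroup.mk_mul,
    ← QuotientGroup.mk_mul]
  exact congrArg _ (Subtype.ext (Subtype.ext rfl))

theorem inn_eq : Inn (POmega F ⇑Q) = (omegaS Q).map (conjAut Q) := by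
  ext β
  constructor
  · rintro ⟨x, rfl⟩
    obtain ⟨s, rfl⟩ := QuotientGroup.mk_surjective x
    exact ⟨_, ⟨s.1, s.2, rfl⟩, conjAut_omega s⟩
  · rintro ⟨_, ⟨s, hs, rfl⟩, rfl⟩
    exact ⟨_, (conjAut_omega ⟨s, hs⟩).symm⟩

/-! ### the kernel -/

theorem fix_of_commute_eich' (hQ : Q.polarBilin.Nondegenerate) {u w : ι → F} (hu : Q u = 0)
    (hu0 : u ≠ 0) (huw : polar ⇑Q u w = 0) (hQw : Q w ≠ 0) {g : Sim Q}
    (hg : g * toSim Q (eich Q u w) = toSim Q (eich Q u w) * g) :
    ∃ a : F, sap g u = a • u := by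
  obtain ⟨y, hy1, hy2⟩ : ∃ y, polar ⇑Q u y = 0 ∧ polar ⇑Q w y ≠ 0 := by
    have hind : w ∉ (F ∙ u) := fun hmem => by
      obtain ⟨t, rfl⟩ := Submodule.mem_span_singleton.1 hmem
      exact hQw (by rw [Q_smul, hu, mul_zero])
    obtain ⟨y, -, hy⟩ := exists_sep (Q := Q) (W := ⊤)
      (fun x _ hx => by simpa using exists_polar_ne hQ hx) (Submodule.mem_top (x := w))
      (Submodule.mem_top (x := u)) hu0 hind
    exact ⟨y, hy⟩
  have hy3 : ap (eich Q u w) y - y = (-(polar ⇑Q w y)) • u := by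
    rw [eich_ap hu huw, hy1]; module
  have hy4 : ap (eich Q u w) (sap g y) - sap g y = (-(polar ⇑Q w y)) • sap g u := by
    rw [← sap_toSim, ← sap_mul, ← hg, sap_mul, sap_toSim, ← map_sub, hy3, map_smul]
  set z := sap g y
  have hab : ap (eich Q u w) z - z =
      (-(polar ⇑Q w z + Q w * polar ⇑Q u z)) • u + polar ⇑Q u z • w := by
    rw [eich_ap hu huw]; module
  rw [hy4] at hab
  obtain ⟨c, hc⟩ := mult_exists g
  have hQ0 := congrArg (fun x => Q x) hab
  simp only [Q_add, Q_smul, hc, hu, pl_smul_left, pl_smul_right, huw, mul_zero, zero_add,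
    add_zero] at hQ0
  have hb : polar ⇑Q u z = 0 :=
    mul_self_eq_zero.1 ((mul_eq_zero.1 hQ0.symm).resolve_right hQw)
  rw [hb, zero_smul, add_zero] at hab
  refine ⟨(-(polar ⇑Q w y))⁻¹ * -(polar ⇑Q w z + Q w * 0), ?_⟩
  rw [← smul_smul, ← hab, inv_smul_smul₀ (neg_ne_zero.2 hy2)]

theorem scalar_of_fix' (hQ : Q.polarBilin.Nondegenerate) (hn : 3 ≤ Fintype.card ι)
    (hne : ∃ v, Q v ≠ 0) {e f : ι → F} (h : HPair Q e f) {g : Sim Q}
    (hg : ∀ v, v ≠ 0 → Q v = 0 → ∃ a : F, sap g v = a • v) :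
    ∃ a : F, a ≠ 0 ∧ ∀ x, sap g x = a • x := by
  obtain ⟨a, ha⟩ := hg e h.ne_zero h.qe
  obtain ⟨b, hb⟩ := hg f h.swap.ne_zero h.qf
  have hfe : polar ⇑Q f e = 1 := by rw [pl_comm]; exact h.pf
  have hab : a * b = (mult hne g : F) := by
    have := polar_sap hne g e f
    rw [ha, hb, pl_smul_left, pl_smul_right, h.pf, mul_one, mul_one] at this
    exact this
  have ha0 : a ≠ 0 := left_ne_zero_of_mul (hab ▸ (mult hne g).ne_zero)
  have hb0 : b ≠ 0 := right_ne_zero_of_mul (hab ▸ (mult hne g).ne_zero)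
  have hpe : ∀ w ∈ perp Q e f, polar ⇑Q e (sap g w) = 0 ∧ polar ⇑Q f (sap g w) = 0 := by
    intro w hw
    obtain ⟨he, hf⟩ := mem_perp.1 hw
    have e1 := polar_sap hne g e w
    have e2 := polar_sap hne g f w
    rw [ha, pl_smul_left, he, mul_zero] at e1
    rw [hb, pl_smul_left, hf, mul_zero] at e2
    exact ⟨(mul_eq_zero.1 e1).resolve_left ha0, (mul_eq_zero.1 e2).resolve_left hb0⟩
  have key : ∀ w ∈ perp Q e f, Q w ≠ 0 → a = b ∧ sap g w = a • w := by
    intro w hw hQw
    obtain ⟨he, hf⟩ := mem_perp.1 hw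
    set v := (-Q w) • e + (1 : F) • f + w with hv
    have hQv : Q v = 0 := by rw [hv, h.Q_comb hw]; ring
    have hfv : polar ⇑Q e v = 1 := by
      rw [hv]; simp only [pl_add_right, pl_smul_right, pl_self, h.qe, h.pf, he]; ring
    obtain ⟨c, hc⟩ := hg v (fun h0 => by rw [h0, pl_zero_right] at hfv; exact zero_ne_one hfv) hQv
    have hgw : sap g w = (c * -Q w + a * Q w) • e + (c - b) • f + c • w := by
      have h1 : sap g v = (-Q w) • a • e + (1 : F) • b • f + sap g w := by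
        rw [hv, map_add, map_add, map_smul, map_smul, ha, hb]
      rw [hc, hv] at h1
      linear_combination (norm := module) -h1
    obtain ⟨p1, p2⟩ := hpe w hw
    rw [hgw] at p1 p2
    simp only [pl_add_right, pl_smul_right, pl_self, h.qe, h.qf, h.pf, hfe, he, hf] at p1 p2
    have hcb : c = b := by linear_combination p1
    have hac : a = c := mul_right_cancel₀ hQw (by linear_combination p2)
    refine ⟨hac.trans hcb, ?_⟩
    rw [hgw, ← hac, hac.trans hcb]
    module
  obtain ⟨z, hz, hQz⟩ := h.exists_nonsing_perp hQ hn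
  obtain ⟨hab', -⟩ := key z hz hQz
  refine ⟨a, ha0, fun x => ?_⟩
  have hw : ∀ w ∈ perp Q e f, sap g w = a • w := by
    intro w hw
    by_cases hQw : Q w = 0
    · by_cases hw0 : w = 0
      · simp [hw0]
      obtain ⟨he, hf⟩ := mem_perp.1 hw
      have hfew : polar ⇑Q f (e + w) = 1 := by rw [pl_add_right, hfe, hf, add_zero]
      obtain ⟨d, hd⟩ := hg (e + w) (fun h0 => by
          rw [h0, pl_zero_right] at hfew; exact zero_ne_one hfew)
        (by rw [Q_add, h.qe, hQw, he]; ring)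
      have hgw : sap g w = (d - a) • e + d • w := by
        rw [map_add, ha] at hd
        linear_combination (norm := module) hd
      obtain ⟨-, p2⟩ := hpe w hw
      rw [hgw] at p2
      simp only [pl_add_right, pl_smul_right, hfe, hf] at p2
      have hda : d = a := by linear_combination p2
      rw [hgw, hda]; module
    · exact (key w hw hQw).2
  conv_lhs => rw [decomp (Q := Q) e f x]
  rw [map_add, map_add, map_smul, map_smul, ha, hb, ← hab', hw _ (h.wPart_mem x), smul_comm,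
    smul_comm (polar ⇑Q e x) a f, ← smul_add, ← smul_add, ← decomp e f x]

variable [Fintype F]

theorem conjAut_eq_one_iff (h : Ctx Q k) (g : Sim Q) :
    conjAut Q g = 1 ↔ ∃ t : Fˣ, g = scal Q t := by
  constructor
  · intro hg
    set e : MulAut ↥(Omega F ⇑Q) := charRestrict (Omega F ⇑Q) (isoConj Q g) with he
    have hz : ∀ s, s⁻¹ * e s ∈ Subgroup.center ↥(Omega F ⇑Q) := fun s => by
      have := DFunLike.congr_fun hg (QuotientGroup.mk s)
      rw [conjAut_mk, MulAut.one_apply, eq_comm, QuotientGroup.eq] at this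
      exact this
    let z : ↥(Omega F ⇑Q) →* ↥(Subgroup.center ↥(Omega F ⇑Q)) :=
      { toFun := fun s => ⟨s⁻¹ * e s, hz s⟩
        map_one' := by ext; simp
        map_mul' := fun s t => by
          refine Subtype.ext ?_
          show (s * t)⁻¹ * e (s * t) = (s⁻¹ * e s) * (t⁻¹ * e t)
          rw [map_mul, _root_.mul_inv_rev, mul_assoc, ← mul_assoc s⁻¹, ← mul_assoc t⁻¹ (s⁻¹ * e s),
            Subgroup.mem_center_iff.1 (hz s) t⁻¹, mul_assoc] }
    have htriv : ∀ s, e s = s := by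
      intro s
      have hs : (s : IsoGrp Q) ∈ ⁅Omega F ⇑Q, Omega F ⇑Q⁆ :=
        omega_le_commutator_omega h.good h.five s.2
      rw [← Subgroup.map_subtype_commutator] at hs
      obtain ⟨s', hs', hss⟩ := hs
      obtain rfl : s' = s := Subtype.ext hss
      letI : CommGroup ↥(Subgroup.center ↥(Omega F ⇑Q)) :=
        { (inferInstance : Group ↥(Subgroup.center ↥(Omega F ⇑Q))) with
          mul_comm := fun a b => Subtype.ext (Subgroup.mem_center_iff.1 b.2 a.1) }
      have : s' ∈ z.ker := Abelianization.commutator_subset_ker z hs'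
      have h1 : s'⁻¹ * e s' = 1 := congrArg Subtype.val this
      exact (inv_mul_eq_one.1 h1).symm
    have hn : 3 ≤ Fintype.card ι := by have := h.five; omega
    obtain ⟨e', f', hp⟩ := exists_hpair h.nd hn
    have hfix : ∀ v, v ≠ 0 → Q v = 0 → ∃ a : F, sap g v = a • v := by
      intro v h0 hv
      obtain ⟨y, hvy⟩ := exists_hpair_left h.nd hv h0
      obtain ⟨w, hw, hQw⟩ := hvy.exists_nonsing_perp h.nd hn
      refine fix_of_commute_eich' h.nd hv h0 (mem_perp.1 hw).1 hQw ?_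
      have h1 := congrArg (fun s : ↥(Omega F ⇑Q) => toSim Q (s : IsoGrp Q))
        (htriv ⟨eich Q v w, h.hE (eich_mem_eichGen v w)⟩)
      simp only [he, charRestrict_coe, toSim_isoConj] at h1
      exact mul_inv_eq_iff_eq_mul.1 h1
    obtain ⟨a, ha, hga⟩ := scalar_of_fix' h.nd hn h.exists_ne hp hfix
    exact ⟨Units.mk0 a ha, ext_sap fun x => by rw [hga, sap_scal]; rfl⟩
  · rintro ⟨t, rfl⟩
    ext x
    obtain ⟨s, rfl⟩ := QuotientGroup.mk_surjective x
    rw [conjAut_mk, MulAut.one_apply]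
    congr 1
    refine Subtype.ext (toSim_injective ?_)
    rw [charRestrict_coe, toSim_isoConj, ← scal_comm, mul_inv_cancel_right]

theorem conjAut_ker (h : Ctx Q k) : (conjAut Q).ker = (scal Q).range := by
  ext g
  rw [MonoidHom.mem_ker, conjAut_eq_one_iff h]
  exact ⟨fun ⟨t, ht⟩ => ⟨t, ht.symm⟩, fun ⟨t, ht⟩ => ⟨t, ht.symm⟩⟩

end Cfsg.Agent.OrthOuter
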