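import Cfsg.Agent.Lib.OrthOuter.CentBasic
import Cfsg.Agent.Lib.FormClasses.Det

/-!
# A piece of a fixed-point-free isometry of odd order

* `dOp`, `omf` : the alternating form `ω(x, y) = B((o - o⁻¹) x, y)`
* `exists_piece` : an invariant non-degenerate subspace on which some `p(o)` has a prescribed
  non-square determinant and `p - p̄` is injective
-/

set_option autoImplicit false
set_option linter.unusedSectionVars false
set_option linter.style.haveILetI false

namespace Cfsg.Agent.OrthOuter

open Cfsg Matrix Module Cfsg.Agent.Orth Polynomial Cfsg.Agent.FormClasses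
open QuadraticMap (polar)

variable {ι : Type} [Fintype ι] [DecidableEq ι] {F : Type*} [Field F]
variable {Q : QuadraticForm F (ι → F)} {k : ℕ} [Fintype F]

/-- A determinant attained by a polynomial on a cyclic subspace. -/
theorem exists_poly_det {V : Type*} [AddCommGroup V] [Module F V] [FiniteDimensional F V]
    {g : Module.End F V} (hss : g.IsSemisimple) {v : V} (hv : v ≠ 0) (a : Fˣ) :
    ∃ p : F[X], LinearMap.det ((aeval g p).restrict (aeval_mem (Semisimple.range_invt g v) p)) =
      (a : F) := by
  set R := LinearMap.range (Semisimple.orbitMap g v)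
  have hvR : v ∈ R := ⟨1, by simp⟩
  haveI : Nontrivial R := Submodule.nontrivial_iff_ne_bot.2 fun h => hv (by
    rwa [h, Submodule.mem_bot] at hvR)
  have hRi := Semisimple.range_invt g v
  set gR := g.restrict hRi
  obtain ⟨d, hdc, hdd⟩ := Semisimple.exists_commute_det gR (Semisimple.isSemisimple_restrict hss hRi) a
  have hval : ∀ (q : F[X]) (y : R), ((aeval gR q y : R) : V) = aeval g q y := by
    intro q
    induction q using Polynomial.induction_on with
    | C c => intro y; simp [Algebra.algebraMap_eq_smul_one]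
    | add q r hq hr => intro y; simp [map_add, hq y, hr y]
    | monomial n c ih =>
      intro y
      simp only [pow_succ, ← mul_assoc]
      rw [map_mul (aeval gR) (Polynomial.C c * Polynomial.X ^ n),
        map_mul (aeval g) (Polynomial.C c * Polynomial.X ^ n),
        aeval_X, aeval_X, Module.End.mul_apply, Module.End.mul_apply, ih (gR y)]
      rfl
  obtain ⟨p, hp⟩ := (d ⟨v, hvR⟩).2
  refine ⟨p, hdd ▸ congrArg LinearMap.det (LinearMap.ext fun x => Subtype.ext ?_)⟩
  have hall : ∀ c : F[X], Commute (aeval gR c) d := by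
    intro c
    induction c using Polynomial.induction_on with
    | C c => rw [aeval_C]; exact Algebra.commutes c d
    | add q r hq hr => rw [map_add]; exact hq.add_left hr
    | monomial n c ih =>
      rw [pow_succ, ← mul_assoc, map_mul, aeval_X]
      exact ih.mul_left hdc.symm
  obtain ⟨c, hc⟩ := x.2
  have hxc : x = aeval gR c ⟨v, hvR⟩ := Subtype.ext (by rw [hval]; exact hc.symm)
  rw [LinearMap.restrict_coe_apply]
  conv_rhs => rw [hxc, ← Module.End.mul_apply, ← (hall c).eq, Module.End.mul_apply, hval, ← hp]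
  rw [← hc, Semisimple.orbitMap_apply, Semisimple.orbitMap_apply]
  exact aeval_comm_apply g p c v

/-- `o - o⁻¹`. -/
noncomputable def dOp (o : IsoGrp Q) (r : ℕ) : Module.End F (ι → F) :=
  aeval (apE o) (Polynomial.X - Polynomial.X ^ (r - 1) : F[X])

/-- The alternating form of `o - o⁻¹`. -/
noncomputable def omf (o : IsoGrp Q) (r : ℕ) (x y : ι → F) : F := polar ⇑Q (dOp o r x) y

variable {o : IsoGrp Q} {r : ℕ} (ho : o ^ r = 1) (hr : Odd r)
include ho hr

theorem polar_dOp (x y : ι → F) : polar ⇑Q (dOp o r x) y = -polar ⇑Q x (dOp o r y) := by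
  rw [dOp, polar_aeval ho hr.pos, ← pl_neg_right, ← LinearMap.neg_apply, ← map_neg]
  congr 1
  have h2 : aeval (apE o) (barI r (Polynomial.X ^ (r - 1) : F[X])) = aeval (apE o) (Polynomial.X : F[X]) := by
    rw [← bar_id_X (F := F) r]
    exact aeval_bar_bar' ho hr.pos _
  rw [map_sub, neg_sub, map_sub, map_sub, h2, bar_id_X]

theorem omf_swap (x y : ι → F) : omf o r y x = -omf o r x y := by
  rw [omf, omf, polar_dOp ho hr, pl_comm]

theorem isForm_omf (h2 : (2 : F) ≠ 0) : IsForm (RingHom.id F) (-1 : F) (omf o r) where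
  add_left x y z := by rw [omf, omf, omf, map_add, pl_add_left]
  smul_left c x z := by rw [omf, omf, map_smul, pl_smul_left]
  symm x y := by rw [omf_swap ho hr, RingHom.id_apply, neg_one_mul]
  alt _ x := by
    have := omf_swap ho hr x x
    exact (mul_eq_zero.1 (show (2 : F) * omf o r x x = 0 by linear_combination this)).resolve_left h2

theorem isIsom_omf : IsIsom r (omf o r) (apE o) where
  isom x y := by
    rw [omf, omf, dOp, aeval_comm_self]
    exact polar_ap o _ _
  pow := apE_pow_eq_one ho

variable (hfix : fixSp o = ⊥)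
include hfix

theorem dOp_inj : Function.Injective (dOp o r) := by
  rw [← LinearMap.ker_eq_bot, LinearMap.ker_eq_bot']
  intro x hx
  rw [dOp, map_sub, LinearMap.sub_apply, sub_eq_zero, aeval_X, map_pow, aeval_X] at hx
  have h2 : (apE o ^ 2) x = x := by
    have h := congrArg (apE o) hx
    rw [← Module.End.mul_apply, ← Module.End.mul_apply, ← pow_succ', Nat.sub_add_cancel hr.pos,
      apE_pow_eq_one ho, Module.End.one_apply, ← sq] at h
    exact h
  obtain ⟨j, hj⟩ := hr
  have h3 : ∀ n, ((apE o ^ 2) ^ n) x = x := by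
    intro n
    induction n with
    | zero => rfl
    | succ n ih => rw [pow_succ, Module.End.mul_apply, h2, ih]
  have h4 := h3 (j + 1)
  rw [← pow_mul, show 2 * (j + 1) = r + 1 by omega, pow_succ, apE_pow_eq_one ho, one_mul] at h4
  have : x ∈ fixSp o := mem_fixSp.2 h4
  rwa [hfix, Submodule.mem_bot] at this

theorem omf_sep (hQ : Q.polarBilin.Nondegenerate) (x : ι → F) (hx : ∀ y, omf o r x y = 0) : x = 0 := by
  by_contra h0
  obtain ⟨y, hy⟩ := exists_polar_ne hQ (x := dOp o r x) fun h => h0 (dOp_inj ho hr hfix (by rw [h, map_zero]))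
  exact hy (hx y)

/-- An invariant non-degenerate piece with a polynomial of given non-square determinant. -/
theorem exists_piece (h : Ctx Q k) (hrF : (r : F) ≠ 0) {a : Fˣ} (ha : ¬ IsSquare (a : F)) :
    ∃ (R : Submodule F (ι → F)) (p : F[X]) (hR : ∀ x ∈ R, apE o x ∈ R), R ≠ ⊥ ∧
      NondegOn (omf o r) R ∧
      LinearMap.det ((aeval (apE o) p).restrict (aeval_mem hR p)) = (a : F) ∧
      ∀ x ∈ R, aeval (apE o) (p - barI r p) x = 0 → x = 0 := by
  have H := isForm_omf ho hr h.two
  have G := isIsom_omf ho hr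
  have hnd := omf_sep ho hr hfix h.nd
  have hσ : ∀ x : F, RingHom.id F (RingHom.id F x) = x := fun _ => rfl
  have hss : (apE o).IsSemisimple := by
    refine Module.End.isSemisimple_of_squarefree_aeval_eq_zero
      (p := (Polynomial.X ^ r - 1 : F[X])) ?_ (by simp [apE_pow_eq_one ho])
    rw [← map_one (Polynomial.C : F →+* F[X])]
    exact (separable_X_pow_sub_C 1 hrF one_ne_zero).squarefree
  have hne1 : (a : F) ≠ 1 := fun e => ha (by rw [e]; exact IsSquare.one)
  haveI : Nontrivial (ι → F) := by
    haveI : Nonempty ι := Fintype.card_pos_iff.1 (by have := h.five; omega)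
    exact Function.nontrivial
  obtain ⟨f, hfm, hf, hdvd⟩ := exists_monic_irreducible_factor (apE o).charpoly (fun hu => by
    have h0 := natDegree_eq_zero_of_isUnit hu
    rw [LinearMap.charpoly_natDegree] at h0
    exact (Module.finrank_pos (R := F) (M := ι → F)).ne' h0)
  obtain ⟨v₀, hv₀, hfv₀⟩ := Semisimple.exists_aeval_eq_zero_of_dvd_charpoly (apE o) hf hdvd
  have hno1 : ¬ f ∣ Polynomial.X - 1 := by
    intro hd
    have h1 : aeval (apE o) (Polynomial.X - 1 : F[X]) v₀ = 0 := FormClasses.aeval_eq_zero_of_dvd hfv₀ hd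
    rw [map_sub, LinearMap.sub_apply, aeval_X, map_one, Module.End.one_apply, sub_eq_zero] at h1
    have : v₀ ∈ fixSp o := mem_fixSp.2 h1
    rw [hfix, Submodule.mem_bot] at this
    exact hv₀ this
  by_cases hS : SelfPaired (RingHom.id F) r f
  · obtain ⟨v, hvf, hvne⟩ := exists_self_vector H G hr.pos hσ hrF hnd hf hv₀ hfv₀ hS
    have hv : v ≠ 0 := fun h0 => by
      obtain ⟨p₀, hp₀⟩ := hvne; exact hp₀ (by rw [h0, map_zero, H.zero_left])
    set R := LinearMap.range (Semisimple.orbitMap (apE o) v) with hRdef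
    have hRi := Semisimple.range_invt (apE o) v
    have hRne : R ≠ ⊥ := fun h0 => hv (by
      have hvR : v ∈ R := ⟨1, by simp⟩
      rwa [h0, Submodule.mem_bot] at hvR)
    haveI : Nontrivial R := Submodule.nontrivial_iff_ne_bot.2 hRne
    have hR : NondegOn (omf o r) R := by
      rintro _ ⟨c, rfl⟩ hx
      refine aeval_eq_zero_of_pairing H G hr.pos hσ hf hvf hvne c fun q => ?_
      have h := hx _ ⟨bar (RingHom.id F) r q, rfl⟩
      simp only [Semisimple.orbitMap_apply] at h
      rwa [adjoint_right H G hr.pos, ← Module.End.mul_apply, ← map_mul, map_mul,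
        aeval_bar_bar hσ hr.pos G.pow, ← map_mul] at h
    have hkill : ∀ q, f ∣ q → ∀ x ∈ R, aeval (apE o) q x = 0 := by
      rintro q hq _ ⟨c, rfl⟩
      rw [Semisimple.orbitMap_apply, aeval_comm_apply, FormClasses.aeval_eq_zero_of_dvd hvf hq, map_zero]
    obtain ⟨p, hp⟩ := exists_poly_det hss hv a
    refine ⟨R, p, hRi, hRne, hR, hp, ?_⟩
    rintro _ ⟨c, rfl⟩ hx
    rw [Semisimple.orbitMap_apply, ← Module.End.mul_apply, ← map_mul] at hx
    rcases hf.prime.dvd_or_dvd (dvd_of_aeval_eq_zero hf hv hvf hx) with hd | hd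
    swap
    · exact FormClasses.aeval_eq_zero_of_dvd hvf hd
    exfalso
    have hpf : IsCoprime p f := by
      refine (hf.coprime_iff_not_dvd.2 fun hd' => a.ne_zero ?_).symm
      rw [← hp, show (aeval (apE o) p).restrict (aeval_mem hRi p) = 0 from
        LinearMap.ext fun x => Subtype.ext (hkill p hd' x x.2), LinearMap.det_zero, zero_pow
        (Module.finrank_pos (R := F) (M := R)).ne']
    obtain ⟨s, hs⟩ := exists_bar_norm h.two hr hrF hfm (dvd_pow_sub_one_of_ne_zero G.pow hf hv hvf)
      (hf.coprime_iff_not_dvd.2 hno1) hS.1 hpf hd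
    refine ha ⟨LinearMap.det ((aeval (apE o) s).restrict (aeval_mem hRi s)), ?_⟩
    have hadj := det_adjoint (H.restrict R) (fun x hx => Subtype.ext (hR x x.2 fun y hy => hx ⟨y, hy⟩))
      ((aeval (apE o) s).restrict (aeval_mem hRi s))
      ((aeval (apE o) (barI r s)).restrict (aeval_mem hRi (barI r s)))
      (fun x y => adjoint_left H G hr.pos s x y)
    rw [RingHom.id_apply] at hadj
    rw [← hp]
    conv_rhs => rw [mul_comm]; arg 1; rw [hadj]
    rw [← map_mul]
    refine congrArg LinearMap.det (LinearMap.ext fun x => Subtype.ext ?_)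
    show aeval (apE o) p (x : ι → F) = aeval (apE o) (barI r s) (aeval (apE o) s x)
    rw [← Module.End.mul_apply, ← map_mul, eq_comm, ← sub_eq_zero, ← LinearMap.sub_apply, ← map_sub,
      mul_comm]
    exact hkill _ hs x x.2
  · have hfb : ¬ f ∣ bar (RingHom.id F) r f := by
      intro hb
      refine hS ⟨hb, Polynomial.X, fun hd => hv₀ (dOp_inj ho hr hfix ?_)⟩
      rw [map_zero, dOp]
      rw [bar_X] at hd
      exact FormClasses.aeval_eq_zero_of_dvd hfv₀ hd
    obtain ⟨z, hzf, hvz, hviso, hziso⟩ := exists_pair_vectors H G hr.pos hσ hrF hnd hf hv₀ hfv₀ hS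
    set U := LinearMap.range (Semisimple.orbitMap (apE o) v₀) with hUdef
    set U' := LinearMap.range (Semisimple.orbitMap (apE o) z) with hU'def
    have hUi := Semisimple.range_invt (apE o) v₀
    have hU'i := Semisimple.range_invt (apE o) z
    have hkU : ∀ q, f ∣ q → ∀ x ∈ U, aeval (apE o) q x = 0 := by
      rintro q hq _ ⟨c, rfl⟩
      rw [Semisimple.orbitMap_apply, aeval_comm_apply, FormClasses.aeval_eq_zero_of_dvd hfv₀ hq, map_zero]
    have hkU' : ∀ q, bar (RingHom.id F) r f ∣ q → ∀ x ∈ U', aeval (apE o) q x = 0 := by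
      rintro q hq _ ⟨c, rfl⟩
      rw [Semisimple.orbitMap_apply, aeval_comm_apply, FormClasses.aeval_eq_zero_of_dvd hzf hq, map_zero]
    obtain ⟨s, t, hst⟩ := hf.coprime_iff_not_dvd.2 hfb
    have hdisj : ∀ x ∈ U, x ∈ U' → x = 0 := fun x hxU hxU' => by
      have h := LinearMap.congr_fun (congrArg (aeval (apE o)) hst) x
      rw [map_add, LinearMap.add_apply, hkU _ (dvd_mul_left f s) x hxU,
        hkU' _ (dvd_mul_left _ t) x hxU', map_one, Module.End.one_apply, add_zero] at h
      exact h.symm
    set R := U ⊔ U' with hRdef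
    have hRi : ∀ x ∈ R, apE o x ∈ R := fun x hx => by
      obtain ⟨u, hu, u', hu', rfl⟩ := Submodule.mem_sup.1 hx
      rw [map_add]
      exact Submodule.add_mem_sup (hUi u hu) (hU'i u' hu')
    have hRne : R ≠ ⊥ := fun h0 => hv₀ (by
      have hvR : v₀ ∈ R := Submodule.mem_sup_left ⟨1, by simp⟩
      rwa [h0, Submodule.mem_bot] at hvR)
    have hR : NondegOn (omf o r) R := by
      have h := pair_nondeg H G hr.pos hσ hf v₀ z hviso hziso hv₀ hfv₀ hzf hvz
      rwa [LinearMap.range_coprod] at h
    obtain ⟨pU, hpU⟩ := exists_poly_det hss hv₀ a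
    set p := pU * (t * bar (RingHom.id F) r f) + s * f with hpdef
    have hp1 : ∀ u ∈ U, aeval (apE o) p u = aeval (apE o) pU u := fun u hu => by
      rw [← sub_eq_zero, ← LinearMap.sub_apply, ← map_sub]
      exact hkU _ ⟨s - pU * s, by rw [hpdef]; linear_combination pU * hst⟩ u hu
    have hp2 : ∀ u ∈ U', aeval (apE o) p u = u := fun u hu => by
      have h := hkU' (p - 1) ⟨pU * t - t, by rw [hpdef]; linear_combination hst⟩ u hu
      rwa [map_sub, map_one, LinearMap.sub_apply, Module.End.one_apply, sub_eq_zero] at h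
    have hb1 : ∀ u ∈ U, aeval (apE o) (bar (RingHom.id F) r p) u = u := fun u hu => by
      have he : p - 1 = bar (RingHom.id F) r f * (pU * t - t) := by
        rw [hpdef]; linear_combination hst
      have h : aeval (apE o) (bar (RingHom.id F) r (p - 1)) u = 0 := by
        rw [he, map_mul (bar (RingHom.id F) r), map_mul, Module.End.mul_apply,
          aeval_bar_bar hσ hr.pos G.pow]
        exact hkU f dvd_rfl _ (aeval_mem hUi _ u hu)
      rwa [map_sub (bar (RingHom.id F) r), map_one, map_sub, map_one, LinearMap.sub_apply,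
        Module.End.one_apply, sub_eq_zero] at h
    let L : (U × U') →ₗ[F] R := (Submodule.inclusion le_sup_left).coprod (Submodule.inclusion le_sup_right)
    have hL : ∀ m, (L m : ι → F) = (m.1 : ι → F) + m.2 := fun m => rfl
    let e : (U × U') ≃ₗ[F] R := LinearEquiv.ofBijective L ⟨by
      rw [← LinearMap.ker_eq_bot, LinearMap.ker_eq_bot']
      rintro ⟨u, u'⟩ huu
      have h0 : (u : ι → F) + u' = 0 := by rw [← hL (u, u'), huu]; rfl
      have hu0 : (u : ι → F) = 0 :=
        hdisj u u.2 (by rw [eq_neg_of_add_eq_zero_left h0]; exact U'.neg_mem u'.2)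
      rw [hu0, zero_add] at h0
      exact Prod.ext (Subtype.ext hu0) (Subtype.ext h0), fun x => by
      obtain ⟨u, hu, u', hu', hx⟩ := Submodule.mem_sup.1 x.2
      exact ⟨(⟨u, hu⟩, ⟨u', hu'⟩), Subtype.ext (by rw [hL]; exact hx)⟩⟩
    refine ⟨R, p, hRi, hRne, hR, ?_, ?_⟩
    · rw [← hpU]
      have hc : (aeval (apE o) p).restrict (aeval_mem hRi p) =
          e.conj (((aeval (apE o) pU).restrict (aeval_mem hUi pU)).prodMap LinearMap.id) := by
        refine LinearMap.ext fun x => ?_
        obtain ⟨⟨u, u'⟩, rfl⟩ := e.surjective x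
        rw [LinearEquiv.conj_apply_apply, LinearEquiv.symm_apply_apply]
        refine Subtype.ext ?_
        show aeval (apE o) p ((u : ι → F) + u') = aeval (apE o) pU u + u'
        rw [map_add, hp1 u u.2, hp2 u' u'.2]
      rw [hc, LinearEquiv.conj_apply, LinearMap.comp_assoc, LinearMap.det_conj, LinearMap.det_prodMap,
        LinearMap.det_id, mul_one]
    · intro x hx hpx
      obtain ⟨u, hu, u', hu', rfl⟩ := Submodule.mem_sup.1 hx
      rw [map_sub, LinearMap.sub_apply, LinearMap.map_add, LinearMap.map_add, hp1 u hu, hp2 u' hu',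
        hb1 u hu] at hpx
      set q' := aeval (apE o) (bar (RingHom.id F) r p) u' with hq'
      have hq'U : q' ∈ U' := aeval_mem hU'i _ u' hu'
      have hA : aeval (apE o) pU u - u = 0 := hdisj _ (U.sub_mem (aeval_mem hUi _ u hu) hu) (by
        rw [show aeval (apE o) pU u - u = q' - u' by linear_combination (norm := module) hpx]
        exact U'.sub_mem hq'U hu')
      have hB : q' - u' = 0 := by
        rw [← hA]; linear_combination (norm := module) -hpx
      have hinjU : ∀ w ∈ U, aeval (apE o) (pU - 1) w = 0 → w = 0 := by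
        rintro _ ⟨c, rfl⟩ hw
        rw [Semisimple.orbitMap_apply, ← Module.End.mul_apply, ← map_mul] at hw
        rcases hf.prime.dvd_or_dvd (dvd_of_aeval_eq_zero hf hv₀ hfv₀ hw) with hd | hd
        swap
        · exact FormClasses.aeval_eq_zero_of_dvd hfv₀ hd
        refine absurd ?_ hne1
        rw [← hpU, show (aeval (apE o) pU).restrict (aeval_mem hUi pU) = LinearMap.id from
          LinearMap.ext fun x => Subtype.ext (by
            show aeval (apE o) pU (x : ι → F) = x
            have h := hkU _ hd x x.2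
            rwa [map_sub, map_one, LinearMap.sub_apply, Module.End.one_apply, sub_eq_zero] at h),
          LinearMap.det_id]
      have hu0 : u = 0 := hinjU u hu (by
        rwa [map_sub, map_one, LinearMap.sub_apply, Module.End.one_apply])
      rw [hu0, zero_add]
      refine hR u' (Submodule.mem_sup_right hu') fun y hy => ?_
      obtain ⟨w, hw, w', hw', rfl⟩ := Submodule.mem_sup.1 hy
      have hiso' : omf o r u' w' = 0 := by
        obtain ⟨c, rfl⟩ := hu'
        obtain ⟨d, rfl⟩ := hw'
        rw [Semisimple.orbitMap_apply, Semisimple.orbitMap_apply, adjoint_right H G hr.pos,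
          ← Module.End.mul_apply, ← map_mul]
        exact hziso _
      have hinj : Function.Injective
          ((aeval (apE o) (pU - 1)).restrict (aeval_mem hUi (pU - 1))) := by
        rw [← LinearMap.ker_eq_bot, LinearMap.ker_eq_bot']
        intro x hx
        exact Subtype.ext (hinjU x x.2 (congrArg Subtype.val hx))
      obtain ⟨⟨w₁, hw₁⟩, hw₁e⟩ := LinearMap.injective_iff_surjective.1 hinj ⟨w, hw⟩
      have hw₁e' : w = aeval (apE o) (p - 1) w₁ := by
        have h := congrArg Subtype.val hw₁e
        rw [LinearMap.restrict_coe_apply] at h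
        rw [← show (_ : ι → F) = w from h]
        simp only [map_sub, LinearMap.sub_apply, hp1 w₁ hw₁]
      rw [H.add_right, hiso', add_zero, hw₁e', adjoint_right H G hr.pos, map_sub (bar (RingHom.id F) r),
        map_one, map_sub, map_one, LinearMap.sub_apply, Module.End.one_apply, ← hq', hB, H.zero_left]

end Cfsg.Agent.OrthOuter
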