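import Cfsg.Agent.Lib.OrthOuter.CentPiece
import Cfsg.Agent.Lib.OrthOuter.SympDet

/-!
# Centralisers of semisimple similarities of odd prime order

* `exists_commuting_mult` : a centralising similarity with `sgn = 1` and non-square multiplier
* `exists_odd_spin` : a centralising element of `SO` of spinor value `-1`
* `exists_centralizer` : the centraliser covers every coset of `ΩZ` in `sgn = 1`
* `semisimple_fusion` : hence the classes under `Inn`, `PSO` and `sgn = 1` coincide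
-/

set_option autoImplicit false
set_option linter.unusedSectionVars false
set_option linter.style.haveILetI false

namespace Cfsg.Agent.OrthOuter

open Cfsg Matrix Module Cfsg.Agent.Orth Polynomial Cfsg.Agent.FormClasses
open QuadraticMap (polar)

variable {ι : Type} [Fintype ι] [DecidableEq ι] {F : Type*} [Field F]
variable {Q : QuadraticForm F (ι → F)} {k : ℕ} [Fintype F]
variable {o : IsoGrp Q} {r : ℕ}

theorem resSpace_invt : ∀ x ∈ resSpace o, ap o x ∈ resSpace o := by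
  intro x hx
  obtain ⟨y, rfl⟩ := mem_resSpace.1 hx
  exact mem_resSpace.2 ⟨ap o y, (map_sub _ _ _).symm⟩

theorem Q_eq_of_polar_self (h2 : (2 : F) ≠ 0) {x y : ι → F} {c : F}
    (h : polar ⇑Q x x = c * polar ⇑Q y y) : Q x = c * Q y := by
  rw [pl_self, pl_self] at h
  exact mul_left_cancel₀ h2 (by linear_combination h)

theorem exists_commuting_mult (h : Ctx Q k) (hD : Diag Q k) (ho : o ^ r = 1) (hr : Odd r)
    (hrF : (r : F) ≠ 0) :
    ∃ c : Sim Q, sgn h.exists_ne k c = 1 ∧ chi F (mult h.exists_ne c) = -1 ∧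
      Commute c (toSim Q o) := by
  obtain ⟨ν, hν⟩ : ∃ ν : Fˣ, chi F ν = -1 := by
    obtain ⟨-, ν, -, hν, -⟩ := hD
    exact ⟨ν, hν⟩
  obtain ⟨p, hp⟩ := exists_similitude_res h.two ho hr hrF ν.ne_zero
  obtain ⟨T, hT⟩ := exists_sim_sub h.two (fixSp o)
    (fun x hx hx0 => exists_fix_polar_ne' h.nd ho hrF hx hx0)
    (even_finrank_fix h.good h.card ho hr) ν.ne_zero
  have hc := isCompl_fix ho hrF
  have hpres : ∀ x ∈ resSpace o, aeval (apE o) p x ∈ resSpace o := aeval_mem resSpace_invt p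
  let A : Module.End F (ι → F) := LinearMap.ofIsCompl hc ((fixSp o).subtype.comp T)
    ((aeval (apE o) p).comp (resSpace o).subtype)
  have hA : ∀ (a : fixSp o) (b : resSpace o), A ((a : ι → F) + b) = (T a : ι → F) + aeval (apE o) p b :=
    fun a b => by
      rw [map_add, LinearMap.ofIsCompl_apply_left, LinearMap.ofIsCompl_apply_right]
      rfl
  clear_value A
  have hdec : ∀ x, ∃ (a : fixSp o) (b : resSpace o), x = (a : ι → F) + b := fun x =>
    ⟨_, _, ((Submodule.prodEquivOfIsCompl _ _ hc).apply_symm_apply x).symm⟩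
  have hAQ : ∀ x, Q (A x) = (ν : F) * Q x := by
    intro x
    obtain ⟨a, b, rfl⟩ := hdec x
    rw [hA, Q_add, Q_add, hT, polar_fix_res (T a).2 (hpres b b.2), polar_fix_res a.2 b.2,
      Q_eq_of_polar_self (Q := Q) h.two (c := (ν : F)) (x := aeval (apE o) p (b : ι → F)) (y := b) (by
        rw [polar_aeval ho hr.pos, hp b b.2, pl_smul_right])]
    ring
  have hAg : ∀ x, A (ap o x) = ap o (A x) := by
    intro x
    obtain ⟨a, b, rfl⟩ := hdec x
    rw [hA, map_add (ap o), map_add (ap o), mem_fixSp.1 a.2, mem_fixSp.1 (T a).2,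
      show ap o (aeval (apE o) p (b : ι → F)) = aeval (apE o) p (ap o b) from (aeval_comm_self _ p _).symm]
    exact hA a ⟨ap o (b : ι → F), resSpace_invt (b : ι → F) b.2⟩
  obtain ⟨c, hcA, hcm, hcM⟩ := exists_sim_of_lin h A ν hAQ
  have hcc : Commute c (toSim Q o) := ext_sap fun x => by
    rw [sap_mul, sap_mul, sap_toSim, sap_toSim, hcA]
    exact hAg x
  rcases sgn_eq_or h hD c with hs | hs
  · exact ⟨c, hs, by rw [hcm, hν], hcc⟩
  by_cases hfix : fixSp o = ⊥
  · refine ⟨c, ?_, by rw [hcm, hν], hcc⟩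
    have hall : ∀ x, A x = aeval (apE o) p x := by
      intro x
      obtain ⟨a, b, rfl⟩ := hdec x
      have ha : a = 0 := Subtype.ext ((Submodule.eq_bot_iff _).1 hfix a a.2)
      rw [hA, ha, map_zero, Submodule.coe_zero, zero_add, zero_add]
    set W := (LinearMap.toMatrix' (dOp o r))ᵀ * Orth.gram ⇑Q with hW
    have hWd : ∀ x y : ι → F, x ⬝ᵥ (W *ᵥ y) = omf o r x y := fun x y => dot_mulVec_gram _ x y
    have hWdet : W.det ≠ 0 := by
      rw [hW, Matrix.det_mul, Matrix.det_transpose, LinearMap.det_toMatrix']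
      exact mul_ne_zero (fun h0 => (LinearMap.bot_lt_ker_of_det_eq_zero h0).ne'
        (LinearMap.ker_eq_bot.2 (dOp_inj ho hr hfix))) (det_gram_ne_zero h.nd)
    have hdet := alt_similitude_det W
      (fun x => by rw [hWd]; exact (isForm_omf ho hr h.two).alt (fun _ => rfl) x) hWdet h.card
      (M := LinearMap.toMatrix' A) ν.ne_zero (mat_eq_of_dot fun x y => by
        rw [← Matrix.mulVec_mulVec, ← Matrix.mulVec_mulVec, Matrix.dotProduct_mulVec,
          Matrix.vecMul_transpose, LinearMap.toMatrix'_mulVec, LinearMap.toMatrix'_mulVec, hWd,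
          Matrix.smul_mulVec, dotProduct_smul, hWd, smul_eq_mul, omf, omf, hall, hall]
        obtain ⟨a, b, hab⟩ := hdec y
        have ha : a = 0 := Subtype.ext ((Submodule.eq_bot_iff _).1 hfix a a.2)
        rw [ha, Submodule.coe_zero, zero_add] at hab
        rw [dOp, aeval_comm_apply, polar_aeval ho hr.pos, hab, hp b b.2, pl_smul_right])
    rw [sgn_apply, hcm, mul_inv_eq_one]
    exact Units.ext (by rw [sdet_coe, hcM, hdet, Units.val_pow_eq_pow_val])
  · obtain ⟨v, hv, hQv⟩ := exists_fix_nonsingular h.nd ho hrF hfix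
    refine ⟨toSim Q (refl Q v) * c, ?_, ?_, Commute.mul_left ((refl_fix_comm (mem_fixSp.1 hv)).map _) hcc⟩
    · have hneg : sgn h.exists_ne k (toSim Q (refl Q v)) = -1 :=
        Units.ext (by rw [sgn_toSim h, det_refl hQv, Units.val_neg, Units.val_one])
      rw [map_mul, hneg, hs, neg_mul_neg, one_mul]
    · rw [map_mul, mult_toSim, one_mul, hcm, hν]

theorem exists_odd_spin (h : Ctx Q k) (hD : Diag Q k) (ho : o ^ r = 1) (hr : Odd r)
    (hrF : (r : F) ≠ 0) : ∃ z : IsoGrp Q, dick z = 1 ∧ spin z = -1 ∧ Commute z o := by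
  classical
  obtain ⟨ν, hν⟩ : ∃ ν : Fˣ, chi F ν = -1 := by
    obtain ⟨-, ν, -, hν, -⟩ := hD
    exact ⟨ν, hν⟩
  have hχ : quadraticChar F (ν : F) = -1 := by rw [← chi_coe, hν]; rfl
  by_cases hfix : fixSp o = ⊥
  swap
  · obtain ⟨T, hT⟩ := exists_sim_sub h.two (fixSp o)
      (fun x hx hx0 => exists_fix_polar_ne' h.nd ho hrF hx hx0)
      (even_finrank_fix h.good h.card ho hr) ν.ne_zero
    obtain ⟨v, hv, hQv⟩ := exists_fix_nonsingular h.nd ho hrF hfix
    have hQw : Q (T ⟨v, hv⟩ : ι → F) = (ν : F) * Q v := hT ⟨v, hv⟩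
    have hQw0 : Q (T ⟨v, hv⟩ : ι → F) ≠ 0 := by rw [hQw]; exact mul_ne_zero ν.ne_zero hQv
    refine ⟨refl Q v * refl Q (T ⟨v, hv⟩ : ι → F), ?_, ?_,
      (refl_fix_comm (mem_fixSp.1 hv)).mul_left (refl_fix_comm (mem_fixSp.1 (T ⟨v, hv⟩).2))⟩
    · rw [dick_mul h.good, dick_refl h.nd hQv, dick_refl h.nd hQw0]; norm_num
    · rw [spin_mul h.good, spin_refl h.nd hQv, spin_refl h.nd hQw0, hQw, map_mul, hχ, neg_one_mul,
        mul_neg, ← sq, quadraticChar_sq_one hQv]
  have ha : ¬ IsSquare (ν : F) := quadraticChar_neg_one_iff_not_isSquare.1 hχ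
  obtain ⟨R, p, hRi, hR0, hR, hdetp, hinjR⟩ := exists_piece ho hr hfix h hrF ha
  have H := isForm_omf ho hr h.two
  have G := isIsom_omf ho hr
  set U := FormClasses.orth H R with hU
  have hc : IsCompl R U := isCompl_orth H hR
  have hUi : ∀ x ∈ U, apE o x ∈ U := orth_invariant H G hr.pos hRi
  have hdR : ∀ x ∈ R, dOp o r x ∈ R := aeval_mem hRi _
  have hdU : ∀ x ∈ U, dOp o r x ∈ U := aeval_mem hUi _
  have hcross : ∀ x ∈ R, ∀ y ∈ U, polar ⇑Q x y = 0 := by
    intro x hx y hy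
    have hinj : Function.Injective ((dOp o r).restrict hdR) := fun a b hab =>
      Subtype.ext (dOp_inj ho hr hfix (congrArg Subtype.val hab))
    obtain ⟨x', hx'⟩ := LinearMap.injective_iff_surjective.1 hinj ⟨x, hx⟩
    have := H.eq_zero_symm (hy x' x'.2)
    rw [omf, ← LinearMap.restrict_coe_apply (dOp o r) hdR x', hx'] at this
    exact this
  have hg1 : ∀ x, (apE o ^ (r - 1)) (apE o x) = x := fun x => by
    rw [← Module.End.mul_apply, ← pow_succ, Nat.sub_add_cancel hr.pos, apE_pow_eq_one ho]; rfl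
  have hg2 : ∀ x, apE o ((apE o ^ (r - 1)) x) = x := fun x => by
    rw [← Module.End.mul_apply, ← pow_succ', Nat.sub_add_cancel hr.pos, apE_pow_eq_one ho]; rfl
  have hU' : ∀ x ∈ U, (apE o ^ (r - 1)) x ∈ U := fun x hx => by
    have := aeval_mem hUi (Polynomial.X ^ (r - 1) : F[X]) x hx
    rwa [map_pow, aeval_X] at this
  have hp1 : ∀ x ∈ R, aeval (apE o) p x ∈ R := aeval_mem hRi p
  have hp2 : ∀ x ∈ R, aeval (apE o) (barI r p) x ∈ R := aeval_mem hRi _
  let Z : Module.End F (ι → F) := LinearMap.ofIsCompl hc ((aeval (apE o) p).comp R.subtype)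
    ((apE o).comp U.subtype)
  let Z' : Module.End F (ι → F) := LinearMap.ofIsCompl hc ((aeval (apE o) (barI r p)).comp R.subtype)
    ((apE o ^ (r - 1)).comp U.subtype)
  have hZR : ∀ x ∈ R, Z x = aeval (apE o) p x := fun x hx =>
    LinearMap.ofIsCompl_apply_left hc ⟨x, hx⟩
  have hZU : ∀ x ∈ U, Z x = apE o x := fun x hx => LinearMap.ofIsCompl_apply_right hc ⟨x, hx⟩
  have hZR' : ∀ x ∈ R, Z' x = aeval (apE o) (barI r p) x := fun x hx =>
    LinearMap.ofIsCompl_apply_left hc ⟨x, hx⟩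
  have hZU' : ∀ x ∈ U, Z' x = (apE o ^ (r - 1)) x := fun x hx =>
    LinearMap.ofIsCompl_apply_right hc ⟨x, hx⟩
  clear_value Z Z'
  have hdec : ∀ x, ∃ a ∈ R, ∃ b ∈ U, a + b = x := fun x =>
    Submodule.mem_sup.1 (hc.sup_eq_top ▸ Submodule.mem_top)
  have hsplit : ∀ a ∈ R, ∀ b ∈ U, a + b = 0 → a = 0 ∧ b = 0 := fun a ha b hb hab => by
    have h1 : a = 0 := Submodule.disjoint_def.1 hc.disjoint a ha
      (by rw [eq_neg_of_add_eq_zero_left hab]; exact U.neg_mem hb)
    exact ⟨h1, by rwa [h1, zero_add] at hab⟩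
  have hadj : ∀ x y, polar ⇑Q (Z x) y = polar ⇑Q x (Z' y) := by
    intro x y
    obtain ⟨a, ha, b, hb, rfl⟩ := hdec x
    obtain ⟨c, hc', d, hd, rfl⟩ := hdec y
    rw [map_add, map_add, hZR a ha, hZU b hb, hZR' c hc', hZU' d hd]
    simp only [pl_add_left, pl_add_right]
    rw [hcross _ (hp1 a ha) d hd, hcross a ha _ (hU' d hd), pl_comm Q (apE o b) c,
      hcross c hc' _ (hUi b hb), pl_comm Q b, hcross _ (hp2 c hc') b hb, polar_aeval ho hr.pos]
    conv_lhs => rw [← hg2 d, polar_ap]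
  have hcomm : ∀ x, Z (Z' x) = Z' (Z x) := by
    intro x
    obtain ⟨a, ha, b, hb, rfl⟩ := hdec x
    simp only [map_add, hZR' a ha, hZU' b hb, hZR a ha, hZU b hb, hZR _ (hp2 a ha), hZU _ (hU' b hb),
      hZR' _ (hp1 a ha), hZU' _ (hUi b hb), hg1, hg2, aeval_comm_apply (apE o) p]
  have hZo : ∀ x, Z (apE o x) = apE o (Z x) := by
    intro x
    obtain ⟨a, ha, b, hb, rfl⟩ := hdec x
    simp only [map_add, hZR a ha, hZU b hb, hZR _ (hRi a ha), hZU _ (hUi b hb), aeval_comm_self]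
  have hZo' : ∀ x, Z' (apE o x) = apE o (Z' x) := by
    intro x
    obtain ⟨a, ha, b, hb, rfl⟩ := hdec x
    simp only [map_add, hZR' a ha, hZU' b hb, hZR' _ (hRi a ha), hZU' _ (hUi b hb), aeval_comm_self,
      hg1, hg2]
  have hpinj : ∀ a ∈ R, aeval (apE o) p a = 0 → a = 0 := by
    intro a ha h0
    by_contra hne
    refine ν.ne_zero ?_
    rw [← hdetp]
    exact LinearMap.det_eq_zero_iff_ker_ne_bot.2 fun hk => hne (congrArg Subtype.val
      ((Submodule.eq_bot_iff _).1 hk ⟨a, ha⟩ (LinearMap.mem_ker.2 (Subtype.ext h0))))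
  have hZinj : Function.Injective Z := by
    rw [← LinearMap.ker_eq_bot, LinearMap.ker_eq_bot']
    intro x hx
    obtain ⟨a, ha, b, hb, rfl⟩ := hdec x
    rw [map_add, hZR a ha, hZU b hb] at hx
    obtain ⟨h1, h2⟩ := hsplit _ (hp1 a ha) _ (hUi b hb) hx
    rw [hpinj a ha h1, ap_inj o (h2.trans (map_zero _).symm), add_zero]
  have hZinj' : Function.Injective Z' := by
    rw [← LinearMap.ker_eq_bot, LinearMap.ker_eq_bot']
    intro y hy
    by_contra hne
    obtain ⟨x, hx⟩ := exists_polar_ne h.nd hne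
    obtain ⟨x', rfl⟩ := LinearMap.injective_iff_surjective.1 hZinj x
    rw [pl_comm, hadj, hy, pl_zero_right] at hx
    exact hx rfl
  have hdiff : Function.Injective (Z - Z') := by
    rw [← LinearMap.ker_eq_bot, LinearMap.ker_eq_bot']
    intro x hx
    obtain ⟨a, ha, b, hb, rfl⟩ := hdec x
    rw [LinearMap.sub_apply, map_add, map_add, hZR a ha, hZU b hb, hZR' a ha, hZU' b hb] at hx
    obtain ⟨h1, h2⟩ := hsplit _ (R.sub_mem (hp1 a ha) (hp2 a ha)) _ (U.sub_mem (hUi b hb) (hU' b hb))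
      (by rw [← hx]; abel)
    rw [hinjR a ha (by rw [map_sub, LinearMap.sub_apply]; exact h1),
      show b = 0 from dOp_inj ho hr hfix (by
        rw [map_zero, dOp, map_sub, LinearMap.sub_apply, aeval_X, map_pow, aeval_X]; exact h2), add_zero]
  let e := LinearEquiv.ofInjectiveEndo Z' hZinj'
  have he : ∀ x, e x = Z' x := fun x => rfl
  let w : Module.End F (ι → F) := Z ∘ₗ e.symm.toLinearMap
  have hw : ∀ x, w (Z' x) = Z x := fun x => by
    rw [← he]
    exact congrArg Z (e.symm_apply_apply x)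
  have hwQ : ∀ x, Q (w x) = ((1 : Fˣ) : F) * Q x := by
    intro x
    obtain ⟨x, rfl⟩ := e.surjective x
    rw [he, hw]
    refine Q_eq_of_polar_self h.two ?_
    rw [Units.val_one, one_mul, hadj, ← hcomm, pl_comm, hadj]
  obtain ⟨c, hcw, hcm, hcM⟩ := exists_sim_of_lin h w 1 hwQ
  obtain ⟨z, rfl⟩ := exists_of_mult_one h c hcm
  rw [sap_toSim'] at hcw
  rw [toSim_coe] at hcM
  have hMw : LinearMap.toMatrix' w * LinearMap.toMatrix' Z' = LinearMap.toMatrix' Z := by
    rw [← LinearMap.toMatrix'_mul]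
    exact congrArg _ (LinearMap.ext hw)
  have hdZ : LinearMap.det Z = LinearMap.det Z' := det_adjoint_eq h.nd Z Z' hadj
  have hdZ0 : LinearMap.det Z ≠ 0 := fun h0 =>
    (LinearMap.bot_lt_ker_of_det_eq_zero h0).ne' (LinearMap.ker_eq_bot.2 hZinj)
  have hdick : dick z = 1 := by
    rw [← mem_special_iff_dick h.good h.two, mem_special_iff, hcM]
    have := congrArg Matrix.det hMw
    rw [Matrix.det_mul, LinearMap.det_toMatrix' Z', ← hdZ, LinearMap.det_toMatrix' Z] at this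
    exact mul_right_cancel₀ hdZ0 (this.trans (one_mul _).symm)
  refine ⟨z, hdick, ?_, ext_ap fun x => ?_⟩
  swap
  · obtain ⟨x, rfl⟩ := e.surjective x
    rw [ap_mul, ap_mul, hcw, he, hw, ← hZo' x, hw, hZo]
  have hZr : LinearMap.det Z = (ν : F) * LinearMap.det ((apE o).restrict hUi) := by
    have hZRi : ∀ x ∈ R, Z x ∈ R := fun x hx => by rw [hZR x hx]; exact hp1 x hx
    have hZUi : ∀ x ∈ U, Z x ∈ U := fun x hx => by rw [hZU x hx]; exact hUi x hx
    rw [← Semisimple.conj_prodMap (f := Z) hc hZRi hZUi, LinearEquiv.conj_apply, LinearMap.comp_assoc,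
      LinearMap.det_conj, LinearMap.det_prodMap, ← hdetp]
    congr 2
    · exact LinearMap.ext fun x => Subtype.ext (hZR x x.2)
    · exact LinearMap.ext fun x => Subtype.ext (hZU x x.2)
  set d := LinearMap.det ((apE o).restrict hUi)
  have hdr : d ^ r = 1 := by rw [← map_pow, (G.restrict hUi).pow, map_one]
  have hd0 : d ≠ 0 := fun h0 => by rw [h0, zero_pow hr.pos.ne'] at hdr; exact zero_ne_one hdr
  have hχd : quadraticChar F d = 1 := by
    obtain ⟨j, hj⟩ := hr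
    refine (quadraticChar_one_iff_isSquare hd0).2 ⟨d ^ (j + 1), ?_⟩
    rw [← pow_add, show j + 1 + (j + 1) = r + 1 by omega, pow_succ, hdr, one_mul]
  have hχZ : quadraticChar F (LinearMap.det Z) = -1 := by rw [hZr, map_mul, hχ, hχd, mul_one]
  set W := (LinearMap.toMatrix' (Z - Z'))ᵀ * Orth.gram ⇑Q with hW
  have hWdet : W.det ≠ 0 := by
    rw [hW, Matrix.det_mul, Matrix.det_transpose, LinearMap.det_toMatrix']
    exact mul_ne_zero (fun h0 => (LinearMap.bot_lt_ker_of_det_eq_zero h0).ne'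
      (LinearMap.ker_eq_bot.2 hdiff)) (det_gram_ne_zero h.nd)
  obtain ⟨s, hs0, hs⟩ := alt_det_square W (fun x => by
    rw [dot_mulVec_gram, LinearMap.sub_apply, pl_sub_left, hadj, pl_comm, sub_self]) hWdet h.card
  have hkey : (LinearMap.toMatrix' w - 1).det * LinearMap.det Z = LinearMap.det (Z - Z') := by
    rw [hdZ, ← LinearMap.det_toMatrix' Z', ← LinearMap.det_toMatrix' (Z - Z'), ← Matrix.det_mul, sub_mul,
      hMw, one_mul, map_sub]
  have hne : (LinearMap.toMatrix' w - 1).det ≠ 0 := fun h0 => by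
    rw [h0, zero_mul, ← LinearMap.det_toMatrix'] at hkey
    rw [hW, Matrix.det_mul, Matrix.det_transpose, ← hkey, zero_mul] at hWdet
    exact hWdet rfl
  rw [spin_eq_det (by rw [h.card]; exact even_two_mul k) z (by rw [hcM]; exact hne), hcM]
  have hfin : quadraticChar F ((gram ⇑Q).det * (LinearMap.toMatrix' w - 1).det) *
      quadraticChar F (LinearMap.det Z) = 1 := by
    rw [← map_mul, mul_assoc, hkey, ← LinearMap.det_toMatrix', mul_comm,
      ← Matrix.det_transpose (LinearMap.toMatrix' (Z - Z')), ← Matrix.det_mul, ← hW, hs, ← sq,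
      quadraticChar_sq_one' hs0]
  rw [hχZ, mul_neg, mul_one, neg_eq_iff_eq_neg] at hfin
  exact hfin

theorem exists_centralizer (h : Ctx Q k) (hD : Diag Q k) (ho : o ^ r = 1) (hr : Odd r)
    (hrF : (r : F) ≠ 0) {g : Sim Q} (hg : g ∈ plusS h.exists_ne k) :
    ∃ c, Commute c (toSim Q o) ∧ g * c⁻¹ ∈ omZ Q := by
  have main : ∀ g : Sim Q, g ∈ soZ Q → ∃ c, Commute c (toSim Q o) ∧ g * c⁻¹ ∈ omZ Q := by
    intro g hg
    by_cases hA : negOne Q ∈ Omega F ⇑Q
    swap
    · exact ⟨1, Commute.one_left _, by rw [inv_one, mul_one]; exact soZ_le_omZ h hA hg⟩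
    obtain ⟨s, hs, _, ⟨t, rfl⟩, rfl⟩ := Subgroup.mem_sup_of_normal_right.1 hg
    obtain ⟨u, rfl⟩ := exists_of_mult_one h s ((mem_soS_iff h.exists_ne s).1 hs).1
    have hd := (toSim_mem_soS_iff h u).1 hs
    rcases spin_eq_or h.good u with hu | hu
    · exact ⟨1, Commute.one_left _, by
        rw [inv_one, mul_one]
        exact mul_mem ((toSim_mem_omZ_iff_spin h hA u hd).2 hu) (scal_mem_omZ t)⟩
    obtain ⟨z, hzd, hzs, hzc⟩ := exists_odd_spin h hD ho hr hrF
    refine ⟨toSim Q z, hzc.map _, ?_⟩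
    rw [mul_assoc, ← scal_comm t, ← mul_assoc, ← map_inv, ← map_mul]
    have hzi : dick z⁻¹ = 1 ∧ spin z⁻¹ = -1 := by
      have h1 := dick_mul h.good z⁻¹ z
      have h2 := spin_mul h.good z⁻¹ z
      rw [inv_mul_cancel, dick_one, hzd, mul_one] at h1
      rw [inv_mul_cancel, spin_one, hzs, mul_neg, mul_one, eq_neg_iff_add_eq_zero, add_comm,
        ← eq_neg_iff_add_eq_zero] at h2
      exact ⟨h1.symm, h2⟩
    exact mul_mem ((toSim_mem_omZ_iff_spin h hA _ (by rw [dick_mul h.good, hd, hzi.1, one_mul])).2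
      (by rw [spin_mul h.good, hu, hzi.2]; norm_num)) (scal_mem_omZ t)
  have hsg : sgn h.exists_ne k g = 1 := hg
  rcases Int.units_eq_one_or (chi F (mult h.exists_ne g)) with h1 | h1
  · exact main g ((mem_soZ_iff h g).2 ⟨hsg, h1⟩)
  obtain ⟨c₀, hc1, hc2, hc3⟩ := exists_commuting_mult h hD ho hr hrF
  obtain ⟨c, hc, hmem⟩ := main (g * c₀⁻¹) ((mem_soZ_iff h _).2
    ⟨by rw [map_mul, map_inv, hsg, hc1, inv_one, mul_one],
     by rw [map_mul, map_mul, map_inv, map_inv, h1, hc2, mul_inv_cancel]⟩)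
  exact ⟨c * c₀, hc.mul_left hc3, by rwa [_root_.mul_inv_rev, ← mul_assoc]⟩

theorem exists_odd_lift (h : Ctx Q k) {x : MulAut (POmega F ⇑Q)} (hx : x ∈ pgoAut F ⇑Q)
    (hr : Odd r) (hxr : x ^ r = 1) :
    ∃ o : IsoGrp Q, o ^ r = 1 ∧ conjAut Q (toSim Q o) = x := by
  rw [pgoAut_eq] at hx
  obtain ⟨g, rfl⟩ := hx
  obtain ⟨i, hi⟩ := hr
  have hpow : conjAut Q g ^ (r + 1) = conjAut Q g := by rw [pow_succ, hxr, one_mul]
  obtain ⟨o₁, ho₁⟩ := exists_of_mult_one h (g ^ (r + 1) * (scal Q (mult h.exists_ne g ^ (i + 1)))⁻¹)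
    (by rw [map_mul, map_pow, map_inv, mult_scal, ← pow_add, show i + 1 + (i + 1) = r + 1 by omega,
      mul_inv_cancel])
  have hsc : ∀ t : Fˣ, conjAut Q (scal Q t) = 1 := fun t => (conjAut_eq_one_iff h _).2 ⟨t, rfl⟩
  have h1 : conjAut Q (toSim Q o₁) = conjAut Q g := by
    rw [ho₁, map_mul, map_inv, map_pow, hsc, inv_one, mul_one, hpow]
  obtain ⟨t, ht⟩ := (conjAut_eq_one_iff h (toSim Q (o₁ ^ r))).1 (by rw [map_pow, map_pow, h1, hxr])
  have htt : t * t = 1 := by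
    have := congrArg (mult h.exists_ne) ht
    rwa [mult_toSim, mult_scal, eq_comm] at this
  have h2r : o₁ ^ (r * 2) = 1 := toSim_injective (by
    rw [pow_mul, map_pow, ht, ← map_pow, pow_two, htt, map_one, map_one])
  refine ⟨o₁ ^ (r + 1), ?_, by rw [map_pow, map_pow, h1, hpow]⟩
  rw [← pow_mul, show (r + 1) * r = r * 2 * (i + 1) by rw [hi]; ring, pow_mul, h2r, one_pow]

theorem isConjUnder_mono {X : Type*} [Group X] {H K : Subgroup X} (hHK : H ≤ K) {x y : X}
    (hxy : IsConjUnder H x y) : IsConjUnder K x y := by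
  obtain ⟨g, hg, rfl⟩ := hxy
  exact ⟨g, hHK hg, rfl⟩

theorem semisimple_fusion (h : Ctx Q k) (hD : Diag Q k) {x : MulAut (POmega F ⇑Q)}
    (hx : x ∈ pgoAut F ⇑Q) (hr : Odd r) (hrF : (r : F) ≠ 0) (hxr : x ^ r = 1) :
    (∀ y, (IsConjUnder (Inn (POmega F ⇑Q)) x y ↔
        IsConjUnder ((plusS h.exists_ne k).map (conjAut Q)) x y) ∧
      (IsConjUnder (psoAut F ⇑Q) x y ↔
        IsConjUnder ((plusS h.exists_ne k).map (conjAut Q)) x y)) ∧
      ∀ y, (IsConjUnder (poAut F ⇑Q) x y ↔ IsConjUnder (pgoAut F ⇑Q) x y) := by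
  obtain ⟨o, ho, rfl⟩ := exists_odd_lift h hx hr hxr
  have l1 : Inn (POmega F ⇑Q) ≤ psoAut F ⇑Q := by
    rw [← map_omZ h, ← map_soZ h]; exact Subgroup.map_mono (omZ_le_soZ h)
  have l2 : psoAut F ⇑Q ≤ (plusS h.exists_ne k).map (conjAut Q) := by
    rw [← map_soZ h]; exact Subgroup.map_mono (soZ_le_plusS h)
  have l3 : Inn (POmega F ⇑Q) ≤ poAut F ⇑Q := by
    rw [inn_eq, poAut_eq]; exact Subgroup.map_mono (Subgroup.map_le_range _ _)
  have key : ∀ g ∈ plusS h.exists_ne k, ∃ n ∈ Inn (POmega F ⇑Q),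
      conjAut Q g * conjAut Q (toSim Q o) * (conjAut Q g)⁻¹ = n * conjAut Q (toSim Q o) * n⁻¹ := by
    intro g hg
    obtain ⟨c, hc, hmem⟩ := exists_centralizer h hD ho hr hrF hg
    refine ⟨conjAut Q (g * c⁻¹), by rw [← map_omZ h]; exact Subgroup.mem_map_of_mem _ hmem, ?_⟩
    simp only [← map_inv, ← map_mul]
    congr 1
    rw [_root_.mul_inv_rev, inv_inv, mul_assoc g c⁻¹ (toSim Q o), hc.inv_left.eq]
    simp [mul_assoc]
  have k1 : ∀ y, IsConjUnder ((plusS h.exists_ne k).map (conjAut Q)) (conjAut Q (toSim Q o)) y →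
      IsConjUnder (Inn (POmega F ⇑Q)) (conjAut Q (toSim Q o)) y := by
    rintro y ⟨_, ⟨g, hg, rfl⟩, rfl⟩
    obtain ⟨n, hn, he⟩ := key g hg
    exact ⟨n, hn, he⟩
  refine ⟨fun y => ⟨⟨isConjUnder_mono (l1.trans l2), k1 y⟩,
    ⟨isConjUnder_mono l2, fun hy => isConjUnder_mono l1 (k1 y hy)⟩⟩, fun y => ⟨?_, ?_⟩⟩
  · exact isConjUnder_mono (by rw [poAut_eq, pgoAut_eq]; exact Subgroup.map_le_range _ _)
  rintro ⟨f, hf, rfl⟩
  rw [pgoAut_eq] at hf
  obtain ⟨g, rfl⟩ := hf
  obtain ⟨v, hv⟩ := h.exists_ne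
  have hneg : sgn h.exists_ne k (toSim Q (refl Q v)) = -1 :=
    Units.ext (by rw [sgn_toSim h, det_refl hv, Units.val_neg, Units.val_one])
  obtain ⟨s, hs, hgs⟩ : ∃ s ∈ isoS Q, s * g ∈ plusS h.exists_ne k := by
    rcases sgn_eq_or h hD g with hg | hg
    · exact ⟨1, one_mem _, by rwa [one_mul]⟩
    · refine ⟨toSim Q (refl Q v), ⟨_, rfl⟩, ?_⟩
      rw [plusS, MonoidHom.mem_ker, map_mul, hneg, hg, neg_mul_neg, one_mul]
  obtain ⟨n, hn, he⟩ := key _ hgs
  refine ⟨(conjAut Q s)⁻¹ * n, mul_mem ((poAut F ⇑Q).inv_mem (by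
    rw [poAut_eq]; exact Subgroup.mem_map_of_mem _ hs)) (l3 hn), ?_⟩
  rw [map_mul] at he
  calc conjAut Q g * conjAut Q (toSim Q o) * (conjAut Q g)⁻¹
      = (conjAut Q s)⁻¹ * (conjAut Q s * conjAut Q g * conjAut Q (toSim Q o) *
          (conjAut Q s * conjAut Q g)⁻¹) * conjAut Q s := by group
    _ = (conjAut Q s)⁻¹ * (n * conjAut Q (toSim Q o) * n⁻¹) * conjAut Q s := by rw [he]
    _ = _ := by group

end Cfsg.Agent.OrthOuter
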