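import Cfsg.Agent.Lib.OrthOuter.Basic

/-!
# The quotients of the similarity group by `Ω` and scalars

* `Diag Q k` : a similarity `g₀` of non-square multiplier `ν`, `det = ν^k`, with `g₀² = ν·o`, `spin o = (-1)^k`
* `plusS` (`sgn = 1`), `soZ = SO·Z`, `omZ = Ω·Z`, their indices
* `isoConj_refl`, `spin_isoConj`
* `pgoAut_klein_pso`, `relIndex_inn_pso`, `pgoAut_inn`, `plus_inn`
-/

set_option autoImplicit false
set_option linter.unusedSectionVars false

namespace Cfsg.Agent.OrthOuter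

open Cfsg Matrix Module Cfsg.Agent.Orth
open QuadraticMap (polar)

variable {ι : Type} [Fintype ι] [DecidableEq ι] {F : Type*} [Field F]
variable {Q : QuadraticForm F (ι → F)} {k : ℕ}

theorem isoConj_refl (hne : ∃ v, Q v ≠ 0) (g : Sim Q) (v : ι → F) :
    isoConj Q g (refl Q v) = refl Q (sap g v) := by
  refine ext_ap fun x => ?_
  show sap (toSim Q (isoConj Q g (refl Q v))) x = _
  rw [toSim_isoConj, sap_mul, sap_mul, sap_toSim, refl_ap, refl_ap, map_sub, map_smul, sap_sap_inv]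
  congr 2
  have h : polar ⇑Q (sap g v) x = (mult hne g : F) * polar ⇑Q v (sap g⁻¹ x) := by
    rw [← polar_sap hne, sap_sap_inv]
  rw [h, Q_sap hne, mul_inv]
  field_simp

/-- The subgroup of similarities with `det = mult^k`. -/
noncomputable def plusS (hne : ∃ v, Q v ≠ 0) (k : ℕ) : Subgroup (Sim Q) := (sgn hne k).ker

/-- `Ω` times scalars. -/
def omZ (Q : QuadraticForm F (ι → F)) : Subgroup (Sim Q) := omegaS Q ⊔ (scal Q).range

/-- `SO` times scalars. -/
def soZ (Q : QuadraticForm F (ι → F)) : Subgroup (Sim Q) := soS Q ⊔ (scal Q).range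

theorem mem_soS_iff (hne : ∃ v, Q v ≠ 0) (g : Sim Q) :
    g ∈ soS Q ↔ mult hne g = 1 ∧ sdet Q g = 1 := by
  rw [← mem_range_toSim_iff hne]
  constructor
  · rintro ⟨hi, hd⟩
    exact ⟨⟨⟨g.1, hi⟩, Subtype.ext rfl⟩, hd⟩
  · rintro ⟨⟨s, rfl⟩, hd⟩
    exact ⟨s.2, hd⟩

instance omegaS_normal : (omegaS Q).Normal := by
  refine ⟨?_⟩
  rintro _ ⟨s, hs, rfl⟩ g
  refine ⟨isoConj Q g s, ?_, toSim_isoConj g s⟩
  exact ((charRestrict (Omega F ⇑Q)) (isoConj Q g) ⟨s, hs⟩).2

instance scal_range_normal : ((scal Q).range).Normal := by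
  refine ⟨?_⟩
  rintro _ ⟨t, rfl⟩ g
  exact ⟨t, by rw [scal_comm, mul_inv_cancel_right]⟩

instance soS_normal : (soS Q).Normal := by
  refine ⟨fun s hs g => ?_⟩
  obtain ⟨hi, hd⟩ := hs
  refine ⟨?_, ?_⟩
  · show ((g * s * g⁻¹ : Sim Q) : GL ι F) ∈ isometryGroup F ⇑Q
    exact conj_mem g ⟨s.1, hi⟩
  · show Matrix.GeneralLinearGroup.det ((g : GL ι F) * (s : GL ι F) * (g : GL ι F)⁻¹) = 1
    have hd' : Matrix.GeneralLinearGroup.det (s : GL ι F) = 1 := hd
    rw [map_mul, map_mul, map_inv, hd', mul_one, mul_inv_cancel]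

theorem scal_mem_omZ (t : Fˣ) : scal Q t ∈ omZ Q := Subgroup.mem_sup_right ⟨t, rfl⟩

instance omZ_normal : (omZ Q).Normal := Subgroup.sup_normal _ _

instance soZ_normal : (soZ Q).Normal := Subgroup.sup_normal _ _

variable [Fintype F]

open Classical in
/-- The quadratic character on units. -/
noncomputable def chi (F : Type*) [Field F] [Fintype F] : Fˣ →* ℤˣ :=
  MonoidHom.toHomUnits ((quadraticChar F).toMonoidHom.comp (Units.coeHom F))

open Classical in
theorem chi_coe (t : Fˣ) : ((chi F t : ℤˣ) : ℤ) = quadraticChar F (t : F) := rfl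

theorem chi_eq_one_iff (t : Fˣ) : chi F t = 1 ↔ ∃ s : Fˣ, t = s * s := by
  classical
  rw [Units.ext_iff, chi_coe, Units.val_one, quadraticChar_one_iff_isSquare t.ne_zero]
  constructor
  · rintro ⟨r, hr⟩
    have hr0 : r ≠ 0 := fun h => t.ne_zero (by rw [hr, h, mul_zero])
    exact ⟨Units.mk0 r hr0, Units.ext (by simpa using hr)⟩
  · rintro ⟨s, rfl⟩
    exact ⟨s, by simp⟩

theorem chi_mul_self (t : Fˣ) : chi F (t * t) = 1 := (chi_eq_one_iff _).2 ⟨t, rfl⟩

open Classical in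
theorem spin_isoConj (hG : Good Q) (hne : ∃ v, Q v ≠ 0) (g : Sim Q) (o : IsoGrp Q) :
    dick (isoConj Q g o) = dick o ∧ spin (isoConj Q g o) =
      spin o * (if dick o = 1 then 1 else ((chi F (mult hne g) : ℤˣ) : ℤ)) := by
  induction o using reflGen_induction hG with
  | one => rw [map_one]; exact ⟨rfl, by simp [dick_one, spin_one]⟩
  | mul v o hv ih =>
    obtain ⟨hd, hs⟩ := ih
    have hv' : Q (sap g v) ≠ 0 := by
      rw [Q_sap hne]; exact mul_ne_zero (mult hne g).ne_zero hv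
    rw [map_mul, isoConj_refl hne, dick_refl_mul hG.nd _ hv', dick_refl_mul hG.nd _ hv,
      spin_refl_mul hG.nd _ hv', spin_refl_mul hG.nd _ hv, hd, hs, Q_sap hne, map_mul, ← chi_coe]
    refine ⟨rfl, ?_⟩
    rcases Int.units_eq_one_or (chi F (mult hne g)) with h | h <;>
      rcases dick_eq_or o with h' | h' <;> rw [h, h'] <;> simp <;> ring

theorem dick_eq_one_iff_det (h : Ctx Q k) (o : IsoGrp Q) :
    dick o = 1 ↔ toSim Q o ∈ plusS h.exists_ne k := by
  rw [plusS, MonoidHom.mem_ker, Units.ext_iff, sgn_toSim h, Units.val_one]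
  exact ((mem_special_iff o).symm.trans (mem_special_iff_dick h.good h.two o)).symm

theorem toSim_mem_soS_iff (h : Ctx Q k) (o : IsoGrp Q) : toSim Q o ∈ soS Q ↔ dick o = 1 := by
  rw [mem_soS_iff h.exists_ne, mult_toSim, eq_self_iff_true, true_and, Units.ext_iff, sdet_coe,
    toSim_coe, Units.val_one]
  exact (mem_special_iff o).symm.trans (mem_special_iff_dick h.good h.two o)

theorem exists_of_mult_one (h : Ctx Q k) (g : Sim Q) (hg : mult h.exists_ne g = 1) :
    ∃ o, toSim Q o = g := (mem_range_toSim_iff h.exists_ne g).2 hg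

theorem toSim_mem_omZ_iff (h : Ctx Q k) (o : IsoGrp Q) :
    toSim Q o ∈ omZ Q ↔ o ∈ Omega F ⇑Q ∨ o * negOne Q ∈ Omega F ⇑Q := by
  have hneg : toSim Q (negOne Q) = scal Q (-1) := ext_sap fun x => by
    rw [sap_toSim, negOne_ap, sap_scal, Units.val_neg, Units.val_one, neg_one_smul]
  constructor
  · intro ho
    obtain ⟨_, ⟨w, hw, rfl⟩, _, ⟨t, rfl⟩, hwt⟩ :=
      Subgroup.mem_sup_of_normal_right.1 ho
    have ht := congrArg (mult h.exists_ne) hwt
    rw [map_mul, mult_toSim, mult_toSim, mult_scal, one_mul] at ht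
    have ht' : (t : F) * t = 1 := by rw [← Units.val_mul, ht, Units.val_one]
    rcases mul_self_eq_one_iff.1 ht' with h1 | h1
    · left
      have : toSim Q o = toSim Q w := by
        rw [← hwt, Units.ext (h1.trans Units.val_one.symm), map_one, mul_one]
      rwa [toSim_injective this]
    · right
      have ht2 : t = -1 := Units.ext (by rw [h1, Units.val_neg, Units.val_one])
      have : toSim Q o = toSim Q (w * negOne Q) := by rw [← hwt, ht2, map_mul, hneg]
      rw [toSim_injective this, mul_assoc]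
      have hn2 : negOne Q * negOne Q = (1 : IsoGrp Q) :=
        ext_ap fun x => by simp [negOne_ap]
      rwa [hn2, mul_one]
  · rintro (ho | ho)
    · exact Subgroup.mem_sup_left ⟨o, ho, rfl⟩
    · have : toSim Q o = toSim Q (o * negOne Q) * scal Q (-1) := by
        rw [← hneg, ← map_mul, mul_assoc]
        congr 1
        rw [show negOne Q * negOne Q = (1 : IsoGrp Q) from ext_ap fun x => by simp [negOne_ap],
          mul_one]
      rw [this]
      exact mul_mem (Subgroup.mem_sup_left ⟨_, ho, rfl⟩) (Subgroup.mem_sup_right ⟨_, rfl⟩)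

theorem spin_negOne_eq (h : Ctx Q k) :
    (negOne Q ∈ Omega F ⇑Q ↔ spin (negOne Q) = 1) := by
  rw [mem_omega_iff h.good, dick_negOne Q h.two, h.card, pow_mul, neg_one_sq, one_pow]
  simp

theorem dick_negOne_eq (h : Ctx Q k) : dick (negOne Q) = 1 := by
  rw [dick_negOne Q h.two, h.card, pow_mul, neg_one_sq, one_pow]

/-- An element of `SO` outside `ΩZ` exists exactly when `-1 ∈ Ω`. -/
theorem toSim_mem_omZ_iff_spin (h : Ctx Q k) (hA : negOne Q ∈ Omega F ⇑Q) (o : IsoGrp Q)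
    (hd : dick o = 1) : toSim Q o ∈ omZ Q ↔ spin o = 1 := by
  rw [toSim_mem_omZ_iff h, mem_omega_iff h.good, mem_omega_iff h.good, dick_mul h.good,
    spin_mul h.good, hd, dick_negOne_eq h, (spin_negOne_eq h).1 hA]
  simp

theorem omZ_le_soZ (h : Ctx Q k) : omZ Q ≤ soZ Q := by
  refine sup_le ?_ le_sup_right
  rintro _ ⟨o, ho, rfl⟩
  exact Subgroup.mem_sup_left ((toSim_mem_soS_iff h o).2 ((mem_omega_iff h.good o).1 ho).1)

theorem soZ_le_omZ (h : Ctx Q k) (hB : negOne Q ∉ Omega F ⇑Q) : soZ Q ≤ omZ Q := by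
  refine sup_le ?_ le_sup_right
  intro g hg
  obtain ⟨o, rfl⟩ := exists_of_mult_one h g ((mem_soS_iff h.exists_ne g).1 hg).1
  have hd := (toSim_mem_soS_iff h o).1 hg
  rw [toSim_mem_omZ_iff h, mem_omega_iff h.good, mem_omega_iff h.good, dick_mul h.good,
    spin_mul h.good, hd, dick_negOne_eq h]
  have hn : spin (negOne Q) = -1 :=
    (spin_eq_or h.good _).resolve_left fun h1 => hB ((spin_negOne_eq h).2 h1)
  rcases spin_eq_or h.good o with hs | hs <;> simp [hs, hn]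

theorem omZ_relIndex_soZ (h : Ctx Q k) (hA : negOne Q ∈ Omega F ⇑Q) :
    (omZ Q).relIndex (soZ Q) = 2 := by
  obtain ⟨⟨v, hv, hvs⟩, w, hw, hws⟩ :=
    exists_refl_spin h.good (by have := h.five; omega) h.two
  set z : IsoGrp Q := refl Q v * refl Q w
  have hzd : dick z = 1 := by
    rw [dick_mul h.good, dick_refl h.nd hv, dick_refl h.nd hw]; norm_num
  have hzs : spin z = -1 := by rw [spin_mul h.good, hvs, hws]; norm_num
  rw [Subgroup.relIndex, Subgroup.index_eq_two_iff]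
  refine ⟨⟨toSim Q z, Subgroup.mem_sup_left ((toSim_mem_soS_iff h z).2 hzd)⟩, ?_⟩
  rintro ⟨g, hg⟩
  obtain ⟨s, hs, _, ⟨t, rfl⟩, rfl⟩ := Subgroup.mem_sup_of_normal_right.1 hg
  obtain ⟨o, rfl⟩ := exists_of_mult_one h s ((mem_soS_iff h.exists_ne s).1 hs).1
  have hd := (toSim_mem_soS_iff h o).1 hs
  have hz : scal Q t ∈ omZ Q := Subgroup.mem_sup_right ⟨t, rfl⟩
  simp only [Subgroup.mem_subgroupOf, Subgroup.coe_mul]
  rw [mul_assoc, ← scal_comm t, ← mul_assoc, ← map_mul, Subgroup.mul_mem_cancel_right _ hz,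
    Subgroup.mul_mem_cancel_right _ hz, toSim_mem_omZ_iff_spin h hA _ (by rw [dick_mul h.good, hd, hzd, one_mul]),
    toSim_mem_omZ_iff_spin h hA o hd, spin_mul h.good, hzs]
  rcases spin_eq_or h.good o with h1 | h1 <;> simp [h1]

/-- A diagonal similarity of non-square multiplier with the expected spinor norm of its square. -/
def Diag (Q : QuadraticForm F (ι → F)) (k : ℕ) : Prop :=
  ∃ (g : Sim Q) (ν : Fˣ) (o : IsoGrp Q), chi F ν = -1 ∧
    (∀ v, Q (sap g v) = (ν : F) * Q v) ∧ sdet Q g = ν ^ k ∧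
    g * g = scal Q ν * toSim Q o ∧ spin o = (-1) ^ k

theorem decomp_sim (h : Ctx Q k) {g₀ : Sim Q} {ν : Fˣ} (hν : chi F ν = -1)
    (hg₀ : mult h.exists_ne g₀ = ν) (g : Sim Q) :
    ∃ (t : Fˣ) (o : IsoGrp Q),
      g = scal Q t * toSim Q o ∨ g = g₀ * (scal Q t * toSim Q o) := by
  have main : ∀ s : Sim Q, chi F (mult h.exists_ne s) = 1 →
      ∃ (t : Fˣ) (o : IsoGrp Q), s = scal Q t * toSim Q o := by
    intro s hs
    obtain ⟨t, ht⟩ := (chi_eq_one_iff _).1 hs
    obtain ⟨o, ho⟩ := exists_of_mult_one h ((scal Q t)⁻¹ * s)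
      (by rw [map_mul, map_inv, mult_scal, ht, inv_mul_cancel])
    exact ⟨t, o, by rw [ho, mul_inv_cancel_left]⟩
  rcases Int.units_eq_one_or (chi F (mult h.exists_ne g)) with h1 | h1
  · obtain ⟨t, o, ho⟩ := main g h1
    exact ⟨t, o, .inl ho⟩
  · obtain ⟨t, o, ho⟩ := main (g₀⁻¹ * g) (by
      rw [map_mul, map_inv, hg₀, map_mul, map_inv, hν, h1]; decide)
    exact ⟨t, o, .inr (by rw [← ho, mul_inv_cancel_left])⟩

theorem sgn_eq_or (h : Ctx Q k) (hD : Diag Q k) (g : Sim Q) :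
    sgn h.exists_ne k g = 1 ∨ sgn h.exists_ne k g = -1 := by
  obtain ⟨g₀, ν, o₀, hν, hm, hdet, -, -⟩ := hD
  have hg₀ : mult h.exists_ne g₀ = ν := mult_eq _ hm
  have hs₀ : sgn h.exists_ne k g₀ = 1 := by rw [sgn_apply, hdet, hg₀, mul_inv_cancel]
  have hiso : ∀ o : IsoGrp Q,
      sgn h.exists_ne k (toSim Q o) = 1 ∨ sgn h.exists_ne k (toSim Q o) = -1 := fun o => by
    rcases det_eq_one_or_neg_one h.nd o with h1 | h1
    · exact .inl (Units.ext (by rw [sgn_toSim h, h1, Units.val_one]))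
    · exact .inr (Units.ext (by rw [sgn_toSim h, h1, Units.val_neg, Units.val_one]))
  obtain ⟨t, o, rfl | rfl⟩ := decomp_sim h hν hg₀ g
  · rw [map_mul, sgn_scal h, one_mul]; exact hiso o
  · rw [map_mul, hs₀, one_mul, map_mul, sgn_scal h, one_mul]; exact hiso o

theorem mem_soZ_iff (h : Ctx Q k) (g : Sim Q) :
    g ∈ soZ Q ↔ sgn h.exists_ne k g = 1 ∧ chi F (mult h.exists_ne g) = 1 := by
  constructor
  · intro hg
    obtain ⟨s, hs, _, ⟨t, rfl⟩, rfl⟩ := Subgroup.mem_sup_of_normal_right.1 hg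
    obtain ⟨h1, h2⟩ := (mem_soS_iff h.exists_ne s).1 hs
    rw [map_mul, map_mul (mult h.exists_ne), sgn_scal h, mult_scal, h1, one_mul, mul_one, sgn_apply,
      h1, h2, one_pow, inv_one, mul_one]
    exact ⟨rfl, chi_mul_self t⟩
  · rintro ⟨h1, h2⟩
    obtain ⟨t, ht⟩ := (chi_eq_one_iff _).1 h2
    have hs : (scal Q t)⁻¹ * g ∈ soS Q := by
      rw [mem_soS_iff h.exists_ne]
      have hm : mult h.exists_ne ((scal Q t)⁻¹ * g) = 1 := by
        rw [map_mul, map_inv, mult_scal, ← ht, inv_mul_cancel]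
      have hsg : sgn h.exists_ne k ((scal Q t)⁻¹ * g) = 1 := by
        rw [map_mul, map_inv, sgn_scal h, h1, inv_one, one_mul]
      rw [sgn_apply, hm, one_pow, inv_one, mul_one] at hsg
      exact ⟨hm, hsg⟩
    have := mul_mem (Subgroup.mem_sup_right (S := soS Q) ⟨t, rfl⟩ : scal Q t ∈ soZ Q)
      (Subgroup.mem_sup_left hs)
    rwa [mul_inv_cancel_left] at this

theorem plusS_index (h : Ctx Q k) (hD : Diag Q k) : (plusS h.exists_ne k).index = 2 := by
  obtain ⟨v, hv⟩ := h.exists_ne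
  have hneg : sgn h.exists_ne k (toSim Q (refl Q v)) = -1 :=
    Units.ext (by rw [sgn_toSim h, det_refl (Q := Q) hv, Units.val_neg, Units.val_one])
  have hne1 : (-1 : Fˣ) ≠ 1 := fun e => h.two (by
    have := congrArg (fun u : Fˣ => (u : F)) e
    simp only [Units.val_neg, Units.val_one] at this
    linear_combination -this)
  rw [Subgroup.index_eq_two_iff]
  refine ⟨toSim Q (refl Q v), fun g => ?_⟩
  rw [plusS, MonoidHom.mem_ker, MonoidHom.mem_ker, map_mul, hneg]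
  rcases sgn_eq_or h hD g with h1 | h1 <;> rw [h1]
  · exact .inr ⟨rfl, by rwa [one_mul]⟩
  · exact .inl ⟨by rw [neg_mul, one_mul, neg_neg], hne1⟩

theorem soZ_le_plusS (h : Ctx Q k) : soZ Q ≤ plusS h.exists_ne k :=
  fun g hg => ((mem_soZ_iff h g).1 hg).1

theorem soZ_relIndex_plusS (h : Ctx Q k) (hD : Diag Q k) :
    (soZ Q).relIndex (plusS h.exists_ne k) = 2 := by
  obtain ⟨g₀, ν, o₀, hν, hm, hdet, -, -⟩ := hD
  have hg₀ : mult h.exists_ne g₀ = ν := mult_eq _ hm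
  have hs₀ : g₀ ∈ plusS h.exists_ne k := by
    rw [plusS, MonoidHom.mem_ker, sgn_apply, hdet, hg₀, mul_inv_cancel]
  rw [Subgroup.relIndex, Subgroup.index_eq_two_iff]
  refine ⟨⟨g₀, hs₀⟩, ?_⟩
  rintro ⟨g, hg⟩
  have hg' : sgn h.exists_ne k g = 1 := hg
  have hs₀' : sgn h.exists_ne k g₀ = 1 := hs₀
  simp only [Subgroup.mem_subgroupOf, Subgroup.coe_mul, mem_soZ_iff h]
  rw [map_mul, map_mul, map_mul, hg', hs₀', hg₀, hν, one_mul]
  rcases Int.units_eq_one_or (chi F (mult h.exists_ne g)) with h1 | h1 <;> simp [h1]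

theorem soZ_index (h : Ctx Q k) (hD : Diag Q k) : (soZ Q).index = 4 := by
  rw [← Subgroup.relIndex_mul_index (soZ_le_plusS h), soZ_relIndex_plusS h hD, plusS_index h hD]

theorem sq_mem_soZ (h : Ctx Q k) (hD : Diag Q k) (g : Sim Q) : g * g ∈ soZ Q := by
  rw [mem_soZ_iff h, map_mul, map_mul, map_mul]
  refine ⟨?_, ?_⟩
  · rcases sgn_eq_or h hD g with h1 | h1 <;> simp [h1]
  · rcases Int.units_eq_one_or (chi F (mult h.exists_ne g)) with h1 | h1 <;> simp [h1]

/-! ### transport to automorphisms -/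

theorem ker_le_omZ (h : Ctx Q k) : (conjAut Q).ker ≤ omZ Q := by
  rw [conjAut_ker h]
  exact le_sup_right

theorem map_omZ (h : Ctx Q k) : (omZ Q).map (conjAut Q) = Inn (POmega F ⇑Q) := by
  rw [omZ, Subgroup.map_sup, inn_eq, sup_eq_left, ← conjAut_ker h,
    (Subgroup.map_eq_bot_iff _).2 le_rfl]
  exact bot_le

theorem map_soZ (h : Ctx Q k) : (soZ Q).map (conjAut Q) = psoAut F ⇑Q := by
  rw [soZ, Subgroup.map_sup, psoAut_eq, sup_eq_left, ← conjAut_ker h,
    (Subgroup.map_eq_bot_iff _).2 le_rfl]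
  exact bot_le

theorem map_top' : (⊤ : Subgroup (Sim Q)).map (conjAut Q) = pgoAut F ⇑Q := by
  rw [← MonoidHom.range_eq_map, pgoAut_eq]

theorem pgo_pso_klein (h : Ctx Q k) (hD : Diag Q k) :
    ∃ φ : ↥(pgoAut F ⇑Q) →* Multiplicative (ZMod 2 × ZMod 2), Function.Surjective φ ∧
      φ.ker = (psoAut F ⇑Q).subgroupOf (pgoAut F ⇑Q) := by
  rw [← map_soZ h, ← map_top']
  refine exists_hom_map (conjAut Q) le_top ((ker_le_omZ h).trans (omZ_le_soZ h))
    (exists_hom_klein ?_ fun g => ?_)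
  · rw [← Subgroup.relIndex, Subgroup.relIndex_top_right, soZ_index h hD]
  · exact sq_mem_soZ h hD g.1

theorem relIndex_inn_pso_two (h : Ctx Q k) (hA : negOne Q ∈ Omega F ⇑Q) :
    (Inn (POmega F ⇑Q)).relIndex (psoAut F ⇑Q) = 2 := by
  rw [← map_omZ h, ← map_soZ h, Subgroup.relIndex_map_map, sup_eq_left.2 (ker_le_omZ h),
    sup_eq_left.2 ((ker_le_omZ h).trans (omZ_le_soZ h)), omZ_relIndex_soZ h hA]

theorem relIndex_inn_pso_one (h : Ctx Q k) (hB : negOne Q ∉ Omega F ⇑Q) :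
    (Inn (POmega F ⇑Q)).relIndex (psoAut F ⇑Q) = 1 := by
  rw [← map_omZ h, ← map_soZ h, Subgroup.relIndex_eq_one]
  exact Subgroup.map_mono (soZ_le_omZ h hB)

theorem pgo_inn_klein (h : Ctx Q k) (hD : Diag Q k) (hB : negOne Q ∉ Omega F ⇑Q) :
    ∃ φ : ↥(pgoAut F ⇑Q) →* Multiplicative (ZMod 2 × ZMod 2), Function.Surjective φ ∧
      φ.ker = (Inn (POmega F ⇑Q)).subgroupOf (pgoAut F ⇑Q) := by
  rw [← map_omZ h, le_antisymm (omZ_le_soZ h) (soZ_le_omZ h hB), map_soZ h]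
  exact pgo_pso_klein h hD

theorem omZ_index (h : Ctx Q k) (hD : Diag Q k) (hA : negOne Q ∈ Omega F ⇑Q) :
    (omZ Q).index = 8 := by
  rw [← Subgroup.relIndex_mul_index (omZ_le_soZ h), omZ_relIndex_soZ h hA, soZ_index h hD]

theorem pgo_inn_dihedral (h : Ctx Q k) (hD : Diag Q k) (hA : negOne Q ∈ Omega F ⇑Q) :
    ∃ φ : ↥(pgoAut F ⇑Q) →* DihedralGroup 4, Function.Surjective φ ∧
      φ.ker = (Inn (POmega F ⇑Q)).subgroupOf (pgoAut F ⇑Q) := by
  obtain ⟨⟨v, hv, hvs⟩, w, hw, hws⟩ :=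
    exists_refl_spin h.good (by have := h.five; omega) h.two
  rw [← map_omZ h, ← map_top']
  refine exists_hom_map (conjAut Q) le_top (ker_le_omZ h) ?_
  have hidx : ((omZ Q).subgroupOf ⊤).index = 8 := by
    rw [← Subgroup.relIndex, Subgroup.relIndex_top_right, omZ_index h hD hA]
  obtain ⟨g₀, ν, o₀, hν, hm, -, -, -⟩ := hD
  have hg₀ : mult h.exists_ne g₀ = ν := mult_eq _ hm
  have hout : ∀ {u : ι → F}, Q u ≠ 0 → toSim Q (refl Q u) ∉ omZ Q := fun {u} hu hmem => by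
    have h1 := (toSim_mem_omZ_iff h _).1 hmem
    rw [mem_omega_iff h.good, mem_omega_iff h.good, dick_mul h.good, dick_refl h.nd hu,
      dick_negOne_eq h] at h1
    simp at h1
  refine exists_hom_dihedral hidx (u := ⟨toSim Q (refl Q v), trivial⟩)
    (v := ⟨toSim Q (refl Q w), trivial⟩) (x := ⟨g₀, trivial⟩)
    (y := ⟨toSim Q (refl Q v), trivial⟩) ?_ ?_ (hout hv) (hout hw) ?_ ?_ <;>
    simp only [Subgroup.mem_subgroupOf, Subgroup.coe_mul, InvMemClass.coe_inv]
  · rw [← map_mul, refl_mul_self, map_one]; exact one_mem _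
  · rw [← map_mul, refl_mul_self, map_one]; exact one_mem _
  · rw [← map_inv, ← map_mul, toSim_mem_omZ_iff_spin h hA _ (by
      rw [inv_eq_of_mul_eq_one_right (refl_mul_self Q v), dick_mul h.good, dick_refl h.nd hv,
        dick_refl h.nd hw]; norm_num),
      inv_eq_of_mul_eq_one_right (refl_mul_self Q v), spin_mul h.good, hvs, hws]
    norm_num
  · have e : ((toSim Q (refl Q v) : Sim Q) * g₀)⁻¹ * (g₀ * toSim Q (refl Q v)) =
        toSim Q (isoConj Q g₀⁻¹ (refl Q v) * refl Q v) := by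
      rw [map_mul, toSim_isoConj, inv_inv, _root_.mul_inv_rev, ← map_inv,
        inv_eq_of_mul_eq_one_right (refl_mul_self Q v)]
      simp only [mul_assoc]
    rw [e]
    obtain ⟨hd, hs⟩ := spin_isoConj h.good h.exists_ne g₀⁻¹ (refl Q v)
    rw [toSim_mem_omZ_iff_spin h hA _ (by
      rw [dick_mul h.good, hd, dick_refl h.nd hv]; norm_num), spin_mul h.good, hs, hvs,
      dick_refl h.nd hv, map_inv, map_inv, hg₀, hν]
    decide

theorem plus_inn_two (h : Ctx Q k) (hD : Diag Q k) (hB : negOne Q ∉ Omega F ⇑Q) :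
    ∃ φ : ↥((plusS h.exists_ne k).map (conjAut Q)) →* Multiplicative (ZMod 2),
      Function.Surjective φ ∧ φ.ker =
        (Inn (POmega F ⇑Q)).subgroupOf ((plusS h.exists_ne k).map (conjAut Q)) := by
  rw [← map_omZ h]
  refine exists_hom_map (conjAut Q) ((omZ_le_soZ h).trans (soZ_le_plusS h)) (ker_le_omZ h)
    (exists_hom_two ?_)
  rw [← Subgroup.relIndex, le_antisymm (omZ_le_soZ h) (soZ_le_omZ h hB), soZ_relIndex_plusS h hD]

theorem omZ_relIndex_plusS (h : Ctx Q k) (hD : Diag Q k) (hA : negOne Q ∈ Omega F ⇑Q) :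
    ((omZ Q).subgroupOf (plusS h.exists_ne k)).index = 4 := by
  rw [← Subgroup.relIndex, ← Subgroup.relIndex_mul_relIndex _ _ _ (omZ_le_soZ h) (soZ_le_plusS h),
    omZ_relIndex_soZ h hA, soZ_relIndex_plusS h hD]

theorem plus_inn_cyclic (h : Ctx Q k) (hD : Diag Q k) (hA : negOne Q ∈ Omega F ⇑Q) (hk : Odd k) :
    ∃ φ : ↥((plusS h.exists_ne k).map (conjAut Q)) →* Multiplicative (ZMod 4),
      Function.Surjective φ ∧ φ.ker =
        (Inn (POmega F ⇑Q)).subgroupOf ((plusS h.exists_ne k).map (conjAut Q)) := by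
  rw [← map_omZ h]
  refine exists_hom_map (conjAut Q) ((omZ_le_soZ h).trans (soZ_le_plusS h)) (ker_le_omZ h)
    (exists_hom_cyclic_four (omZ_relIndex_plusS h hD hA) ?_)
  obtain ⟨g₀, ν, o₀, hν, hm, hdet, hsq, hsp⟩ := hD
  have hg₀ : mult h.exists_ne g₀ = ν := mult_eq _ hm
  have hs₀ : g₀ ∈ plusS h.exists_ne k := by
    rw [plusS, MonoidHom.mem_ker, sgn_apply, hdet, hg₀, mul_inv_cancel]
  refine ⟨⟨g₀, hs₀⟩, ?_⟩
  rw [Subgroup.mem_subgroupOf, Subgroup.coe_mul, hsq,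
    Subgroup.mul_mem_cancel_left _ (scal_mem_omZ ν)]
  have hd : dick o₀ = 1 := by
    rw [dick_eq_one_iff_det h]
    have : sgn h.exists_ne k (g₀ * g₀) = 1 := by
      rw [map_mul, MonoidHom.mem_ker.1 hs₀, mul_one]
    rw [hsq, map_mul, sgn_scal h, one_mul] at this
    exact this
  rw [toSim_mem_omZ_iff_spin h hA o₀ hd, hsp, hk.neg_one_pow]
  norm_num

theorem plus_inn_klein (h : Ctx Q k) (hD : Diag Q k) (hA : negOne Q ∈ Omega F ⇑Q) (hk : Even k) :
    ∃ φ : ↥((plusS h.exists_ne k).map (conjAut Q)) →* Multiplicative (ZMod 2 × ZMod 2),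
      Function.Surjective φ ∧ φ.ker =
        (Inn (POmega F ⇑Q)).subgroupOf ((plusS h.exists_ne k).map (conjAut Q)) := by
  rw [← map_omZ h]
  refine exists_hom_map (conjAut Q) ((omZ_le_soZ h).trans (soZ_le_plusS h)) (ker_le_omZ h)
    (exists_hom_klein (omZ_relIndex_plusS h hD hA) ?_)
  obtain ⟨g₀, ν, o₀, hν, hm, hdet, hsq, hsp⟩ := hD
  have hg₀ : mult h.exists_ne g₀ = ν := mult_eq _ hm
  have hs₀ : sgn h.exists_ne k g₀ = 1 := by rw [sgn_apply, hdet, hg₀, mul_inv_cancel]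
  have hd₀ : dick o₀ = 1 := by
    rw [dick_eq_one_iff_det h, plusS, MonoidHom.mem_ker]
    have : sgn h.exists_ne k (g₀ * g₀) = 1 := by rw [map_mul, hs₀, mul_one]
    rwa [hsq, map_mul, sgn_scal h, one_mul] at this
  have hmem₀ : g₀ * g₀ ∈ omZ Q := by
    rw [hsq, Subgroup.mul_mem_cancel_left _ (scal_mem_omZ ν),
      toSim_mem_omZ_iff_spin h hA o₀ hd₀, hsp, hk.neg_one_pow]
  rintro ⟨g, hg⟩
  have hg' : sgn h.exists_ne k g = 1 := hg
  rw [Subgroup.mem_subgroupOf, Subgroup.coe_mul]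
  show g * g ∈ omZ Q
  obtain ⟨t, o, rfl | rfl⟩ := decomp_sim h hν hg₀ g
  all_goals
    simp only [map_mul, sgn_scal h, hs₀, one_mul] at hg'
    have hd : dick o = 1 := (dick_eq_one_iff_det h o).2 hg'
    have hsc : ∀ s : Fˣ, scal Q s ∈ omZ Q := fun s => Subgroup.mem_sup_right ⟨s, rfl⟩
  · rw [mul_assoc, ← mul_assoc (toSim Q o) (scal Q t), scal_comm t (toSim Q o), mul_assoc, ← mul_assoc,
      Subgroup.mul_mem_cancel_left _ (mul_mem (hsc t) (hsc t)), ← map_mul,
      toSim_mem_omZ_iff_spin h hA _ (by rw [dick_mul h.good, hd, one_mul]), spin_mul h.good]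
    rcases spin_eq_or h.good o with h1 | h1 <;> simp [h1]
  · obtain ⟨hd', hs'⟩ := spin_isoConj h.good h.exists_ne g₀⁻¹ o
    have key : g₀ * (scal Q t * toSim Q o) * (g₀ * (scal Q t * toSim Q o)) =
        scal Q t * scal Q t * (g₀ * g₀ * toSim Q (isoConj Q g₀⁻¹ o * o)) := by
      rw [map_mul, toSim_isoConj, inv_inv]
      have c : ∀ u : Sim Q, u * scal Q t = scal Q t * u := scal_comm t
      rw [← mul_assoc g₀ (scal Q t), c g₀, mul_assoc (scal Q t) g₀]
      generalize toSim Q o = w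
      rw [mul_assoc (scal Q t) (g₀ * w), ← mul_assoc (g₀ * w) (scal Q t), c (g₀ * w)]
      group
    rw [key, Subgroup.mul_mem_cancel_left _ (mul_mem (hsc t) (hsc t)),
      Subgroup.mul_mem_cancel_left _ hmem₀,
      toSim_mem_omZ_iff_spin h hA _ (by rw [dick_mul h.good, hd', hd, one_mul]),
      spin_mul h.good, hs', if_pos hd]
    rcases spin_eq_or h.good o with h1 | h1 <;> simp [h1]

end Cfsg.Agent.OrthOuter
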